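import Cfsg.Agent.Mrg.Omega.NOThreeL.RRed.Blk.AcNSame
import Cfsg.Agent.Mrg.Omega.NOThreeL.RRed.Blk.AsmOf
import Cfsg.Agent.Mrg.Omega.NOThreeL.RRed.Blk.TypesNormN
import Cfsg.Agent.Mrg.Omega.NOThreeL.RRed.Blk.AcNAt
import Cfsg.Agent.Mrg.Omega.NO3S.ThmB.Inst
import Cfsg.Agent.Mrg.Omega.NOThreeL.RRed.Blk.UniOf

section


/-!
# NO-3L, box R, nonsplit blocks (#26560, #27786 (ii)): `⟨EP^P⟩` normalises `C = C_U(⟨A, A^p⟩)`

`M` natural, `One M U A j`, `p` the Weyl element, `NBd (im Q A) (blk M j) C L (DD M j)`.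

* `exists_conj` : `q ∈ P` permutes the summands, `q c q⁻¹` acts on one summand if `c` does;
* `full_conj` : `U = V C_U(q a q⁻¹)`;
* `norm_other` : `x` on another summand normalises `C`;
* `exists_up` : an involution on the `j`-th summand is conjugate under `⟨A, A^p⟩` to one acting as `up β`;
* `norm_same` : `x` on the `j`-th summand normalises `C`;
* **`norm_gen`** : `q a q⁻¹` normalises `C`;
* `nbd_at` : `NBd` at the given Weyl element;
* **`norm_C`**, `norm_N_Z` : `KP S P U` normalises `C` and `blk M j` and centralises `DD M j`.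
-/

set_option autoImplicit false
set_option linter.unusedSectionVars false

namespace Cfsg.Agent.Omega.NOThreeL.RRed.Blk.AcNK

open Subgroup Cfsg Cfsg.Agent.ZN Cfsg.Agent.Omega.MinPar
open Cfsg.Agent.Omega.FFThm Cfsg.Agent.Lib.SL2Mat
open Cfsg.Agent.Omega.FrameFF (cv)
open Cfsg.Agent.Omega.NatPair
open Cfsg.Agent.Omega.NO3S.ThmB Cfsg.Agent.Omega.NO3S.KeyRad
open Cfsg.Agent.Omega.NOThreeL.RSplit (Nrm)
open Cfsg.Agent.Omega.NOThreeL.RRed.NS
open Cfsg.Agent.Omega.NOThreeL.RRed.Blk.TypesNat (XH ph ph_smul XH_faith no_XH two_of NBd_permg)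
open Cfsg.Agent.Omega.NOThreeL.RRed.Blk.AsmCore (EE EP KP im mem_im ph_mem_im im_mono fxd_im)
open scoped Pointwise

universe u

variable {G : Type u} [Group G] {F : Type} [Field F] {S P V D U H A : Subgroup G} {k : ℕ} {M : NatKM F S P V D k}

section grp

variable [CharP F 2] (h : Nb M)
include h

/-- conjugation permutes the summands -/
theorem exists_conj {q : G} (hq : q ∈ P) : ∃ σ : Equiv.Perm (Fin k), ∀ i, ∀ c ∈ P,
    ∀ B : Matrix.SpecialLinearGroup (Fin 2) F, ActsSL M.e V D c (sg i B) →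
      ∃ B', ActsSL M.e V D (q * c * q⁻¹) (sg (σ i) B') := by
  obtain ⟨σ, hσ⟩ := M.perm q hq
  refine ⟨σ, fun i c hc B hB => ?_⟩
  obtain ⟨B', hB'⟩ := M.norm q hq c hc (sg i B) hB.1
  refine ⟨B' (σ i), fun v hv l => ?_, fun d hd => ?_⟩
  · by_cases hl : l = σ i
    · subst hl
      rw [sg_self]
      exact hB' v hv _
    · rw [sg_ne hl, ap_one]
      have hw : q⁻¹ * v * q ∈ V := by
        have := (mem_normalizer_iff.1 (h.VP' (inv_mem hq)) v).1 hv
        rwa [inv_inv] at this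
      set w := q⁻¹ * v * q with hwd
      have hcw : c * w * c⁻¹ * w⁻¹ ∈ V := mul_mem ((mem_normalizer_iff.1 (h.VP' hc) w).1 hw) (inv_mem hw)
      have hqc : q * (c * w * c⁻¹ * w⁻¹) * q⁻¹ ∈ V := (mem_normalizer_iff.1 (h.VP' hq) _).1 hcw
      have e1 : q * c * q⁻¹ * v * (q * c * q⁻¹)⁻¹ = q * (c * w * c⁻¹ * w⁻¹) * q⁻¹ * v := by rw [hwd]; group
      rw [e1, M.mul _ hqc _ hv, Pi.add_apply]
      have h0 : M.e (c * w * c⁻¹ * w⁻¹) (σ.symm l) = 0 := by
        have hne : σ.symm l ≠ i := fun h1 => hl (by rw [← h1, Equiv.apply_symm_apply])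
        rw [M.mul _ ((mem_normalizer_iff.1 (h.VP' hc) w).1 hw) _ (inv_mem hw), Pi.add_apply, hB.1 w hw, sg_ne hne,
          ap_one, h.e_inv hw]
        funext t
        exact CharTwo.add_self_eq_zero _
      have h1 := (hσ _ hcw (σ.symm l)).2 h0
      rw [Equiv.apply_symm_apply] at h1
      rw [h1, zero_add]
  · have hw : q⁻¹ * d * q ∈ D := by
      have := (mem_normalizer_iff.1 (h.DP' (inv_mem hq)) d).1 hd
      rwa [inv_inv] at this
    have h1 := hB.2 _ hw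
    have e1 : q * c * q⁻¹ * d = q * (c * (q⁻¹ * d * q)) * q⁻¹ := by group
    rw [e1, h1]
    group

/-- `U = V C_U(q a q⁻¹)` -/
theorem full_conj (hPU : P ≤ normalizer (U : Set G)) {q a : G} (hq : q ∈ P)
    (hfull : ∀ u ∈ U, ∃ v ∈ V, ∃ c ∈ U, a * c = c * a ∧ u = v * c) :
    ∀ u ∈ U, ∃ v ∈ V, ∃ c ∈ U, q * a * q⁻¹ * c = c * (q * a * q⁻¹) ∧ u = v * c := by
  intro u hu
  have hu' : q⁻¹ * u * q ∈ U := by
    have := (mem_normalizer_iff.1 (hPU (inv_mem hq)) u).1 hu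
    rwa [inv_inv] at this
  obtain ⟨v, hv, c, hc, h1, h3⟩ := hfull _ hu'
  refine ⟨q * v * q⁻¹, (mem_normalizer_iff.1 (h.VP' hq) _).1 hv, q * c * q⁻¹, (mem_normalizer_iff.1 (hPU hq) _).1 hc, ?_, ?_⟩
  · have e1 : q * a * q⁻¹ * (q * c * q⁻¹) = q * (a * c) * q⁻¹ := by group
    rw [e1, h1]; group
  · have e1 : q * v * q⁻¹ * (q * c * q⁻¹) = q * (v * c) * q⁻¹ := by group
    rw [e1, ← h3]; group

variable {j : Fin k} (O : Cfsg.Agent.Omega.NO3S.ThmB.One M U A j) (hAP : A ≤ P) {p : G} (hp : p ∈ P)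
  (hpA : ActsSL M.e V D p (sg j (wl F)))
include O hAP hp hpA

/-- `⟨A, A^p⟩` centralises the other blocks -/
theorem cent_other {l : Fin k} (hl : l ≠ j) {y : G} (hy : y ∈ blk M l) {x : G} (hx : x ∈ A ⊔ MulAut.conj p • A) :
    x * y = y * x := by
  have h1 : A ⊔ MulAut.conj p • A ≤ centralizer ({y} : Set G) := by
    refine sup_le (fun a ha => ?_) fun a ha => ?_
    · rw [mem_centralizer_singleton_iff]
      obtain ⟨β, hβ⟩ := O.act a ha
      exact h.dir (hAP ha) hβ (sg_ne hl _) (blk_le h l hy) fun l' hl' => e_blk h hl' hy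
    · rw [mem_centralizer_singleton_iff]
      exact mul_inv_eq_iff_eq_mul.1 (cent_conj h O hAP hp hpA ha hl hy)
  exact mem_centralizer_singleton_iff.1 (h1 hx)

/-- **another summand** -/
theorem norm_other {x : G} (hx : x ∈ P) {l : Fin k} (hl : l ≠ j) {B : Matrix.SpecialLinearGroup (Fin 2) F}
    (hB : ActsSL M.e V D x (sg l B)) (hfull : ∀ u ∈ U, ∃ v ∈ V, ∃ c ∈ U, x * c = c * x ∧ u = v * c)
    {u : G} (hu : u ∈ U) (hc : ∀ y ∈ A ⊔ MulAut.conj p • A, y * u = u * y) :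
    ∀ y ∈ A ⊔ MulAut.conj p • A, y * (x * u * x⁻¹) = (x * u * x⁻¹) * y := by
  intro y hy
  obtain ⟨v, hv, c, hcU, h1, rfl⟩ := hfull u hu
  have e1 : x * (v * c) * x⁻¹ = (x * v * x⁻¹ * v⁻¹) * (v * c) := by
    have e2 : x * (v * c) * x⁻¹ = x * v * x⁻¹ * (x * c * x⁻¹) := by group
    have e3 : x * c * x⁻¹ = c := by rw [h1]; group
    rw [e2, e3]; group
  have h3 : y * (x * v * x⁻¹ * v⁻¹) = (x * v * x⁻¹ * v⁻¹) * y :=
    cent_other h O hAP hp hpA hl (mem_blk hx hB hv) hy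
  rw [e1]
  calc y * (x * v * x⁻¹ * v⁻¹ * (v * c)) = (y * (x * v * x⁻¹ * v⁻¹)) * (v * c) := by group
    _ = (x * v * x⁻¹ * v⁻¹) * (y * (v * c)) := by rw [h3]; group
    _ = _ := by rw [hc y hy]; group

/-- `⟨A, A^p⟩` acts on the `j`-th summand -/
theorem acts_E {x : G} (hx : x ∈ A ⊔ MulAut.conj p • A) : x ∈ P ∧ ∃ B, ActsSL M.e V D x (sg j B) := by
  let K : Subgroup G := {
    carrier := {x | x ∈ P ∧ ∃ B : Matrix.SpecialLinearGroup (Fin 2) F, ActsSL M.e V D x (sg j B)}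
    mul_mem' := by
      rintro a b ⟨ha, A', hA'⟩ ⟨hb, B', hB'⟩
      exact ⟨mul_mem ha hb, A' * B', by rw [sg_mul]; exact h.acts_mul hb hA' hB'⟩
    one_mem' := ⟨one_mem _, 1, by rw [sg_one]; exact Nb.acts_one⟩
    inv_mem' := by
      rintro a ⟨ha, A', hA'⟩
      refine ⟨inv_mem ha, A'⁻¹, ?_⟩
      have h1 := h.acts_inv ha hA'
      have e1 : (sg j A' : Fin k → _)⁻¹ = sg j A'⁻¹ := by
        rw [inv_eq_iff_mul_eq_one, ← sg_mul, mul_inv_cancel, sg_one]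
      rwa [e1] at h1 }
  have h1 : A ⊔ MulAut.conj p • A ≤ K := by
    refine sup_le (fun a ha => ?_) fun a ha => ?_
    · obtain ⟨β, hβ⟩ := O.act a ha
      exact ⟨hAP ha, _, hβ⟩
    · obtain ⟨β, hβ⟩ := acts_conj h O hAP hp hpA ha
      exact ⟨conj_le_P hAP hp ha, _, hβ⟩
  exact h1 hx

omit h O hAP hp hpA [CharP F 2] in
theorem eq_up {B : Matrix.SpecialLinearGroup (Fin 2) F} {s : F} (hs : s ≠ 0) (h1 : ap B ![s, 0] = ![s, 0]) :
    B = up (ent B 0 1) := by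
  have a0 := congrFun h1 0
  have a1 := congrFun h1 1
  rw [ap_zero'] at a0
  rw [ap_one'] at a1
  simp only [Matrix.cons_val_zero, Matrix.cons_val_one, mul_zero, add_zero] at a0 a1
  have b0 : ent B 0 0 = 1 := mul_right_cancel₀ hs (by rw [a0, one_mul])
  have b1 : ent B 1 0 = 0 := (mul_eq_zero.1 a1).resolve_right hs
  have hd := det_eq B
  rw [b0, b1, mul_zero, sub_zero, one_mul] at hd
  exact ext_ent (b0.trans (up_00 _).symm) (up_01 _).symm (b1.trans (up_10 _).symm) (hd.trans (up_11 _).symm)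

/-- **an involution is conjugate to `up β`** -/
theorem exists_up {x : G} (hx : x ∈ P) {B : Matrix.SpecialLinearGroup (Fin 2) F}
    (hB : ActsSL M.e V D x (sg j B)) (h2 : ∀ v ∈ V, x * x * v = v * (x * x)) (hne : ∃ v ∈ V, x * v ≠ v * x) :
    ∃ e ∈ A ⊔ MulAut.conj p • A, ∃ β, ActsSL M.e V D (e * x * e⁻¹) (sg j (up β)) := by
  -- a vector which is moved
  obtain ⟨v, hv, hvne⟩ : ∃ v ∈ V, M.e (x * v * x⁻¹) j ≠ M.e v j := by
    by_contra hcon
    push Not at hcon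
    obtain ⟨v, hv, hvne⟩ := hne
    refine hvne (h.triv x hx (fun w hw => ?_) hB.2 v hv)
    funext l
    by_cases hl : l = j
    · subst hl; exact hcon w hw
    · rw [hB.1 w hw, sg_ne hl, ap_one]
  have hxv : x * v * x⁻¹ ∈ V := (mem_normalizer_iff.1 (h.VP' hx) v).1 hv
  have hm := mem_blk hx hB hv
  obtain ⟨e, he, hY⟩ := exists_YY h O hAP hp hpA hm
  obtain ⟨heP, g, hg⟩ := acts_E h O hAP hp hpA he
  refine ⟨e, he, ?_⟩
  -- `y = e x e⁻¹`
  have hgi := h.acts_inv heP hg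
  have hy0 := h.acts_mul (inv_mem heP) (h.acts_mul hx hg hB) hgi
  have e1 : sg j g * sg j B * (sg j g)⁻¹ = (sg j (g * B * g⁻¹) : Fin k → _) := by
    rw [mul_inv_eq_iff_eq_mul, ← sg_mul, ← sg_mul, inv_mul_cancel_right]
  rw [e1] at hy0
  set y := e * x * e⁻¹ with hy
  set C' := g * B * g⁻¹ with hC'
  have hyP : y ∈ P := mul_mem (mul_mem heP hx) (inv_mem heP)
  set w := e * v * e⁻¹ with hw
  have hwV : w ∈ V := (mem_normalizer_iff.1 (h.VP' heP) v).1 hv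
  have hyw : y * w * y⁻¹ ∈ V := (mem_normalizer_iff.1 (h.VP' hyP) w).1 hwV
  -- the commutator `[y, w] = [x, v]^e`
  have hcm : y * w * y⁻¹ * w⁻¹ = e * (x * v * x⁻¹ * v⁻¹) * e⁻¹ := by rw [hy, hw]; group
  have hcoord : M.e (y * w * y⁻¹ * w⁻¹) j = M.e (y * w * y⁻¹) j + M.e w j := by
    rw [M.mul _ hyw _ (inv_mem hwV), Pi.add_apply, h.e_inv hwV]
  have hs1 : M.e (y * w * y⁻¹ * w⁻¹) j 1 = 0 := by rw [hcm]; exact hY.2
  have hs0 : M.e (y * w * y⁻¹ * w⁻¹) j 0 ≠ 0 := by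
    intro h0
    have h3 : M.e (y * w * y⁻¹ * w⁻¹) j = 0 := by
      funext t
      fin_cases t
      · exact h0
      · exact hs1
    rw [hcoord] at h3
    have h4 : M.e (y * w * y⁻¹) j = M.e w j := by
      rw [← sub_eq_zero]
      rw [← h3]
      funext t
      exact CharTwo.sub_eq_add _ _
    -- back to `x`
    apply hvne
    have h5 : y * w * y⁻¹ = e * (x * v * x⁻¹) * e⁻¹ := by rw [hy, hw]; group
    rw [h5, hg.1 _ hxv, hw, hg.1 _ hv, sg_self] at h4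
    have h6 := congrArg (ap g⁻¹) h4
    rwa [← ap_mul, ← ap_mul, inv_mul_cancel, ap_one, ap_one] at h6
  -- the vector `(s, 0)` is fixed
  have hyy : y * y * w * (y * y)⁻¹ = w := by
    have e2 : y * y * w * (y * y)⁻¹ = e * (x * x * v * (x * x)⁻¹) * e⁻¹ := by rw [hy, hw]; group
    rw [e2, h2 v hv, mul_inv_cancel_right]
  have hfix : ap C' (M.e (y * w * y⁻¹ * w⁻¹) j) = M.e (y * w * y⁻¹ * w⁻¹) j := by
    have hmem : y * w * y⁻¹ * w⁻¹ ∈ V := mul_mem hyw (inv_mem hwV)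
    have h3 := hy0.1 _ hmem j
    rw [sg_self] at h3
    rw [← h3]
    have e2 : y * (y * w * y⁻¹ * w⁻¹) * y⁻¹ = (y * y * w * (y * y)⁻¹) * (y * w * y⁻¹)⁻¹ := by group
    rw [e2, hyy, M.mul _ hwV _ (inv_mem hyw), Pi.add_apply, h.e_inv hyw, hcoord, add_comm]
  have hvec : M.e (y * w * y⁻¹ * w⁻¹) j = ![M.e (y * w * y⁻¹ * w⁻¹) j 0, 0] := by
    funext t
    fin_cases t
    · rfl
    · exact hs1
  rw [hvec] at hfix
  exact ⟨_, by rw [eq_up hs0 hfix] at hy0; exact hy0⟩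

end grp

section fin

variable [Finite G] [Finite F] [CharP F 2] (h : Nb M) (hF : 2 < Nat.card F) (Q : Nrm H U) (hPH : P ≤ H) (hVU : V ≤ U)
  (hU2 : IsElementaryAbelian 2 U) (noH : NoOverM U H)
  {j : Fin k} (O : Cfsg.Agent.Omega.NO3S.ThmB.One M U A j) (hAP : A ≤ P) {p : G} (hp : p ∈ P)
  (hpA : ActsSL M.e V D p (sg j (wl F))) {L : AddSubgroup Q.Mod} (h4 : 4 ≤ Nat.card (im Q A))
  (nb : AsmN.NBd (im Q A) (Q.ad (blk M j)) (Q.ad (centralizer ((A ⊔ MulAut.conj p • A : Subgroup G) : Set G))) L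
    (Q.ad (DD M j)))
include h hF hPH hVU hU2 noH O hAP hp hpA h4 nb

omit hAP hp hpA h4 nb hU2 noH in
/-- `y` acts as `up β` on the `j`-th summand: it commutes with `im Q A` -/
theorem comm_up (hU2 : IsElementaryAbelian 2 U) (noH : NoOverM U H) (hAP : A ≤ P) {y : G} (hy : y ∈ P) {β : F}
    (hβ : ActsSL M.e V D y (sg j (up β))) (hfull : ∀ u ∈ U, ∃ v ∈ V, ∃ c ∈ U, y * c = c * y ∧ u = v * c) {a : XH Q}
    (ha : a ∈ im Q A) : a * ph Q ⟨y, hPH hy⟩ = ph Q ⟨y, hPH hy⟩ * a := by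
  obtain ⟨l, g, C⟩ := exists_cd h hF j
  -- `[U, y] ≤ Y_j`
  have h1 : ∀ m : Q.Mod, ph Q ⟨y, hPH hy⟩ • m - m ∈ Q.ad (YY h j) := by
    intro m
    obtain ⟨v, hv, c, hc, h1, h3⟩ := hfull (Q.val m) (Q.val_mem m)
    rw [Nrm.mem_ad, ph_smul, Nrm.val_sub, Nrm.val_smul]
    have e1 : y * Q.val m * y⁻¹ * (Q.val m)⁻¹ = y * v * y⁻¹ * v⁻¹ := by
      rw [h3]
      have e2 : y * (v * c) * y⁻¹ * (v * c)⁻¹ = y * v * y⁻¹ * (y * c * y⁻¹) * c⁻¹ * v⁻¹ := by group
      have e3 : y * c * y⁻¹ = c := by rw [h1]; group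
      rw [e2, e3]; group
    change y * Q.val m * y⁻¹ * (Q.val m)⁻¹ ∈ YY h j
    rw [e1, C.cm y hy β hβ v hv]
    exact mul_mem (C.lY h _) (C.gY h _)
  -- `y` centralises `Y_j`
  have h3 : ∀ m ∈ Q.ad (YY h j), ph Q ⟨y, hPH hy⟩ • m = m := by
    intro m hm
    rw [ph_smul, smul_eq_iff]
    have h5 := C.cm y hy β hβ _ (YY_le_V h j hm)
    rw [hm.2, mul_zero, zero_pow two_ne_zero, mul_zero, C.l_zero, C.g_zero, one_mul] at h5
    exact mul_inv_eq_one.1 h5
  have hbr := UniSD.brk_one h hF Q hPH hVU O hAP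
  refine (Asm.sit (two_of Q hU2) (fun x hx => XH_faith Q x hx) (no_XH Q noH)).comm_of (mem_top _) (mem_top _)
    (fun m => ?_) fun m => ?_
  · refine h3 _ ?_
    rw [← hbr]
    exact Types.sub_mem_brk ha m
  · have h5 : Q.ad (YY h j) ≤ fxd (im Q A) := by
      intro m hm
      rw [fxd_im Q (hAP.trans hPH), mem_centralizer_iff]
      exact fun a ha => cent_YY h O hAP ha hm
    exact mem_fxd.1 (h5 (h1 m)) a ha

/-- **the same summand** -/
theorem norm_same {x : G} (hx : x ∈ P) {B : Matrix.SpecialLinearGroup (Fin 2) F}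
    (hB : ActsSL M.e V D x (sg j B)) (hxx : ∀ v ∈ V, x * x * v = v * (x * x))
    (hfull : ∀ u ∈ U, ∃ v ∈ V, ∃ c ∈ U, x * c = c * x ∧ u = v * c) {m : Q.Mod}
    (hm : m ∈ Q.ad (centralizer ((A ⊔ MulAut.conj p • A : Subgroup G) : Set G))) :
    ph Q ⟨x, hPH hx⟩ • m ∈ Q.ad (centralizer ((A ⊔ MulAut.conj p • A : Subgroup G) : Set G)) := by
  have hPU : P ≤ normalizer (U : Set G) := fun q hq => Q.nrm (hPH hq)
  by_cases hne : ∃ v ∈ V, x * v ≠ v * x
  · obtain ⟨e, he, β, hβ⟩ := exists_up h O hAP hp hpA hx hB hxx hne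
    obtain ⟨heP, -⟩ := acts_E h O hAP hp hpA he
    have hyP : e * x * e⁻¹ ∈ P := mul_mem (mul_mem heP hx) (inv_mem heP)
    have hyf := full_conj h hPU heP hfull
    have hc : ∀ a ∈ im Q A, a * ph Q ⟨e * x * e⁻¹, hPH hyP⟩ = ph Q ⟨e * x * e⁻¹, hPH hyP⟩ * a := fun a ha =>
      comm_up h hF Q hPH hVU O hU2 noH hAP hyP hβ hyf ha
    set y : XH Q := ph Q ⟨e * x * e⁻¹, hPH hyP⟩ with hy
    have hcj : MulAut.conj y • im Q A = im Q A := by
      apply le_antisymm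
      · intro z hz
        have h1 := Types.mem_cj.1 hz
        have h3 := hc _ h1
        have e1 : z = y⁻¹ * z * y := by
          have e2 : z * y = y * (y⁻¹ * z * y) := by group
          rw [← h3] at e2
          exact mul_right_cancel e2
        rw [e1]; exact h1
      · intro z hz
        rw [Types.mem_cj]
        have h3 := hc _ hz
        have e1 : y⁻¹ * z * y = z := by rw [mul_assoc, h3, inv_mul_cancel_left]
        rw [e1]; exact hz
    have hZ : y • Q.ad (DD M j) = Q.ad (DD M j) := by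
      have h5 : ∀ m ∈ Q.ad (DD M j), y • m = m := by
        intro m hm
        rw [hy, ph_smul, smul_eq_iff, mul_inv_eq_iff_eq_mul]
        exact hβ.2 _ hm.2
      apply le_antisymm
      · rintro _ ⟨m, hm, rfl⟩
        change y • m ∈ _
        rw [h5 m hm]; exact hm
      · exact fun m hm => ⟨m, hm, h5 m hm⟩
    obtain ⟨-, h7, -⟩ := NBd_permg nb nb (two_of Q hU2) (fun x hx => XH_faith Q x hx) (no_XH Q noH) h4 y hcj hZ
    have h8 : ∀ m ∈ Q.ad (centralizer ((A ⊔ MulAut.conj p • A : Subgroup G) : Set G)), y • m ∈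
        Q.ad (centralizer ((A ⊔ MulAut.conj p • A : Subgroup G) : Set G)) := by
      intro m hm
      exact (SetLike.ext_iff.1 h7 _).1 ⟨m, hm, rfl⟩
    -- `e` is trivial on `C`
    have he1 : ∀ m ∈ Q.ad (centralizer ((A ⊔ MulAut.conj p • A : Subgroup G) : Set G)),
        ph Q ⟨e, hPH heP⟩ • m = m := by
      intro m hm
      rw [ph_smul, smul_eq_iff, mul_inv_eq_iff_eq_mul]
      exact mem_centralizer_iff.1 hm e he
    have e3 : ph Q ⟨x, hPH hx⟩ = (ph Q ⟨e, hPH heP⟩)⁻¹ * y * ph Q ⟨e, hPH heP⟩ := by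
      rw [hy, ← map_inv, ← map_mul, ← map_mul]
      congr 1
      apply Subtype.ext
      change x = e⁻¹ * (e * x * e⁻¹) * e
      group
    rw [e3, mul_smul, mul_smul, he1 m hm]
    have h9 := h8 m hm
    rw [inv_smul_eq_iff.2 (he1 _ h9).symm]
    exact h9
  · push Not at hne
    have e1 : ph Q ⟨x, hPH hx⟩ • m = m := by
      rw [ph_smul, smul_eq_iff, mul_inv_eq_iff_eq_mul]
      obtain ⟨v, hv, c, hc, h1, h3⟩ := hfull (Q.val m) (Q.val_mem m)
      change x * Q.val m = Q.val m * x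
      rw [h3, ← mul_assoc, hne v hv, mul_assoc, h1, mul_assoc]
    rw [e1]; exact hm

/-- **`q a q⁻¹` normalises `C`.** -/
theorem norm_gen {A' : Subgroup G} (hA' : A' ≤ P) {i : Fin k} (O' : Cfsg.Agent.Omega.NO3S.ThmB.One M U A' i)
    {q : G} (hq : q ∈ P) {a : G} (ha : a ∈ A') (hx : q * a * q⁻¹ ∈ H) {m : Q.Mod}
    (hm : m ∈ Q.ad (centralizer ((A ⊔ MulAut.conj p • A : Subgroup G) : Set G))) :
    ph Q ⟨q * a * q⁻¹, hx⟩ • m ∈ Q.ad (centralizer ((A ⊔ MulAut.conj p • A : Subgroup G) : Set G)) := by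
  have hPU : P ≤ normalizer (U : Set G) := fun q hq => Q.nrm (hPH hq)
  have hxP : q * a * q⁻¹ ∈ P := mul_mem (mul_mem hq (hA' ha)) (inv_mem hq)
  obtain ⟨σ, hσ⟩ := exists_conj h hq
  obtain ⟨β, hβ⟩ := O'.act a ha
  obtain ⟨B, hB⟩ := hσ i a (hA' ha) _ hβ
  have hfull : ∀ u ∈ U, ∃ v ∈ V, ∃ c ∈ U, a * c = c * a ∧ u = v * c := by
    intro u hu
    obtain ⟨v, hv, -, c, hcU, hcc, h1⟩ := O'.full u hu
    exact ⟨v, hv, c, hcU, hcc a ha, h1⟩
  have hf := full_conj h hPU hq hfull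
  by_cases hl : σ i = j
  · rw [hl] at hB
    refine norm_same h hF Q hPH hVU hU2 noH O hAP hp hpA h4 nb hxP hB (fun v hv => ?_) hf hm
    -- `x²` is trivial on `V`
    have h1 := h.acts_mul (hA' ha) hβ hβ
    rw [← sg_mul, up_mul, CharTwo.add_self_eq_zero, up_zero, sg_one] at h1
    have hw : q⁻¹ * v * q ∈ V := by
      have := (mem_normalizer_iff.1 (h.VP' (inv_mem hq)) v).1 hv
      rwa [inv_inv] at this
    have h3 := h.comm_of_one (mul_mem (hA' ha) (hA' ha)) h1 hw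
    have e1 : q * a * q⁻¹ * (q * a * q⁻¹) * v = q * (a * a * (q⁻¹ * v * q)) * q⁻¹ := by group
    rw [e1, h3]; group
  · have hm1 := mem_centralizer_iff.1 hm
    have h5 := norm_other h O hAP hp hpA hxP hl hB hf (Q.val_mem m) fun y hy => hm1 y hy
    rw [Nrm.mem_ad, ph_smul, Nrm.val_smul, mem_centralizer_iff]
    exact fun y hy => h5 y hy

end fin

section at_

variable [Finite G] [Finite F] [CharP F 2] (h : Nb M) (hF : 2 < Nat.card F) (Q : Nrm H U) (hPH : P ≤ H) (hVU : V ≤ U)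
  {j : Fin k} (O : Cfsg.Agent.Omega.NO3S.ThmB.One M U A j) (hAP : A ≤ P) {p : G} (hp : p ∈ P)
  (hpA : ActsSL M.e V D p (sg j (wl F)))
include h hF hPH hVU O hAP hp hpA

/-- the block at the Weyl element `p` -/
theorem nbd_at : ∃ L : AddSubgroup Q.Mod, AsmN.NBd (im Q A) (Q.ad (blk M j))
    (Q.ad (centralizer ((A ⊔ MulAut.conj p • A : Subgroup G) : Set G))) L (Q.ad (DD M j)) := by
  obtain ⟨e, f, d, up, lo, hb, h1, -, h3, h4, h5, h6⟩ := AcNAt.exists_bkD_at h hF Q hPH hVU O hAP hp hpA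
  have hC : Q.ad (U ⊓ centralizer ((A ⊔ MulAut.conj p • A : Subgroup G) : Set G)) =
      Q.ad (centralizer ((A ⊔ MulAut.conj p • A : Subgroup G) : Set G)) :=
    le_antisymm (Nrm.ad_mono inf_le_right) fun m hm => ⟨Q.val_mem m, hm⟩
  have hF4 : 4 ≤ Nat.card F := by
    by_contra hcon
    have h6 : Nat.card F = 3 := by omega
    have h7 : (3 : ℕ) • (1 : F) = 0 := by rw [← h6]; exact card_nsmul_eq_zero'
    have h8 : (2 : ℕ) • (1 : F) = 0 := by rw [two_nsmul]; exact CharTwo.add_self_eq_zero 1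
    have h9 : (3 : ℕ) • (1 : F) = (2 : ℕ) • (1 : F) + 1 := succ_nsmul _ _
    rw [h7, h8, zero_add] at h9
    exact zero_ne_one h9
  have key : TypesNat.IsNBD Q A (un Q e.range) (DD M j) (blk M j)
      (U ⊓ centralizer ((A ⊔ MulAut.conj p • A : Subgroup G) : Set G)) :=
    ⟨F, inferInstance, inferInstance, inferInstance, e, f, d, up, lo, hF4,
      { bk := by rw [hC]; exact hb
        upA := h1
        Aup := fun a ha => h3 a ha
        AH := hAP.trans hPH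
        eR := (IsNBDOf.ad_un Q _).symm
        dD := h6
        eN := h5
        RU := IsNBDOf.un_le Q _
        DU := (DD_le_YY h j).trans ((YY_le_V h j).trans hVU)
        NU := (blk_le h j).trans hVU
        CU := inf_le_left }⟩
  refine ⟨Q.ad (un Q e.range), ?_⟩
  rw [← hC]
  exact key.toNBd

/-- `|F| ≤ |im Q A|` -/
theorem card_at : Nat.card F ≤ Nat.card (im Q A) := by
  obtain ⟨e, f, d, up, lo, hb, h1, -⟩ := AcNAt.exists_bkD_at h hF Q hPH hVU O hAP hp hpA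
  refine Nat.card_le_card_of_injective (fun t => (⟨ph Q (up t), ph_mem_im Q (h1 t)⟩ : im Q A)) fun s t hst => ?_
  have e1 : ph Q (up s) = ph Q (up t) := congrArg Subtype.val hst
  have e2 : up s • f 1 = up t • f 1 := by rw [← ph_smul, e1, ph_smul]
  rw [hb.up_f, hb.up_f, mul_one, mul_one, one_pow, mul_one, mul_one] at e2
  have e3 : e (s - t) + f 0 = d t - d s := by
    rw [map_sub, map_zero, add_zero]
    have e4 : e s + d s = e t + d t := by
      rw [add_assoc, add_assoc] at e2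
      exact add_left_cancel e2
    rw [sub_eq_sub_iff_add_eq_add, e4, add_comm]
  have e5 := (hb.ind (s - t) 0 (by rw [e3]; exact sub_mem (hb.dC _) (hb.dC _))).1
  exact sub_eq_zero.1 e5

end at_

/-! ### `KP S P U` -/

section kp

variable [Finite G] {S : Sylow 2 G} {L P H : Subgroup G} (hc : IsCharacteristicTwoType G)
  (hP : IsParS (S : Subgroup G) P) (hPL : P ≤ L) (LH : L ≤ H) (hU2 : IsElementaryAbelian 2 (zl (S : Subgroup G) L))
  (noH : NoOverM (zl (S : Subgroup G) L) H) (Q : Nrm H (zl (S : Subgroup G) L))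
  {F : Type} [Field F] [Finite F] [CharP F 2] {k : ℕ}
  (M : NatKM F (S : Subgroup G) P (zl (S : Subgroup G) P) (cv (S : Subgroup G) P) k)
  {A : Subgroup G} {j : Fin k}
include hc hP hPL LH hU2 noH Q M

theorem exists_one (hA : A ∈ EP (S : Subgroup G) P (zl (S : Subgroup G) L)) :
    ∃ i, Cfsg.Agent.Omega.NO3S.ThmB.One M (zl (S : Subgroup G) L) A i :=
  Tt.one (NO3S.ThmB.Inst.nb hc hP M) (tt_of_mx hA.1.2 noH ((hA.1.1.trans hP.le).trans (hPL.trans LH))) hU2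
    (NOThreeL.Star.zl_mono _ hPL) hA.1.1 hA.2

/-- **`KP` normalises `C`** -/
theorem norm_C (hF : 2 < Nat.card F) (hA : A ∈ EP (S : Subgroup G) P (zl (S : Subgroup G) L))
    (O : Cfsg.Agent.Omega.NO3S.ThmB.One M (zl (S : Subgroup G) L) A j) {p : G} (hp : p ∈ P)
    (hpA : ActsSL M.e (zl (S : Subgroup G) P) (cv (S : Subgroup G) P) p (sg j (wl F))) :
    ∀ x ∈ im Q (KP (S : Subgroup G) P (zl (S : Subgroup G) L)),
      ∀ m ∈ Q.ad (centralizer ((A ⊔ MulAut.conj p • A : Subgroup G) : Set G)),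
        x • m ∈ Q.ad (centralizer ((A ⊔ MulAut.conj p • A : Subgroup G) : Set G)) := by
  have h : Nb M := NO3S.ThmB.Inst.nb hc hP M
  have hVU : zl (S : Subgroup G) P ≤ zl (S : Subgroup G) L := NOThreeL.Star.zl_mono _ hPL
  have hPH := hPL.trans LH
  have hAP : A ≤ P := hA.1.1.trans hP.le
  obtain ⟨L', nb⟩ := nbd_at h hF Q hPH hVU O hAP hp hpA
  have h4 : 4 ≤ Nat.card (im Q A) := by
    refine le_trans ?_ (card_at h hF Q hPH hVU O hAP hp hpA)
    by_contra hcon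
    have h6 : Nat.card F = 3 := by omega
    have h7 : (3 : ℕ) • (1 : F) = 0 := by rw [← h6]; exact card_nsmul_eq_zero'
    have h8 : (2 : ℕ) • (1 : F) = 0 := by rw [two_nsmul]; exact CharTwo.add_self_eq_zero 1
    have h9 : (3 : ℕ) • (1 : F) = (2 : ℕ) • (1 : F) + 1 := succ_nsmul _ _
    rw [h7, h8, zero_add] at h9
    exact zero_ne_one h9
  set W : AddSubgroup Q.Mod := Q.ad (centralizer ((A ⊔ MulAut.conj p • A : Subgroup G) : Set G)) with hW
  let T : Subgroup (XH Q) := {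
    carrier := {x | ∀ m, m ∈ W ↔ x • m ∈ W}
    mul_mem' := fun {a b} ha hb m => by rw [mul_smul, ← ha, ← hb]
    one_mem' := fun m => by rw [one_smul]
    inv_mem' := fun {a} ha m => by rw [ha (a⁻¹ • m), smul_inv_smul] }
  have key : im Q (KP (S : Subgroup G) P (zl (S : Subgroup G) L)) ≤ T := by
    apply AsmCore.im_le_of
    rw [KP, closure_le]
    rintro _ ⟨q, hq, A', hA', a, ha, rfl⟩
    obtain ⟨i, O'⟩ : ∃ i, Cfsg.Agent.Omega.NO3S.ThmB.One M (zl (S : Subgroup G) L) A' i :=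
      Tt.one (NO3S.ThmB.Inst.nb hc hP M) (tt_of_mx hA'.1.2 noH ((hA'.1.1.trans hP.le).trans (hPL.trans LH))) hU2
        (NOThreeL.Star.zl_mono _ hPL) hA'.1.1 hA'.2
    have hAP' : A' ≤ P := hA'.1.1.trans hP.le
    have hx : q * a * q⁻¹ ∈ H := hPH (mul_mem (mul_mem hq (hAP' ha)) (inv_mem hq))
    have hx' : q * a⁻¹ * q⁻¹ ∈ H := hPH (mul_mem (mul_mem hq (hAP' (inv_mem ha))) (inv_mem hq))
    refine ⟨⟨q * a * q⁻¹, hx⟩, ?_, rfl⟩
    rw [SetLike.mem_coe, mem_comap]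
    change ∀ m, m ∈ W ↔ ph Q ⟨q * a * q⁻¹, hx⟩ • m ∈ W
    intro m
    refine ⟨fun hm => norm_gen h hF Q hPH hVU hU2 noH O hAP hp hpA h4 nb hAP' O' hq ha hx hm, fun hm => ?_⟩
    have h5 := norm_gen h hF Q hPH hVU hU2 noH O hAP hp hpA h4 nb hAP' O' hq (inv_mem ha) hx' hm
    have e1 : ph Q ⟨q * a⁻¹ * q⁻¹, hx'⟩ = (ph Q ⟨q * a * q⁻¹, hx⟩)⁻¹ := by
      rw [← map_inv]
      congr 1
      apply Subtype.ext
      change q * a⁻¹ * q⁻¹ = (q * a * q⁻¹)⁻¹
      group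
    rwa [e1, inv_smul_smul] at h5
  exact fun x hx m hm => (key hx m).1 hm

/-- `KP` normalises the block and centralises the radical -/
theorem norm_N_Z : ∀ x ∈ im Q (KP (S : Subgroup G) P (zl (S : Subgroup G) L)),
    (∀ m ∈ Q.ad (blk M j), x • m ∈ Q.ad (blk M j)) ∧ ∀ m ∈ Q.ad (DD M j), x • m = m := by
  have h : Nb M := NO3S.ThmB.Inst.nb hc hP M
  have hPH := hPL.trans LH
  let T : Subgroup (XH Q) := {
    carrier := {x | (∀ m, m ∈ Q.ad (blk M j) ↔ x • m ∈ Q.ad (blk M j)) ∧ ∀ m ∈ Q.ad (DD M j), x • m = m}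
    mul_mem' := fun {a b} ha hb => ⟨fun m => by rw [mul_smul, ← ha.1, ← hb.1], fun m hm => by
      rw [mul_smul, hb.2 m hm, ha.2 m hm]⟩
    one_mem' := ⟨fun m => by rw [one_smul], fun m _ => one_smul _ _⟩
    inv_mem' := fun {a} ha => ⟨fun m => by rw [ha.1 (a⁻¹ • m), smul_inv_smul], fun m hm => by
      rw [inv_smul_eq_iff, ha.2 m hm]⟩ }
  have key : im Q (KP (S : Subgroup G) P (zl (S : Subgroup G) L)) ≤ T := by
    apply AsmCore.im_le_of
    rw [KP, closure_le]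
    rintro _ ⟨q, hq, A', hA', a, ha, rfl⟩
    obtain ⟨i, O'⟩ : ∃ i, Cfsg.Agent.Omega.NO3S.ThmB.One M (zl (S : Subgroup G) L) A' i :=
      Tt.one (NO3S.ThmB.Inst.nb hc hP M) (tt_of_mx hA'.1.2 noH ((hA'.1.1.trans hP.le).trans (hPL.trans LH))) hU2
        (NOThreeL.Star.zl_mono _ hPL) hA'.1.1 hA'.2
    have hAP' : A' ≤ P := hA'.1.1.trans hP.le
    have hxP : q * a * q⁻¹ ∈ P := mul_mem (mul_mem hq (hAP' ha)) (inv_mem hq)
    obtain ⟨σ, hσ⟩ := exists_conj h hq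
    obtain ⟨β, hβ⟩ := O'.act a ha
    obtain ⟨B, hB⟩ := hσ i a (hAP' ha) _ hβ
    have hN : ∀ {x : G}, x ∈ P → (∃ B, ActsSL M.e (zl (S : Subgroup G) P) (cv (S : Subgroup G) P) x (sg (σ i) B)) →
        ∀ v ∈ blk M j, x * v * x⁻¹ ∈ blk M j := by
      rintro x hx ⟨B, hB⟩ v hv
      by_cases hl : σ i = j
      · rw [hl] at hB
        exact conj_blk h hx hB hv
      · have h1 := h.dir hx hB (sg_ne (Ne.symm hl) B) (blk_le h j hv) fun l hl => e_blk h hl hv
        rw [h1, mul_inv_cancel_right]; exact hv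
    have hBi := h.acts_inv hxP hB
    have hBi' : ∃ B', ActsSL M.e (zl (S : Subgroup G) P) (cv (S : Subgroup G) P) (q * a * q⁻¹)⁻¹ (sg (σ i) B') := by
      refine ⟨B⁻¹, ?_⟩
      have e1 : (sg (σ i) B : Fin k → _)⁻¹ = sg (σ i) B⁻¹ := by
        rw [inv_eq_iff_mul_eq_one, ← sg_mul, mul_inv_cancel, sg_one]
      rwa [e1] at hBi
    refine ⟨⟨q * a * q⁻¹, hPH hxP⟩, ?_, rfl⟩
    rw [SetLike.mem_coe, mem_comap]
    refine ⟨fun m => ?_, fun m hm => ?_⟩
    · rw [Nrm.mem_ad, Nrm.mem_ad, ph_smul, Nrm.val_smul]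
      refine ⟨fun hm => hN hxP ⟨B, hB⟩ _ hm, fun hm => ?_⟩
      have h5 := hN (inv_mem hxP) hBi' _ hm
      have e1 : (q * a * q⁻¹)⁻¹ * ((q * a * q⁻¹) * Q.val m * (q * a * q⁻¹)⁻¹) * (q * a * q⁻¹)⁻¹⁻¹ = Q.val m := by
        group
      have h6 : (q * a * q⁻¹)⁻¹ * ((q * a * q⁻¹) * Q.val m * (q * a * q⁻¹)⁻¹) * (q * a * q⁻¹)⁻¹⁻¹ ∈ blk M j := h5
      rwa [e1] at h6
    · rw [ph_smul, smul_eq_iff, mul_inv_eq_iff_eq_mul]
      exact hB.2 _ hm.2
  exact fun x hx => ⟨fun m hm => ((key hx).1 m).1 hm, (key hx).2⟩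

end kp

end Cfsg.Agent.Omega.NOThreeL.RRed.Blk.AcNK

end

section


/-!
# NO-3L, box R: the inputs `InN` of the family of nonsplit blocks

* **`oth_of`** : the other members of `EE` centralise the natural block (field `oth` of `InN`).
-/

set_option autoImplicit false
set_option linter.unusedSectionVars false

namespace Cfsg.Agent.Omega.NOThreeL.RRed.Blk.FamOf

open Subgroup Cfsg Cfsg.Agent.ZN Cfsg.Agent.Omega.MinPar
open Cfsg.Agent.Omega.FFThm
open Cfsg.Agent.Omega.FrameFF (cv)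
open Cfsg.Agent.Omega.NO3S.ThmB Cfsg.Agent.Omega.NO3S.KeyRad
open Cfsg.Agent.Omega.NOThreeL.Merge (MZ le_MZ isLoc_MZ)
open Cfsg.Agent.Omega.NOThreeL.RSplit (Nrm)
open Cfsg.Agent.Omega.NOThreeL.RRed.NS (fxd brk mem_fxd conj_eq_cj DD smul_eq_iff)
open Cfsg.Agent.Omega.NOThreeL.RRed.Blk.TypesNat (XH ph ph_smul)
open Cfsg.Agent.Omega.NOThreeL.RRed.Blk.AsmCore (im mem_im ph_mem_im im_mono im_cj im_le_of EP KP)
open scoped Pointwise

universe u

variable {G : Type u} [Group G] [Finite G] {S : Sylow 2 G}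

/-- **The other members of `EE` centralise the block.** -/
theorem oth_of (hc : IsCharacteristicTwoType G) (hL : IsLoc (S : Subgroup G) (MZ (S : Subgroup G)))
    (no : NoOverM (zl (S : Subgroup G) (MZ (S : Subgroup G))) (MZ (S : Subgroup G)))
    (Q : Nrm (normalizer (MZ (S : Subgroup G) : Set G)) (zl (S : Subgroup G) (MZ (S : Subgroup G)))) :
    ∀ D N Z, IsRt Q (zl (S : Subgroup G) (MZ (S : Subgroup G))) D N Z →
      ∀ A ∈ im Q '' AsmCore.EE (S : Subgroup G) (zl (S : Subgroup G) (MZ (S : Subgroup G))), A ≠ D →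
        ∀ a ∈ A, ∀ m ∈ N, a • m = m := by
  rintro D N Z ⟨P, hP, F, i1, i2, i3, k, M, A, j, hF, hA, rfl, O, rfl, rfl⟩ _ ⟨A', hA', rfl⟩ hne _ ⟨a, ha, rfl⟩ m hm
  have h := Inst.nb hc hP M
  have hPM := le_MZ hP
  have haA : (a : G) ∈ A' := ha
  have hmj : Q.val m ∈ blk M j := hm
  have key : (a : G) * Q.val m = Q.val m * a := by
    by_cases hmv : A' ≤ centralizer (zl (S : Subgroup G) P : Set G)
    · exact (mem_centralizer_iff.1 (hmv haA) _ (blk_le h j hmj)).symm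
    · obtain ⟨i, O'⟩ := AsmAct.one_of hc hL hP hPM no M ⟨hA', hmv⟩
      by_cases hij : i = j
      · subst hij
        exact absurd (AcNSame.same_im hc hL hP hPM le_normalizer (no_norm hL.le no) Q M hA ⟨hA', hmv⟩ O O') hne
      · obtain ⟨β, hβ⟩ := O'.act a haA
        exact cent_sg h (hP.le (hA'.1 haA)) hβ (blk_le h j hmj) (e_blk h hij hmj)
  rw [ph_smul, smul_eq_iff, key, mul_inv_cancel_right]

end Cfsg.Agent.Omega.NOThreeL.RRed.Blk.FamOf

end

section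


/-!
# NO-3L, box R: the field `oth` of `FamOf.InN` (nonsplit natural blocks, group level)

* **`oth`** : the members of `im Q '' EE` other than `im Q A` centralise the block of `A ∈ EP S P (zl S L)` (`Q : Nrm H`);
* **`oth_N`** : `FamOf.InN.oth`.
-/

set_option autoImplicit false
set_option linter.unusedSectionVars false

namespace Cfsg.Agent.Omega.NOThreeL.RRed.Blk.OthN

open Subgroup Cfsg Cfsg.Agent.ZN Cfsg.Agent.Omega.MinPar
open Cfsg.Agent.Omega.FFThm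
open Cfsg.Agent.Omega.FrameFF (cv)
open Cfsg.Agent.Omega.NO3S.ThmB Cfsg.Agent.Omega.NO3S.KeyRad
open Cfsg.Agent.Omega.NOThreeL.Merge (MZ le_MZ)
open Cfsg.Agent.Omega.NOThreeL.RSplit (Nrm)
open Cfsg.Agent.Omega.NOThreeL.RRed.Blk.TypesNat (XH ph ph_smul)
open Cfsg.Agent.Omega.NOThreeL.RRed.Blk.AsmCore
open scoped Pointwise

universe u

variable {G : Type u} [Group G] [Finite G] {S : Sylow 2 G} {L P H : Subgroup G}

/-- the other members of `EE` centralise the block -/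
theorem oth (hc : IsCharacteristicTwoType G) (hL : IsLoc (S : Subgroup G) L) (hP : IsParS (S : Subgroup G) P)
    (hPL : P ≤ L) (LH : L ≤ H) (noH : NoOverM (zl (S : Subgroup G) L) H) (Q : Nrm H (zl (S : Subgroup G) L))
    {F : Type} [Field F] [Finite F] [CharP F 2] {k : ℕ}
    (M : NatKM F (S : Subgroup G) P (zl (S : Subgroup G) P) (cv (S : Subgroup G) P) k) {A : Subgroup G}
    (hA : A ∈ EP (S : Subgroup G) P (zl (S : Subgroup G) L)) {j : Fin k}
    (O : NO3S.ThmB.One M (zl (S : Subgroup G) L) A j) :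
    ∀ B ∈ im Q '' EE (S : Subgroup G) (zl (S : Subgroup G) L), B ≠ im Q A → ∀ b ∈ B, ∀ m ∈ Q.ad (blk M j), b • m = m := by
  have h := Inst.nb hc hP M
  have no : NoOverM (zl (S : Subgroup G) L) L := fun B hB => noH B (hB.trans LH)
  rintro _ ⟨B, hB, rfl⟩ hne _ ⟨b, hb, rfl⟩ m hm
  have hm' : Q.val m ∈ blk M j := hm
  rw [ph_smul, Nrm.ext_iff, Nrm.val_smul]
  have hbB : (b : G) ∈ B := hb
  have hbP : (b : G) ∈ P := hP.le (hB.1 hbB)
  by_cases hBP : B ≤ centralizer (zl (S : Subgroup G) P : Set G)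
  · have h1 := mem_centralizer_iff.1 (hBP hbB) _ (blk_le h j hm')
    rw [← h1, mul_inv_cancel_right]
  · have hBE : B ∈ EP (S : Subgroup G) P (zl (S : Subgroup G) L) := ⟨hB, hBP⟩
    obtain ⟨i, O'⟩ := AsmAct.one_of hc hL hP hPL no M hBE
    have hij : i ≠ j := by
      rintro rfl
      exact hne (AcNSame.same_im hc hL hP hPL LH noH Q M hA hBE O O')
    obtain ⟨β, hβ⟩ := O'.act b hbB
    rw [cent_sg h hbP hβ (blk_le h j hm') (e_blk h hij hm'), mul_inv_cancel_right]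

/-- **`FamOf.InN.oth`** -/
theorem oth_N (hc : IsCharacteristicTwoType G) (hL : IsLoc (S : Subgroup G) (MZ (S : Subgroup G)))
    (no : NoOverM (zl (S : Subgroup G) (MZ (S : Subgroup G))) (MZ (S : Subgroup G)))
    (Q : Nrm (normalizer (MZ (S : Subgroup G) : Set G)) (zl (S : Subgroup G) (MZ (S : Subgroup G)))) :
    ∀ D N Z, FamOf.IsRt Q (zl (S : Subgroup G) (MZ (S : Subgroup G))) D N Z →
      ∀ A ∈ im Q '' EE (S : Subgroup G) (zl (S : Subgroup G) (MZ (S : Subgroup G))), A ≠ D →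
        ∀ a ∈ A, ∀ m ∈ N, a • m = m := by
  rintro D N Z ⟨P, hP, F, i1, i2, i3, k, M, A, j, hF, hA, rfl, O, rfl, rfl⟩ B hB hne b hb m hm
  exact oth hc hL hP (le_MZ hP) le_normalizer (FamOf.no_norm hL.le no) Q M hA O B hB hne b hb m hm

end Cfsg.Agent.Omega.NOThreeL.RRed.Blk.OthN

end
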