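import Cfsg.Agent.Mrg.Omega.NOThreeL.RRed.Blk.AsmTor
import Cfsg.Agent.Mrg.Omega.NOThreeL.RRed.Blk.AsmCore
import Cfsg.Agent.Mrg.Omega.NOThreeL.RRed.Blk.AsmPair
import Cfsg.Agent.Mrg.Omega.NOThreeL.RRed.Blk.AsmG
import Cfsg.Agent.Mrg.Omega.NOThreeL.RRed.Blk.AsmCard
import Cfsg.Agent.Mrg.Omega.NOThreeL.RRed.Blk.AsmEsB
import Cfsg.Agent.Mrg.Omega.NOThreeL.RRed.Blk.AsmActC
import Cfsg.Agent.Mrg.Omega.NOThreeL.RRed.NS.Wide
import Cfsg.Agent.Mrg.Omega.NOThreeL.RRed.Blk.AsmOf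
import Cfsg.Agent.Mrg.Omega.NOThreeL.RRed.WLeftBase
import Cfsg.Agent.Mrg.Omega.NOThreeL.RRed.EOneTr
import Cfsg.Agent.Mrg.Omega.NOThreeL.RRed.FourTree
import Cfsg.Agent.Mrg.Omega.NOThreeL.RRed.WideTree

-- merged: Cfsg.Agent.Mrg.Omega.NOThreeL.RRed.Blk.AsmTorP
section

/-!
# NO-3L, box R: the input `Tor` for the active `P` of natural type

* `td_EP` : `P ∈ P*(S)` of natural type over `F`, `|F| ≥ 4`, `A ∈ EP S P U`: `TD (im Q S) (im Q A) N C` for every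
  natural block `(N, C)` with root group `im Q A`;
* `tor_FFs` : `TD` for the members of `RR` ⟹ `Tor S (FFs EE RR) N C`.
-/

set_option autoImplicit false
set_option linter.unusedSectionVars false

namespace Cfsg.Agent.Omega.NOThreeL.RRed.Blk.AsmTor

open Subgroup Cfsg Cfsg.Agent.ZN Cfsg.Agent.Omega.MinPar
open Cfsg.Agent.Omega.FFThm
open Cfsg.Agent.Omega.FrameFF (cv)
open Cfsg.Agent.Omega.NO3S.ThmB Cfsg.Agent.Omega.NO3S.KeyRad
open Cfsg.Agent.Omega.NOThreeL.RSplit (Nrm)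
open Cfsg.Agent.Omega.NOThreeL.RRed.NS (DD)
open Cfsg.Agent.Omega.NOThreeL.RRed.Blk.Asm (NB St FFs le_FFs)
open Cfsg.Agent.Omega.NOThreeL.RRed.Blk.AsmT (TD Tor)
open Cfsg.Agent.Omega.NOThreeL.RRed.Blk.AsmCore (EE EP)
open scoped Pointwise

universe u v

/-- `TD` for the members of `RR` suffices. -/
theorem tor_FFs {X : Type u} {V : Type v} [Group X] [AddCommGroup V] [DistribMulAction X V] {S : Subgroup X}
    {EE RR : Set (Subgroup X)} {N C : Subgroup X → AddSubgroup V} (h : ∀ A ∈ RR, TD S A (N A) (C A)) :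
    Tor S (FFs EE RR) N C := by
  rintro D ⟨g, hg, A, hA, rfl⟩ -
  exact ⟨A, le_FFs hA, g, rfl, h A hA⟩

variable {G : Type u} [Group G] [Finite G] {S : Sylow 2 G} {L P : Subgroup G}

/-- **`TD` for the active `P` of natural type.** -/
theorem td_EP (hc : IsCharacteristicTwoType G) (hL : IsLoc (S : Subgroup G) L) (hP : IsParS (S : Subgroup G) P)
    (hPL : P ≤ L) (no : NoOverM (zl (S : Subgroup G) L) L) {F : Type} [Field F] [Finite F] [CharP F 2] {k : ℕ}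
    (M : NatKM F (S : Subgroup G) P (zl (S : Subgroup G) P) (cv (S : Subgroup G) P) k) (hF : 4 ≤ Nat.card F)
    (hsp : (⨆ j, blk M j) ⊓ cv (S : Subgroup G) P = ⊥) (Q : Nrm L (zl (S : Subgroup G) L)) {A : Subgroup G}
    (hA : A ∈ EP (S : Subgroup G) P (zl (S : Subgroup G) L)) {N C : AddSubgroup Q.Mod}
    (hNC : NB (AsmCore.im Q A) N C) : TD (AsmCore.im Q (S : Subgroup G)) (AsmCore.im Q A) N C := by
  obtain ⟨j, O⟩ := AsmAct.one_of hc hL hP hPL no M hA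
  have hD : DD M j = ⊥ := by
    have h1 : DD M j ≤ (⨆ j, blk M j) ⊓ cv (S : Subgroup G) P :=
      le_inf (inf_le_left.trans (le_iSup (blk M) j)) inf_le_right
    rw [hsp] at h1
    exact le_bot_iff.1 h1
  exact td_of (Inst.nb hc hP M) (by omega) Q (FFThm.elem_zl hc S hL) no hPL (NOThreeL.Star.zl_mono (S : Subgroup G) hPL) O
    (hA.1.1.trans hP.le) hD hP.le hNC

end Cfsg.Agent.Omega.NOThreeL.RRed.Blk.AsmTor

end

-- merged: Cfsg.Agent.Mrg.Omega.NOThreeL.RRed.Blk.AsmInp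
section

section


/-!
# NO-3L, box R: assembly of the natural blocks, the inputs of `AsmG.Inp.main` and `AsmT.Tor`

`Spl S L` : every natural `P ∈ P*(S)`, `P ≤ L`, over `F`, `|F| ≥ 4`, which has a minimal exact offender moving `V_P`,
satisfies `(⨆ blk M j) ∩ cv S P = 1` (THEOREM NS).

* `inp_of` : `AsmG.Inp S L Q`;
* `nat_of_RRs` : the members of `RRs S L Q` come from natural `P`;
* `typC_RRs` : their blocks: all facts of `AsmAct.typC_nat`;
* `td_RRs`, **`tor_main`** : the input `Tor` for the family of `Inp.main`;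
* `act_iff`, `spl_of_mvAct`, **`inp_box`** : box R, `L = M₀`, `U = V*`.
-/

set_option autoImplicit false
set_option linter.unusedSectionVars false

namespace Cfsg.Agent.Omega.NOThreeL.RRed.Blk.AsmInp

open Subgroup Cfsg Cfsg.Agent.ZN Cfsg.Agent.Omega.MinPar
open Cfsg.Agent.Omega.FFThm
open Cfsg.Agent.Omega.FrameFF (cv two_le_card)
open Cfsg.Agent.Omega.NO3S.ThmB Cfsg.Agent.Omega.NO3S.KeyRad
open Cfsg.Agent.Omega.NOThreeL.RSplit (Nrm)
open Cfsg.Agent.Omega.NOThreeL.RRed.NS (fxd brk)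
open Cfsg.Agent.Omega.NOThreeL.RRed.Blk.TypesNat (XH)
open Cfsg.Agent.Omega.NOThreeL.RRed.Blk.Asm
open Cfsg.Agent.Omega.NOThreeL.RRed.Blk.AsmG
open Cfsg.Agent.Omega.NOThreeL.RRed.Blk.AsmT (TD Tor)
open Cfsg.Agent.Omega.NOThreeL.RRed.Blk.AsmCore (im EP KP cent_of_EP)
open Cfsg.Agent.Omega.NOThreeL.RRed.WideTree (Act MvAct)
open Cfsg.Agent.Omega.NOThreeL.RTree (RB)
open Cfsg.Agent.Omega.NOThreeL.Merge (MZ le_MZ isLoc_MZ)
open scoped Pointwise

universe u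

variable {G : Type u} [Group G] [Finite G] {S : Sylow 2 G} {L P : Subgroup G}

/-- THEOREM NS for the members of `P*(S)` in `L`. -/
def Spl (S : Sylow 2 G) (L : Subgroup G) : Prop :=
  ∀ P, IsParS (S : Subgroup G) P → P ≤ L → (EP (S : Subgroup G) P (zl (S : Subgroup G) L)).Nonempty →
    ∀ (F : Type) [Field F] [Finite F] [CharP F 2] (k : ℕ)
      (M : NatKM F (S : Subgroup G) P (zl (S : Subgroup G) P) (cv (S : Subgroup G) P) k), 4 ≤ Nat.card F →
        (⨆ j, blk M j) ⊓ cv (S : Subgroup G) P = ⊥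

section gen

variable (hc : IsCharacteristicTwoType G) (hL : IsLoc (S : Subgroup G) L) (no : NoOverM (zl (S : Subgroup G) L) L)
include hc hL no

/-- the two types -/
theorem type_of (hP : IsParS (S : Subgroup G) P) (hPL : P ≤ L)
    (ne : (EP (S : Subgroup G) P (zl (S : Subgroup G) L)).Nonempty) : Two2 S P ∨ Big4 S P := by
  obtain ⟨A, hA⟩ := ne
  obtain ⟨-, -, hcon, -⟩ := cent_of_EP hc hL hP hPL no hA
  rcases hcon with ⟨F, i1, i2, i3, k, hk, hM⟩ | ⟨k, m, hk, hm, hM⟩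
  · rcases two_le_card (F := F) with h2 | h4
    · exact Or.inl (Or.inl ⟨F, i1, i3, k, h2, hk, hM⟩)
    · exact Or.inr ⟨F, i1, i2, i3, k, h4, hk, hM⟩
  · exact Or.inl (Or.inr ⟨k, m, hk, hm, hM⟩)

/-- **The inputs of `AsmG.Inp.main`.** -/
theorem inp_of (hgen : L ≤ sSup {P | IsParS (S : Subgroup G) P ∧ P ≤ L}) (spl : Spl S L)
    (Q : Nrm L (zl (S : Subgroup G) L)) : Inp S L Q where
  hc := hc
  gen := hgen
  el := FFThm.elem_zl hc S hL
  no := no
  es := AsmEsB.es_of Q hL.le no (FFThm.elem_zl hc S hL)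
  ac P hP hPL ne := by
    rcases type_of hc hL no hP hPL ne with h2 | ⟨F, i1, i2, i3, k, h4, hk, ⟨M⟩⟩
    · exact AsmSmall.ac_small hc hL hP hPL no h2 Q ne
    · exact AsmAct.ac_nat hc hL hP hPL no M h4 (spl P hP hPL ne F k M h4) Q ne

/-- the members of `RRs` come from natural `P` -/
theorem nat_of_RRs (spl : Spl S L) {Q : Nrm L (zl (S : Subgroup G) L)} {D : Subgroup (XH Q)} (hD : D ∈ RRs S L Q) :
    ∃ (P : Subgroup G) (_ : IsParS (S : Subgroup G) P) (_ : P ≤ L) (F : Type) (_ : Field F) (_ : Finite F)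
      (_ : CharP F 2) (k : ℕ)
      (M : NatKM F (S : Subgroup G) P (zl (S : Subgroup G) P) (cv (S : Subgroup G) P) k) (A : Subgroup G) (j : Fin k),
      4 ≤ Nat.card F ∧ (⨆ j, blk M j) ⊓ cv (S : Subgroup G) P = ⊥ ∧
      A ∈ EP (S : Subgroup G) P (zl (S : Subgroup G) L) ∧ D = im Q A ∧
      NO3S.ThmB.One M (zl (S : Subgroup G) L) A j := by
  obtain ⟨h4, P, hP, hPL, A, hA, rfl⟩ := hD
  rcases type_of hc hL no hP hPL ⟨A, hA⟩ with h2 | ⟨F, i1, i2, i3, k, hF, hk, ⟨M⟩⟩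
  · have := AsmSmall.card_small hc hL hP hPL no h2 Q hA
    omega
  · obtain ⟨j, O⟩ := AsmAct.one_of hc hL hP hPL no M hA
    exact ⟨P, hP, hPL, F, i1, i2, i3, k, M, A, j, hF, spl P hP hPL ⟨A, hA⟩ F k M hF, hA, rfl, O⟩

/-- all facts of `typC_nat` for the members of `RRs` -/
theorem typC_RRs (spl : Spl S L) {Q : Nrm L (zl (S : Subgroup G) L)} {D : Subgroup (XH Q)} (hD : D ∈ RRs S L Q) :
    ∃ P, IsParS (S : Subgroup G) P ∧ P ≤ L ∧ D ∈ im Q '' EP (S : Subgroup G) P (zl (S : Subgroup G) L) ∧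
      ∃ N C : AddSubgroup Q.Mod, NB D N C ∧
        N ≤ brk Q.Mod (im Q (KP (S : Subgroup G) P (zl (S : Subgroup G) L))) ∧
        (∀ k ∈ im Q (KP (S : Subgroup G) P (zl (S : Subgroup G) L)), ∀ m ∈ N, k • m ∈ N) ∧
        (∀ A' ∈ im Q '' EP (S : Subgroup G) P (zl (S : Subgroup G) L), A' ≠ D → ∀ a ∈ A', ∀ m ∈ N, a • m = m) ∧
        (∀ k ∈ im Q (KP (S : Subgroup G) P (zl (S : Subgroup G) L)), ∀ m ∈ C, k • m ∈ C) ∧
        (fxd (im Q (KP (S : Subgroup G) P (zl (S : Subgroup G) L))) : AddSubgroup Q.Mod) ≤ C := by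
  obtain ⟨P, hP, hPL, F, i1, i2, i3, k, M, A, j, hF, hsp, hA, rfl, O⟩ := nat_of_RRs hc hL no spl hD
  exact ⟨P, hP, hPL, ⟨A, hA, rfl⟩, (AsmAct.typC_nat hc hL hP hPL no M hsp Q hF _ ⟨A, hA, rfl⟩).2⟩

/-- `TD` for the members of `RRs` -/
theorem td_RRs (spl : Spl S L) {Q : Nrm L (zl (S : Subgroup G) L)} {D : Subgroup (XH Q)} (hD : D ∈ RRs S L Q)
    {N C : AddSubgroup Q.Mod} (hNC : NB D N C) : TD (im Q (S : Subgroup G)) D N C := by
  obtain ⟨P, hP, hPL, F, i1, i2, i3, k, M, A, j, hF, hsp, hA, rfl, O⟩ := nat_of_RRs hc hL no spl hD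
  exact AsmTor.td_EP hc hL hP hPL no M hF hsp Q hA hNC

/-- **`Tor` for the family of `Inp.main`.** -/
theorem tor_main (spl : Spl S L) {Q : Nrm L (zl (S : Subgroup G) L)} {RR : Set (Subgroup (XH Q))}
    (hR : RR ⊆ RRs S L Q) {N C : Subgroup (XH Q) → AddSubgroup Q.Mod}
    (hF : Fam (im Q (S : Subgroup G)) (FFs (im Q '' AsmCore.EE (S : Subgroup G) (zl (S : Subgroup G) L)) RR) N C) :
    Tor (im Q (S : Subgroup G)) (FFs (im Q '' AsmCore.EE (S : Subgroup G) (zl (S : Subgroup G) L)) RR) N C :=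
  AsmTor.tor_FFs fun A hA => td_RRs hc hL no spl (hR hA) (hF.nb A (le_FFs hA))

end gen

/-! ### Box R -/

/-- active = some member of `EE` moves `V_P` -/
theorem act_iff (hc : IsCharacteristicTwoType G) (hP : IsParS (S : Subgroup G) P) :
    Act (S : Subgroup G) P ↔
      (EP (S : Subgroup G) P (zl (S : Subgroup G) (MZ (S : Subgroup G)))).Nonempty := by
  constructor
  · rintro ⟨-, A, hA, hM, hn⟩
    refine ⟨A, ⟨hA, hM⟩, fun h1 => hn ?_⟩
    rw [← hP.inf_centralizer S hc]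
    exact le_inf hA h1
  · rintro ⟨A, ⟨hA, hM⟩, h1⟩
    refine ⟨hP, A, hA, hM, fun hn => h1 ?_⟩
    rw [← hP.inf_centralizer S hc] at hn
    exact hn.trans inf_le_right

theorem spl_of_mvAct (B : RB S) (mv : MvAct (S : Subgroup G)) : Spl S (MZ (S : Subgroup G)) :=
  fun _ hP _ ne _ _ _ _ _ M hF =>
    NS.act_inf_eq_bot B mv ((act_iff B.ctx.char2 hP).2 ne) M (by omega)

/-- **Box R.** -/
theorem inp_box (B : RB S) (mv : MvAct (S : Subgroup G))
    (no : NoOverM (zl (S : Subgroup G) (MZ (S : Subgroup G))) (MZ (S : Subgroup G)))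
    (Q : Nrm (MZ (S : Subgroup G)) (zl (S : Subgroup G) (MZ (S : Subgroup G)))) :
    Inp S (MZ (S : Subgroup G)) Q :=
  inp_of B.ctx.char2 (isLoc_MZ B.ctx B.full B.data.noff) no (FourTree.gen_MZ S) (spl_of_mvAct B mv) Q

theorem no_of_act (B : RB S) (a : Act (S : Subgroup G) P) :
    NoOverM (zl (S : Subgroup G) (MZ (S : Subgroup G))) (MZ (S : Subgroup G)) := by
  obtain ⟨hP, A, hA, hM, hn⟩ := a
  obtain ⟨P₁, A₁, g⟩ := exists_gOne B.ctx.char2 (isLoc_MZ B.ctx B.full B.data.noff) (FourTree.gen_MZ S)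
    ⟨A, (hA.trans hP.le).trans (le_MZ hP), hM.off⟩
  exact g.no

theorem nrm_box (B : RB S) : Nrm (MZ (S : Subgroup G)) (zl (S : Subgroup G) (MZ (S : Subgroup G))) where
  ab u hu v hv := by
    have hE := FFThm.elem_zl B.ctx.char2 S (isLoc_MZ B.ctx B.full B.data.noff)
    exact congrArg Subtype.val (hE.1.is_comm.comm ⟨u, hu⟩ ⟨v, hv⟩)
  nrm := le_normalizer_zl _ _

end Cfsg.Agent.Omega.NOThreeL.RRed.Blk.AsmInp

end

section


/-!
# NO-3L, box R: subgroups of `U` and additive subgroups of `Q.Mod`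

`Q : Nrm H U`, `un Q : AddSubgroup Q.Mod → Subgroup G`, `Q.ad : Subgroup G → AddSubgroup Q.Mod`.

* `im_rfl` : the two definitions of `im` agree;
* `un_le`, `un_ad`, `ad_un`, `un_mono`, `un_le_iff`, `un_inj`, `un_bot`, `un_top`, `un_inf`, `un_sup`, `un_iSup`,
  `un_iSup₂`, `card_un`, `un_map`, `un_fxd`, `un_brk`;
* `brk_iSup`, `fxd_iSup` : `[V, ⨆ A_i] = ⨆ [V, A_i]`, `C_V(⨆ A_i) = ⨅ C_V(A_i)`;
* `inv_iff`, `norm_iff` : invariance under `XH Q` is invariance under `H`;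
* **`sup_eq`** : `Asm.Fam.sup_eq` in `G`.
-/

set_option autoImplicit false

namespace Cfsg.Agent.Omega.NOThreeL.RRed.Blk.AsmUn

open Subgroup Cfsg
open Cfsg.Agent.Omega.NOThreeL.RSplit (Nrm)
open Cfsg.Agent.Omega.NO3S.ThmB Cfsg.Agent.Omega.NO3S.KeyRad
open Cfsg.Agent.Omega.NOThreeL.RRed.NS (fxd brk mem_fxd un val_mem_un covs smul_eq_iff)
open Cfsg.Agent.Omega.NOThreeL.RRed.Blk.TypesNat (XH ph ph_smul ph_surj ph_eq XH_faith)
open Cfsg.Agent.Omega.NOThreeL.RRed.Blk.Asm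
open scoped Pointwise

universe u v w

section brk

variable {X : Type u} {V : Type v} [Group X] [AddCommGroup V] [DistribMulAction X V]

theorem brk_le_iff {A : Subgroup X} {W : AddSubgroup V} : brk V A ≤ W ↔ ∀ a ∈ A, ∀ v : V, a • v - v ∈ W := by
  rw [brk, AddSubgroup.closure_le]
  constructor
  · exact fun h a ha v => h ⟨a, ha, v, rfl⟩
  · rintro h _ ⟨a, ha, v, rfl⟩
    exact h a ha v

theorem mem_brk {A : Subgroup X} {a : X} (ha : a ∈ A) (v : V) : a • v - v ∈ brk V A := brk_le_iff.1 le_rfl a ha v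

theorem brk_mono {A B : Subgroup X} (h : A ≤ B) : brk V A ≤ brk V B := brk_le_iff.2 fun _ ha v => mem_brk (h ha) v

/-- `[V, ⨆ A_i] = ⨆ [V, A_i]` -/
theorem brk_iSup {ι : Sort w} (A : ι → Subgroup X) : brk V (⨆ i, A i) = ⨆ i, brk V (A i) := by
  refine le_antisymm (brk_le_iff.2 fun a ha => ?_) (iSup_le fun i => brk_mono (le_iSup A i))
  induction ha using Subgroup.iSup_induction' with
  | hp i a ha => exact fun v => le_iSup (fun i => brk V (A i)) i (mem_brk ha v)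
  | h1 => intro v; rw [one_smul, sub_self]; exact zero_mem _
  | hmul a b _ _ iha ihb =>
    intro v
    have e : (a * b) • v - v = (a • b • v - b • v) + (b • v - v) := by rw [mul_smul]; abel
    rw [e]
    exact add_mem (iha _) (ihb v)

theorem brk_sup (A B : Subgroup X) : brk V (A ⊔ B) = brk V A ⊔ brk V B := by
  have h := brk_iSup (V := V) fun b : Bool => cond b A B
  rwa [iSup_bool_eq, iSup_bool_eq] at h

theorem brk_iSup₂ {ι : Type w} (FF : Set ι) (A : ι → Subgroup X) :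
    brk V (⨆ D ∈ FF, A D) = ⨆ D ∈ FF, brk V (A D) := by
  rw [brk_iSup]
  exact iSup_congr fun i => brk_iSup _

/-- `C_V(⨆ A_i) = ⨅ C_V(A_i)` -/
theorem fxd_iSup {ι : Sort w} (A : ι → Subgroup X) : (fxd (⨆ i, A i) : AddSubgroup V) = ⨅ i, fxd (A i) := by
  ext m
  rw [AddSubgroup.mem_iInf]
  constructor
  · exact fun h i a ha => h a (le_iSup A i ha)
  · intro h a ha
    induction ha using Subgroup.iSup_induction' with
    | hp i a ha => exact h i a ha
    | h1 => exact one_smul _ _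
    | hmul a b _ _ iha ihb => rw [mul_smul, ihb, iha]

theorem fxd_sup (A B : Subgroup X) : (fxd (A ⊔ B) : AddSubgroup V) = fxd A ⊓ fxd B := by
  have h := fxd_iSup (V := V) fun b : Bool => cond b A B
  rwa [iSup_bool_eq, iInf_bool_eq] at h

theorem fxd_anti {A B : Subgroup X} (h : A ≤ B) : (fxd B : AddSubgroup V) ≤ fxd A := fun _ hm a ha => hm a (h ha)

end brk

section un

variable {G : Type u} [Group G] {H U : Subgroup G} (Q : Nrm H U)

theorem im_rfl (A : Subgroup G) : TypesNat.im Q A = AsmCore.im Q A := rfl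

theorem un_le (B : AddSubgroup Q.Mod) : un Q B ≤ U := by
  rintro _ ⟨m, -, rfl⟩
  exact Q.val_mem m

theorem un_ad {B : Subgroup G} (hB : B ≤ U) : un Q (Q.ad B) = B := by
  ext x
  constructor
  · rintro ⟨m, hm, rfl⟩
    exact hm
  · exact fun hx => ⟨Q.of x (hB hx), hx, rfl⟩

theorem un_ad' (B : Subgroup G) : un Q (Q.ad B) = U ⊓ B := by
  ext x
  constructor
  · rintro ⟨m, hm, rfl⟩
    exact ⟨Q.val_mem m, hm⟩
  · exact fun hx => ⟨Q.of x hx.1, hx.2, rfl⟩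

theorem ad_un (B : AddSubgroup Q.Mod) : Q.ad (un Q B) = B := by
  ext m
  exact val_mem_un Q

variable {Q}

theorem un_le_iff {B C : AddSubgroup Q.Mod} : un Q B ≤ un Q C ↔ B ≤ C :=
  ⟨fun h m hm => (val_mem_un Q).1 (h ((val_mem_un Q).2 hm)), fun h => by
    rintro _ ⟨m, hm, rfl⟩
    exact ⟨m, h hm, rfl⟩⟩

theorem un_mono {B C : AddSubgroup Q.Mod} (h : B ≤ C) : un Q B ≤ un Q C := un_le_iff.2 h

theorem un_inj {B C : AddSubgroup Q.Mod} : un Q B = un Q C ↔ B = C :=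
  ⟨fun h => le_antisymm (un_le_iff.1 h.le) (un_le_iff.1 h.ge), fun h => h ▸ rfl⟩

/-- the adjunction -/
theorem un_le_sub {B : AddSubgroup Q.Mod} {C : Subgroup G} : un Q B ≤ C ↔ B ≤ Q.ad C := by
  constructor
  · exact fun h m hm => h ((val_mem_un Q).2 hm)
  · rintro h _ ⟨m, hm, rfl⟩
    exact h hm

theorem le_un {B : AddSubgroup Q.Mod} {C : Subgroup G} (hC : C ≤ U) : C ≤ un Q B ↔ Q.ad C ≤ B := by
  rw [← un_le_iff, un_ad Q hC]

variable (Q)

theorem un_bot : un Q (⊥ : AddSubgroup Q.Mod) = ⊥ := by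
  rw [eq_bot_iff, un_le_sub]
  exact bot_le

theorem un_eq_bot {B : AddSubgroup Q.Mod} : un Q B = ⊥ ↔ B = ⊥ := by rw [← un_bot Q, un_inj]

theorem un_top : un Q (⊤ : AddSubgroup Q.Mod) = U :=
  le_antisymm (un_le Q _) fun x hx => ⟨Q.of x hx, AddSubgroup.mem_top _, rfl⟩

theorem un_inf (B C : AddSubgroup Q.Mod) : un Q (B ⊓ C) = un Q B ⊓ un Q C := by
  refine le_antisymm (le_inf (un_mono inf_le_left) (un_mono inf_le_right)) ?_
  rintro _ ⟨⟨m, hm, rfl⟩, h⟩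
  exact (val_mem_un Q).2 ⟨hm, (val_mem_un Q).1 h⟩

theorem un_iSup {ι : Sort w} (B : ι → AddSubgroup Q.Mod) : un Q (⨆ i, B i) = ⨆ i, un Q (B i) := by
  refine le_antisymm ?_ (iSup_le fun i => un_mono (le_iSup B i))
  rw [un_le_sub]
  exact iSup_le fun i => un_le_sub.1 (le_iSup (fun i => un Q (B i)) i)

theorem un_iSup₂ {ι : Type w} (FF : Set ι) (B : ι → AddSubgroup Q.Mod) :
    un Q (⨆ D ∈ FF, B D) = ⨆ D ∈ FF, un Q (B D) := by
  rw [un_iSup]
  exact iSup_congr fun i => un_iSup Q _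

theorem un_sup (B C : AddSubgroup Q.Mod) : un Q (B ⊔ C) = un Q B ⊔ un Q C := by
  refine le_antisymm ?_ (sup_le (un_mono le_sup_left) (un_mono le_sup_right))
  rw [un_le_sub]
  exact sup_le (un_le_sub.1 le_sup_left) (un_le_sub.1 le_sup_right)

theorem card_un (B : AddSubgroup Q.Mod) : Nat.card (un Q B) = Nat.card B := by
  rw [← Nrm.card_ad (A := Q) (un_le Q B), ad_un]

/-- `un (g N) = g un(N) g⁻¹` -/
theorem un_smul (g : H) (B : AddSubgroup Q.Mod) : un Q (g • B) = MulAut.conj (g : G) • un Q B := by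
  have h1 : MulAut.conj (g : G) • un Q B ≤ U := by
    rintro _ ⟨_, ⟨m, -, rfl⟩, rfl⟩
    exact Q.nrm' g.2 (Q.val_mem m)
  rw [← un_ad Q h1, ← Nrm.smul_ad, ad_un]

theorem un_map (g : H) (B : AddSubgroup Q.Mod) :
    un Q (B.map (DistribSMul.toAddMonoidHom Q.Mod (ph Q g))) = MulAut.conj (g : G) • un Q B := by
  rw [← un_smul]
  rfl

theorem un_fxd {A : Subgroup G} (hA : A ≤ H) :
    un Q (fxd (AsmCore.im Q A) : AddSubgroup Q.Mod) = U ⊓ centralizer (A : Set G) := by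
  rw [← im_rfl, TypesNat.fxd_im Q hA, un_ad']

theorem un_brk {A : Subgroup G} (hA : A ≤ H) :
    un Q (brk Q.Mod (AsmCore.im Q A)) = closure (covs U A) := by
  rw [← im_rfl, TypesNat.brk_im Q hA, un_ad Q]
  rw [closure_le]
  rintro _ ⟨a, ha, u, hu, rfl⟩
  exact mul_mem (Q.nrm' (hA ha) hu) (inv_mem hu)

/-- invariance under `XH Q` -/
theorem inv_iff (B : AddSubgroup Q.Mod) :
    (∀ (g : XH Q), ∀ m ∈ B, g • m ∈ B) ↔ H ≤ normalizer (un Q B : Set G) := by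
  constructor
  · intro h g hg
    have key : ∀ g ∈ H, ∀ x ∈ un Q B, g * x * g⁻¹ ∈ un Q B := by
      rintro g hg _ ⟨m, hm, rfl⟩
      have h1 := h (ph Q ⟨g, hg⟩) m hm
      rw [ph_smul] at h1
      exact ⟨_, h1, rfl⟩
    rw [mem_normalizer_iff]
    refine fun x => ⟨key g hg x, fun hx => ?_⟩
    have h1 := key g⁻¹ (inv_mem hg) _ hx
    have e : g⁻¹ * (g * x * g⁻¹) * g⁻¹⁻¹ = x := by group
    rwa [e] at h1
  · intro h g m hm
    obtain ⟨y, rfl⟩ := ph_surj Q g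
    rw [ph_smul, ← val_mem_un Q, Nrm.val_smul]
    exact (mem_normalizer_iff.1 (h y.2) _).1 ((val_mem_un Q).2 hm)

/-- **`Asm.Fam.sup_eq` in `G`.** -/
theorem sup_eq [Finite G] {S : Subgroup (XH Q)} (h2 : ∀ v : Q.Mod, v + v = 0) {FF : Set (Subgroup (XH Q))}
    {N C : Subgroup (XH Q) → AddSubgroup Q.Mod} (h : Fam S FF N C) (hne : FF.Nonempty) {W : Subgroup G}
    (WU : W ≤ U) (hW : H ≤ normalizer (W : Set G))
    (irr : ∀ U' ≤ W, H ≤ normalizer (U' : Set G) → U' ≠ ⊥ → W ≤ U')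
    (hD : ∀ D ∈ FF, brk Q.Mod D ≤ Q.ad W) : ⨆ D ∈ FF, un Q (N D) = W := by
  rw [← un_iSup₂, ← un_ad Q WU]
  congr 1
  refine Fam.sup_eq h2 h hne ?_ (fun U' hU' hinv hne' => ?_) hD
  · rw [inv_iff, un_ad Q WU]
    exact hW
  · rw [← le_un WU]
    refine irr _ ?_ ((inv_iff Q U').1 hinv) fun h0 => hne' ((un_eq_bot Q).1 h0)
    rw [un_le_sub]
    exact hU'

end un

end Cfsg.Agent.Omega.NOThreeL.RRed.Blk.AsmUn

end

section


/-!
# NO-3L, box R: the tree of `NrOf K E1Fr` (#25243, #26279, #26726)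

`S` in box R (`RBF`), not `E1S S`, i.e. `C_Z(E₁) ≠ 1`.

* `TvO` : some `s ∈ S` is a transvection of `V*`;
* `NonS S` = `¬ Spl S (MZ S)` : some active `P ∈ P*(S)` has natural `SL₂(q)`-blocks, `q ≥ 4`, which do not split;
* `SpO` : no transvection in `S`, no `NonS`;  `NsO` : no transvection in `S`, `NonS`;
* **`nrOf`** : the three sockets imply `NrOf K E1Fr`;  `brOf` : and `BrTOf K FBF`.
-/

set_option autoImplicit false
set_option linter.unusedSectionVars false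

namespace Cfsg.Agent.Omega.NOThreeL.RZ.TwoE.NrTree

open Subgroup Cfsg Cfsg.Agent.ZN Cfsg.Agent.Omega.MinPar Cfsg.Agent.Omega.Frame Cfsg.Agent.Omega.FrameNOFF
open Cfsg.Agent.Omega.FFThm Cfsg.Agent.Lib.SL2Mat
open Cfsg.Agent.Omega.FrameFF (cv)
open Cfsg.Agent.Omega.NO3S.ThmB Cfsg.Agent.Omega.NO3S.KeyRad
open Cfsg.Agent.Omega.NOThreeL.RRed.NS hiding rt
open Cfsg.Agent.Omega.NOThreeL.RRed.Blk.AsmInp (Spl act_iff)
open Cfsg.Agent.Omega.NOThreeL.Merge (MZ le_MZ)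
open Cfsg.Agent.Omega.NOThreeL.RTreeF
open Cfsg.Agent.Omega.NOThreeL.RRed.GlueSig
open Cfsg.Agent.Omega.NOThreeL.RRed.EOne (E1S E1Fr rr_of_e1s)
open Cfsg.Agent.Omega.NOThreeL.RRed.FourTree (TvS)
open Cfsg.Agent.Omega.NOThreeL.RRed.WideTree (Act)

universe u

/-- some active `P ∈ P*(S)` has natural `SL₂(q)`-blocks, `q ≥ 4`, which do not split -/
def NonS {G : Type u} [Group G] [Finite G] (S : Sylow 2 G) : Prop := ¬ Spl S (MZ (S : Subgroup G))

/-- `¬ NonS S`, for the active `P ∈ P*(S)` -/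
theorem spl_of {G : Type u} [Group G] [Finite G] {S : Sylow 2 G} (hc : IsCharacteristicTwoType G) (h : ¬ NonS S)
    {P : Subgroup G} (hP : Act (S : Subgroup G) P) (F : Type) [Field F] [Finite F] [CharP F 2] (k : ℕ)
    (M : NatKM F (S : Subgroup G) P (zl (S : Subgroup G) P) (cv (S : Subgroup G) P) k) (hF : 4 ≤ Nat.card F) :
    (⨆ j, blk M j) ⊓ cv (S : Subgroup G) P = ⊥ :=
  not_not.1 h P hP.1 (le_MZ hP.1) ((act_iff hc hP.1).1 hP) F k M hF

/-- some `s ∈ S` is a transvection of `V*` -/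
def TvO : Prop :=
  ∀ (G : Type u) [Group G] [Finite G] (S : Sylow 2 G), RBF S → ¬ E1S (S : Subgroup G) → TvS (S : Subgroup G) → False

/-- no transvection in `S`, all natural blocks split -/
def SpO : Prop :=
  ∀ (G : Type u) [Group G] [Finite G] (S : Sylow 2 G), RBF S → ¬ E1S (S : Subgroup G) → ¬ TvS (S : Subgroup G) →
    ¬ NonS S → False

/-- no transvection in `S`, some natural block does not split -/
def NsO : Prop :=
  ∀ (G : Type u) [Group G] [Finite G] (S : Sylow 2 G), RBF S → ¬ E1S (S : Subgroup G) → ¬ TvS (S : Subgroup G) →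
    NonS S → False

/-- **The tree.** -/
theorem nrOf {K : Cls.{u}} (tv : TvO.{u}) (sp : SpO.{u}) (ns : NsO.{u}) : NrOf K E1Fr.{u} := by
  intro G _ _ _ S hB he _
  exfalso
  by_cases ht : TvS (S : Subgroup G)
  · exact tv G S hB he ht
  · by_cases hn : NonS S
    · exact ns G S hB he ht hn
    · exact sp G S hB he ht hn

/-- `BrTOf K FBF` -/
theorem brOf {K : Cls.{u}} (tv : TvO.{u}) (sp : SpO.{u}) (ns : NsO.{u}) : BrTOf K FBF.{u} :=
  (nrOf tv sp ns).br fun _ _ _ _ h he => rr_of_e1s h.toRB he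

end Cfsg.Agent.Omega.NOThreeL.RZ.TwoE.NrTree

end

end
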