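import Cfsg.Agent.Mrg.Omega.NOThreeL.VF.Core
import Cfsg.Agent.Omega.NatPair.Semi
import Cfsg.Agent.Mrg.Omega.NOThreeL.RRed.Blk.Def
import Cfsg.Agent.Mrg.Omega.NOThreeL.VF.Base
import Cfsg.Agent.Mrg.Omega.NOThreeL.RTreeA
import Cfsg.Agent.Mrg.Omega.IId.SymWrD.Zero
import Cfsg.Agent.Mrg.Omega.NOThreeL.VF.One

-- merged: Cfsg.Agent.Mrg.Omega.NOThreeL.RRed.Blk.SplitAbs
section

section


/-!
# The splitting `W = N × C_W(O²(P))`, abstract form

`N ≤ W`, `P ≤ M₀ ≤ N_G(W)`, `P ≤ N_G(N)`, `N` has coordinates in `Y₀^k`, `Y₀ ≤ Y`, `Q` acts on `Y`; the elements of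
`Q^k` are induced by `P` (`Ns`).

* `Ns.lemD` : LEMMA D for all conjugates;
* `Ns.main` : if no subgroup of `M₀` over-offends on `W`, there is a root group (`RootM`), and a generating set `X` of
  `Q` with: every `w ∈ W` has `v ∈ N` such that every `r ∈ X` (acting on the factor `i₀`) is induced by an `h ∈ P`,
  `[W, h] ≤ N`, `[h, v⁻¹ w] = 1`; then every `w ∈ W` has `v ∈ N` such that `v⁻¹ w` is centralised by all `d ∈ M₀` with
  `[W, d] ≤ N` which act on `N` as an element of `Q^k`.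
-/

set_option autoImplicit false
set_option linter.unusedSectionVars false

namespace Cfsg.Agent.Omega.NOThreeL.RRed.Blk.SplitAbs

open Subgroup Cfsg Cfsg.Agent.Omega.FFThm
open Cfsg.Agent.Omega.NOThreeL.VF.Q (Sit RootM k_def cj_eq k_eq_one k_one k_mul_left k_cj)

universe u

variable {G : Type u} [Group G] {Y : Type*} [AddCommGroup Y] {Q : Type*} [Group Q] [DistribMulAction Q Y]
variable {n : ℕ}

/-- `g` acts on the coordinates of `N` as `B ∈ Q^n`. -/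
def Act (e : G → Fin n → Y) (N : Subgroup G) (g : G) (B : Fin n → Q) : Prop :=
  ∀ v ∈ N, ∀ i, e (g * v * g⁻¹) i = B i • e v i

/-- `N ≅ Y₀^n`, `Q^n` is induced by `P`. -/
structure Ns (Q : Type*) [Group Q] [DistribMulAction Q Y] (Y₀ : AddSubgroup Y) (P N : Subgroup G) (n : ℕ)
    (e : G → Fin n → Y) : Prop where
  ne : ∃ y ∈ Y₀, y ≠ 0
  mem : ∀ v ∈ N, ∀ i, e v i ∈ Y₀
  mul : ∀ v ∈ N, ∀ w ∈ N, e (v * w) = e v + e w
  surj : ∀ x : Fin n → Y, (∀ i, x i ∈ Y₀) → ∃ v ∈ N, e v = x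
  inj : ∀ v ∈ N, e v = 0 → v = 1
  nor : P ≤ normalizer (N : Set G)
  lift : ∀ A : Fin n → Q, ∃ g ∈ P, Act e N g A
  norm : ∀ g ∈ P, ∀ h ∈ P, ∀ A : Fin n → Q, Act e N h A → ∃ B : Fin n → Q, Act e N (g * h * g⁻¹) B
  perm : ∀ g ∈ P, ∃ σ : Equiv.Perm (Fin n), ∀ v ∈ N, ∀ i, e (g * v * g⁻¹) (σ i) = 0 ↔ e v i = 0
  trans : ∀ i j, ∃ t ∈ P, ∀ v ∈ N, e (t * v * t⁻¹) j = 0 ↔ e v i = 0

section act

variable {e : G → Fin n → Y} {N : Subgroup G}

theorem act_one : Act e N 1 (1 : Fin n → Q) := by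
  intro v _ i
  rw [one_mul, inv_one, mul_one, Pi.one_apply, one_smul]

theorem act_mul {g h : G} (hN : ∀ v ∈ N, h * v * h⁻¹ ∈ N) {A B : Fin n → Q} (hA : Act e N g A)
    (hB : Act e N h B) : Act e N (g * h) (A * B) := by
  intro v hv i
  have e1 : g * h * v * (g * h)⁻¹ = g * (h * v * h⁻¹) * g⁻¹ := by group
  rw [e1, hA _ (hN v hv), hB v hv, Pi.mul_apply, mul_smul]

theorem act_inv {g : G} (hN : ∀ v ∈ N, g⁻¹ * v * g ∈ N) {A : Fin n → Q} (hA : Act e N g A) :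
    Act e N g⁻¹ A⁻¹ := by
  intro v hv i
  rw [inv_inv]
  have h1 := hA _ (hN v hv) i
  have e1 : g * (g⁻¹ * v * g) * g⁻¹ = v := by group
  rw [e1] at h1
  rw [h1, Pi.inv_apply, inv_smul_smul]

end act

namespace Ns

variable {Y₀ : AddSubgroup Y} {P N : Subgroup G} {e : G → Fin n → Y} (h : Ns Q Y₀ P N n e)
include h

theorem e_one : e 1 = 0 := by
  have := h.mul 1 N.one_mem 1 N.one_mem
  rw [mul_one] at this
  exact left_eq_add.1 this

theorem e_inv {v : G} (hv : v ∈ N) : e v⁻¹ = - e v := by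
  have := h.mul v⁻¹ (N.inv_mem hv) v hv
  rw [inv_mul_cancel, h.e_one] at this
  exact eq_neg_of_add_eq_zero_left this.symm

theorem e_inj {v w : G} (hv : v ∈ N) (hw : w ∈ N) (he : e v = e w) : v = w := by
  have h1 : e (v * w⁻¹) = 0 := by
    rw [h.mul v hv _ (N.inv_mem hw), h.e_inv hw, he, add_neg_cancel]
  exact mul_inv_eq_one.1 (h.inj _ (N.mul_mem hv (N.inv_mem hw)) h1)

theorem cj {g v : G} (hg : g ∈ P) (hv : v ∈ N) : g * v * g⁻¹ ∈ N := (mem_normalizer_iff.1 (h.nor hg) v).1 hv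

theorem cj' {g v : G} (hg : g ∈ P) (hv : v ∈ N) : g⁻¹ * v * g ∈ N := by
  have := h.cj (P.inv_mem hg) hv
  rwa [inv_inv] at this

omit h in
theorem cj_of_k {g v : G} (hk : VF.Q.k g v ∈ N) (hv : v ∈ N) : g * v * g⁻¹ ∈ N := by
  rw [cj_eq]; exact N.mul_mem hk hv

/-- the coordinates of `[g, v]` -/
theorem e_k {g v : G} (hg : g * v * g⁻¹ ∈ N) (hv : v ∈ N) {A : Fin n → Q} (hA : Act e N g A) (i : Fin n) :
    e (VF.Q.k g v) i = A i • e v i - e v i := by
  rw [k_def, h.mul _ hg _ (N.inv_mem hv), Pi.add_apply, hA v hv i, h.e_inv hv, Pi.neg_apply, sub_eq_add_neg]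

theorem k_eq_one_iff {g v : G} (hg : g * v * g⁻¹ ∈ N) (hv : v ∈ N) {A : Fin n → Q} (hA : Act e N g A) :
    VF.Q.k g v = 1 ↔ ∀ i, A i • e v i = e v i := by
  have hk : VF.Q.k g v ∈ N := N.mul_mem hg (N.inv_mem hv)
  constructor
  · intro h0 i
    have h1 := h.e_k hg hv hA i
    rw [h0, h.e_one, Pi.zero_apply] at h1
    exact (sub_eq_zero.1 h1.symm)
  · intro h0
    refine h.inj _ hk ?_
    funext i
    rw [h.e_k hg hv hA, h0 i, sub_self]
    rfl

/-- same action: equal conjugates -/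
theorem conj_eq {g g' v : G} (hv : v ∈ N) (hg : g * v * g⁻¹ ∈ N) (hg' : g' * v * g'⁻¹ ∈ N) {A : Fin n → Q}
    (hA : Act e N g A) (hB : Act e N g' A) : g * v * g⁻¹ = g' * v * g'⁻¹ :=
  h.e_inj hg hg' (funext fun i => by rw [hA v hv, hB v hv])

/-- Transport of an element which acts as an element of `Q^n`, trivial outside the factor `i`, to the factor `j`. -/
theorem transport {g d : G} (hg : g ∈ P) {i j : Fin n} (hgi : ∀ v ∈ N, e (g * v * g⁻¹) i = 0 ↔ e v j = 0)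
    (hd : ∀ v ∈ N, d * v * d⁻¹ ∈ N) {B : Fin n → Q} (hB : Act e N d B)
    (hB1 : ∀ v ∈ N, ∀ l, l ≠ i → e (d * v * d⁻¹) l = e v l) :
    ∃ B' : Fin n → Q, Act e N (g⁻¹ * d * g) B' ∧
      ∀ v ∈ N, ∀ l, l ≠ j → e (g⁻¹ * d * g * v * (g⁻¹ * d * g)⁻¹) l = e v l := by
  obtain ⟨x, hx, hxB⟩ := h.lift B
  obtain ⟨B', hB'⟩ := h.norm g⁻¹ (P.inv_mem hg) x hx B hxB
  have key : ∀ v ∈ N, g⁻¹ * d * g * v * (g⁻¹ * d * g)⁻¹ = g⁻¹ * x * g⁻¹⁻¹ * v * (g⁻¹ * x * g⁻¹⁻¹)⁻¹ := by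
    intro v hv
    have h1 := h.conj_eq (h.cj hg hv) (hd _ (h.cj hg hv)) (h.cj hx (h.cj hg hv)) hB hxB
    have e1 : g⁻¹ * d * g * v * (g⁻¹ * d * g)⁻¹ = g⁻¹ * (d * (g * v * g⁻¹) * d⁻¹) * g := by group
    rw [e1, h1]; group
  obtain ⟨σ, hσ⟩ := h.perm g hg
  -- `σ j = i`
  have hσj : ∀ v ∈ N, e (g * v * g⁻¹) (σ j) = 0 ↔ e (g * v * g⁻¹) i = 0 := fun v hv =>
    (hσ v hv j).trans (hgi v hv).symm
  refine ⟨B', fun v hv i => by rw [key v hv]; exact hB' v hv i, fun v hv l hl => ?_⟩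
  -- `y = [g⁻¹ d g, v]`
  set c := g⁻¹ * d * g with hc
  have hcN : c * v * c⁻¹ ∈ N := by
    rw [key v hv]
    have h1 : g⁻¹ * x * g⁻¹⁻¹ ∈ P := P.mul_mem (P.mul_mem (P.inv_mem hg) hx) (P.inv_mem (P.inv_mem hg))
    exact h.cj h1 hv
  have hkN : VF.Q.k c v ∈ N := N.mul_mem hcN (N.inv_mem hv)
  have hgv : g * v * g⁻¹ ∈ N := h.cj hg hv
  have h2 : g * VF.Q.k c v * g⁻¹ = VF.Q.k d (g * v * g⁻¹) := by
    rw [← k_cj, hc]
    congr 1
    group
  have h3 : e (VF.Q.k c v) l = 0 := by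
    rw [← hσ _ hkN l, h2, h.e_k (hd _ hgv) hgv hB]
    by_cases hli : σ l = i
    · -- then `e u l = 0 ↔ e u j = 0` for all `u`
      exfalso
      apply hl
      have h4 : ∀ u ∈ N, e u l = 0 ↔ e u j = 0 := fun u hu => by
        rw [← hσ u hu l, hli, hgi u hu]
      by_contra hne
      obtain ⟨y, hy, hy0⟩ := h.ne
      obtain ⟨u, hu, hue⟩ := h.surj (Pi.single j y) fun a => by
        by_cases ha : a = j
        · subst ha; rw [Pi.single_eq_same]; exact hy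
        · rw [Pi.single_eq_of_ne ha]; exact Y₀.zero_mem
      have h5 := (h4 u hu).1 (by rw [hue, Pi.single_eq_of_ne hne])
      rw [hue, Pi.single_eq_same] at h5
      exact hy0 h5
    · have h5 := hB1 _ hgv (σ l) hli
      rw [hB _ hgv] at h5
      rw [h5, sub_self]
  have h6 : c * v * c⁻¹ = VF.Q.k c v * v := cj_eq c v
  rw [h6, h.mul _ hkN _ hv, Pi.add_apply, h3, zero_add]

/-- `[k, v] = 1` and `k` acts trivially on the coordinates -/
theorem k_one_of {d v : G} (hv : v ∈ N) (hd : d * v * d⁻¹ ∈ N) (he : e (d * v * d⁻¹) = e v) : VF.Q.k d v = 1 := by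
  rw [k_def, h.e_inj hd hv he, mul_inv_cancel]

variable {M₀ W : Subgroup G} {B : Type*} [AddGroup B] [Finite B] {a : B → G} {l : G} {f : G → B}

omit h in
/-- **LEMMA D**, all conjugates. -/
theorem lemD [Finite G] (nor : P ≤ normalizer (N : Set G)) (s : Sit M₀ W N) (PM : P ≤ M₀) (no : NoOverM W M₀)
    (hB : 1 < Nat.card B) (R : RootM M₀ W N B a l f) (ker : ∀ u ∈ N, (∀ p ∈ P, f (p * u * p⁻¹) = 0) → u = 1)
    {d : G} (hd : d ∈ M₀) (hdV : ∀ v ∈ N, VF.Q.k d v = 1) (hdW : ∀ w ∈ W, VF.Q.k d w ∈ N) {w : G} (hw : w ∈ W) :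
    VF.Q.k d w = 1 := by
  have cjV : ∀ p ∈ P, ∀ v ∈ N, p * v * p⁻¹ ∈ N := fun p hp v hv => (mem_normalizer_iff.1 (nor hp) v).1 hv
  have cjV' : ∀ p ∈ P, ∀ v ∈ N, p⁻¹ * v * p ∈ N := fun p hp v hv => by
    have := cjV p⁻¹ (P.inv_mem hp) v hv
    rwa [inv_inv] at this
  have cjW : ∀ p ∈ P, ∀ v ∈ W, p * v * p⁻¹ ∈ W := fun p hp v hv => s.cj_mem (PM hp) hv
  have cjW' : ∀ p ∈ P, ∀ v ∈ W, p⁻¹ * v * p ∈ W := fun p hp v hv => by
    have := cjW p⁻¹ (P.inv_mem hp) v hv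
    rwa [inv_inv] at this
  refine ker _ (hdW w hw) fun p hp => ?_
  rw [← k_cj]
  refine VF.Q.lemD s no hB R (M₀.mul_mem (M₀.mul_mem (PM hp) hd) (M₀.inv_mem (PM hp)))
    (fun v hv => ?_) (fun v hv => ?_) (cjW p hp w hw)
  · have e : v = p * (p⁻¹ * v * p) * p⁻¹ := by group
    rw [e, k_cj, hdV _ (cjV' p hp v hv)]
    group
  · have e : v = p * (p⁻¹ * v * p) * p⁻¹ := by group
    rw [e, k_cj]
    exact cjV p hp _ (hdW _ (cjW' p hp v hv))

omit h in
theorem k_mul_one {x y w : G} (hx : VF.Q.k x w = 1) (hy : VF.Q.k y w = 1) : VF.Q.k (x * y) w = 1 := by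
  rw [k_eq_one] at hx hy ⊢
  rw [mul_assoc, hy, ← mul_assoc, hx, mul_assoc]

omit h in
theorem k_inv_one {x w : G} (hx : VF.Q.k x w = 1) : VF.Q.k x⁻¹ w = 1 := by
  rw [k_eq_one] at hx ⊢
  calc x⁻¹ * w = x⁻¹ * (w * x) * x⁻¹ := by group
    _ = x⁻¹ * (x * w) * x⁻¹ := by rw [hx]
    _ = w * x⁻¹ := by group

omit h in
/-- `[W, x] ≤ N`, `[W, y] ≤ N` -/
theorem kN_mul (s : Sit M₀ W N) {x y : G} (hx : x ∈ M₀) (hy : y ∈ M₀) (h1 : ∀ w ∈ W, VF.Q.k x w ∈ N)
    (h2 : ∀ w ∈ W, VF.Q.k y w ∈ N) : ∀ w ∈ W, VF.Q.k (x * y) w ∈ N := by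
  intro w hw
  rw [Sit.k_mul hx hy hw]
  exact N.mul_mem (N.mul_mem (h1 _ (s.VW (h2 w hw))) (h2 w hw)) (h1 w hw)

omit h in
theorem kN_inv (s : Sit M₀ W N) {x : G} (hx : x ∈ M₀) (h1 : ∀ w ∈ W, VF.Q.k x w ∈ N) :
    ∀ w ∈ W, VF.Q.k x⁻¹ w ∈ N := by
  intro w hw
  have hw' : x⁻¹ * w * x ∈ W := by
    have := s.cj_mem (M₀.inv_mem hx) hw
    rwa [inv_inv] at this
  have h2 := h1 _ hw'
  have e1 : VF.Q.k x (x⁻¹ * w * x) = (VF.Q.k x⁻¹ w)⁻¹ := by
    simp only [k_def]; group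
  rw [e1] at h2
  exact (N.inv_mem_iff).1 h2

omit h in
theorem kN_cj (nor : P ≤ normalizer (N : Set G)) (s : Sit M₀ W N) (PM : P ≤ M₀) {p x : G} (hp : p ∈ P)
    (h1 : ∀ w ∈ W, VF.Q.k x w ∈ N) : ∀ w ∈ W, VF.Q.k (p * x * p⁻¹) w ∈ N := by
  intro w hw
  have e : w = p * (p⁻¹ * w * p) * p⁻¹ := by group
  have hw' : p⁻¹ * w * p ∈ W := by
    have := s.cj_mem (M₀.inv_mem (PM hp)) hw
    rwa [inv_inv] at this
  rw [e, k_cj]
  exact (mem_normalizer_iff.1 (nor hp) _).1 (h1 _ hw')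

/-- the class of elements `d ∈ M₀` with `[W, d] ≤ N` which act on `N` as `B ∈ Q^n` -/
structure Cl (M₀ W N : Subgroup G) (e : G → Fin n → Y) (d : G) (B : Fin n → Q) : Prop where
  mem : d ∈ M₀
  kN : ∀ w ∈ W, VF.Q.k d w ∈ N
  act : Act e N d B

omit h in
theorem Cl.cjN {M₀ W N : Subgroup G} {e : G → Fin n → Y} {d : G} {B : Fin n → Q} (c : Cl M₀ W N e d B)
    (s : Sit M₀ W N) {v : G} (hv : v ∈ N) : d * v * d⁻¹ ∈ N := by
  rw [cj_eq]; exact N.mul_mem (c.kN v (s.VW hv)) hv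

omit h in
theorem Cl.inv {M₀ W N : Subgroup G} {e : G → Fin n → Y} {d : G} {B : Fin n → Q} (c : Cl M₀ W N e d B)
    (s : Sit M₀ W N) : Cl M₀ W N e d⁻¹ B⁻¹ := by
  have h1 := kN_inv s c.mem c.kN
  refine ⟨M₀.inv_mem c.mem, h1, act_inv (fun v hv => ?_) c.act⟩
  have h2 := cj_of_k (h1 v (s.VW hv)) hv
  rwa [inv_inv] at h2

omit h in
theorem Cl.mul {M₀ W N : Subgroup G} {e : G → Fin n → Y} {d d' : G} {B B' : Fin n → Q} (c : Cl M₀ W N e d B)
    (c' : Cl M₀ W N e d' B') (s : Sit M₀ W N) : Cl M₀ W N e (d * d') (B * B') :=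
  ⟨M₀.mul_mem c.mem c'.mem, kN_mul s c.mem c'.mem c.kN c'.kN, act_mul (fun _ hv => c'.cjN s hv) c.act c'.act⟩

/-- elements with the same action on `N` have the same action on `W` -/
theorem k_of_same [Finite G] (s : Sit M₀ W N) (PM : P ≤ M₀) (no : NoOverM W M₀)
    (hB : 1 < Nat.card B) (R : RootM M₀ W N B a l f) (ker : ∀ u ∈ N, (∀ p ∈ P, f (p * u * p⁻¹) = 0) → u = 1)
    {d x : G} {A : Fin n → Q} (hd : Cl M₀ W N e d A) (hx : Cl M₀ W N e x A) {w : G} (hw : w ∈ W)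
    (h0 : VF.Q.k x w = 1) : VF.Q.k d w = 1 := by
  have c := (hx.inv s).mul hd s
  rw [inv_mul_cancel] at c
  have h1 : VF.Q.k (x⁻¹ * d) w = 1 := by
    refine lemD h.nor s PM no hB R ker c.mem (fun v hv => ?_) c.kN hw
    refine h.k_one_of hv (c.cjN s hv) (funext fun i => ?_)
    rw [c.act v hv i, Pi.one_apply, one_smul]
  have h2 := k_mul_one h0 h1
  rwa [mul_inv_cancel_left] at h2

/-- **The main theorem**, abstract. -/
theorem main [Finite G] (s : Sit M₀ W N) (PM : P ≤ M₀) (no : NoOverM W M₀)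
    (hB : 1 < Nat.card B) (R : RootM M₀ W N B a l f) (ker : ∀ u ∈ N, (∀ p ∈ P, f (p * u * p⁻¹) = 0) → u = 1)
    {i₀ : Fin n} {X : Set Q} (hX : closure X = ⊤)
    (hs : ∀ w ∈ W, ∃ v ∈ N, ∀ r ∈ X, ∃ x, Cl M₀ W N e x (Function.update (1 : Fin n → Q) i₀ r) ∧
      VF.Q.k x (v⁻¹ * w) = 1) {w : G} (hw : w ∈ W) :
    ∃ v ∈ N, ∀ (d : G) (A : Fin n → Q), Cl M₀ W N e d A → VF.Q.k d (v⁻¹ * w) = 1 := by
  -- all elements of `Q` on the factor `i₀`
  have upd_mul : ∀ (i : Fin n) (q r : Q), Function.update (1 : Fin n → Q) i q * Function.update (1 : Fin n → Q) i r =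
      Function.update (1 : Fin n → Q) i (q * r) := by
    intro i q r
    rw [← Function.update_mul, mul_one]
  have upd_inv : ∀ (i : Fin n) (q : Q), (Function.update (1 : Fin n → Q) i q)⁻¹ =
      Function.update (1 : Fin n → Q) i q⁻¹ := by
    intro i q
    rw [← Function.update_inv, inv_one]
  have st0 : ∀ w ∈ W, ∃ v ∈ N, ∀ q : Q, ∃ x, Cl M₀ W N e x (Function.update (1 : Fin n → Q) i₀ q) ∧
      VF.Q.k x (v⁻¹ * w) = 1 := by
    intro w hw
    obtain ⟨v, hv, h1⟩ := hs w hw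
    refine ⟨v, hv, fun q => ?_⟩
    have hq : q ∈ closure X := by rw [hX]; exact mem_top _
    induction hq using Subgroup.closure_induction with
    | mem r hr => exact h1 r hr
    | one =>
      refine ⟨1, ⟨M₀.one_mem, fun w _ => by rw [k_one]; exact N.one_mem, ?_⟩, k_one _⟩
      have e1 : Function.update (1 : Fin n → Q) i₀ 1 = 1 := by
        rw [Function.update_eq_self_iff]; rfl
      rw [e1]
      exact act_one
    | mul q r _ _ hq hr =>
      obtain ⟨x, hx, hx1⟩ := hq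
      obtain ⟨y, hy, hy1⟩ := hr
      refine ⟨x * y, ?_, k_mul_one hx1 hy1⟩
      rw [← upd_mul]
      exact hx.mul hy s
    | inv q _ hq =>
      obtain ⟨x, hx, hx1⟩ := hq
      refine ⟨x⁻¹, ?_, k_inv_one hx1⟩
      rw [← upd_inv]
      exact hx.inv s
  -- an element acting trivially outside `i`
  have upd_of : ∀ (i : Fin n) (d : G) (A : Fin n → Q), (∀ v ∈ N, ∀ l, l ≠ i → e (d * v * d⁻¹) l = e v l) →
      Act e N d A → Act e N d (Function.update (1 : Fin n → Q) i (A i)) := by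
    intro i d A h1 h2 v hv l
    by_cases hl : l = i
    · subst hl
      rw [Function.update_self]; exact h2 v hv l
    · rw [Function.update_of_ne hl, Pi.one_apply, one_smul]; exact h1 v hv l hl
  -- the factor `i`
  have st1 : ∀ i, ∀ w ∈ W, ∃ v ∈ N, ∀ (d : G) (A : Fin n → Q), Cl M₀ W N e d A →
      (∀ v ∈ N, ∀ l, l ≠ i → e (d * v * d⁻¹) l = e v l) → VF.Q.k d (v⁻¹ * w) = 1 := by
    intro i w hw
    obtain ⟨t, ht, htf⟩ := h.trans i₀ i
    have hw' : t⁻¹ * w * t ∈ W := by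
      have := s.cj_mem (M₀.inv_mem (PM ht)) hw
      rwa [inv_inv] at this
    obtain ⟨v, hv, h1⟩ := st0 _ hw'
    refine ⟨t * v * t⁻¹, h.cj ht hv, fun d A hd hdi => ?_⟩
    obtain ⟨A', hA', hA1⟩ := h.transport ht htf (fun v hv => hd.cjN s hv) hd.act hdi
    have hd' : Cl M₀ W N e (t⁻¹ * d * t) (Function.update (1 : Fin n → Q) i₀ (A' i₀)) := by
      refine ⟨M₀.mul_mem (M₀.mul_mem (M₀.inv_mem (PM ht)) hd.mem) (PM ht), ?_, upd_of _ _ _ hA1 hA'⟩
      have h2 := kN_cj h.nor s PM (P.inv_mem ht) hd.kN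
      rwa [inv_inv] at h2
    obtain ⟨x, hx, hx1⟩ := h1 (A' i₀)
    have hvw : v⁻¹ * (t⁻¹ * w * t) ∈ W := W.mul_mem (W.inv_mem (s.VW hv)) hw'
    have h3 := h.k_of_same s PM no hB R ker hd' hx hvw hx1
    have e1 : (t * v * t⁻¹)⁻¹ * w = t * (v⁻¹ * (t⁻¹ * w * t)) * t⁻¹ := by group
    have e2 : d = t * (t⁻¹ * d * t) * t⁻¹ := by group
    rw [e1, e2, k_cj, h3]
    group
  -- existence on the factor `i`
  have st2 : ∀ i (q : Q), ∃ x, Cl M₀ W N e x (Function.update (1 : Fin n → Q) i q) := by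
    intro i q
    obtain ⟨t, ht, htf⟩ := h.trans i₀ i
    obtain ⟨g, hg, hgA⟩ := h.lift (Function.update (1 : Fin n → Q) i q)
    obtain ⟨A', hA', hA1⟩ := h.transport ht htf (fun v hv => h.cj hg hv) hgA fun v hv l hl => by
      rw [hgA v hv, Function.update_of_ne hl, Pi.one_apply, one_smul]
    obtain ⟨v, -, h1⟩ := st0 1 W.one_mem
    obtain ⟨x, hx, -⟩ := h1 (A' i₀)
    have hA2 := upd_of _ _ _ hA1 hA'
    have hkN := kN_cj h.nor s PM ht hx.kN
    refine ⟨t * x * t⁻¹, M₀.mul_mem (M₀.mul_mem (PM ht) hx.mem) (M₀.inv_mem (PM ht)), hkN, fun v hv l => ?_⟩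
    have hv' := h.cj' ht hv
    have hgt : t⁻¹ * g * t ∈ P := P.mul_mem (P.mul_mem (P.inv_mem ht) hg) ht
    have h2 := h.conj_eq hv' (hx.cjN s hv') (h.cj hgt hv') hx.act hA2
    have e1 : t * x * t⁻¹ * v * (t * x * t⁻¹)⁻¹ = t * (x * (t⁻¹ * v * t) * x⁻¹) * t⁻¹ := by group
    have e2 : t * (t⁻¹ * g * t * (t⁻¹ * v * t) * (t⁻¹ * g * t)⁻¹) * t⁻¹ = g * v * g⁻¹ := by group
    rw [e1, h2, e2]
    exact hgA v hv l
  -- glue
  choose y hyN hy using fun i => st1 i w hw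
  obtain ⟨v, hv, hve⟩ := h.surj (fun i => e (y i) i) fun i => h.mem _ (hyN i) i
  have st3 : ∀ i (d : G) (A : Fin n → Q), Cl M₀ W N e d A → (∀ v ∈ N, ∀ l, l ≠ i → e (d * v * d⁻¹) l = e v l) →
      VF.Q.k d (v⁻¹ * w) = 1 := by
    intro i d A hd hdi
    have hu : v⁻¹ * y i ∈ N := N.mul_mem (N.inv_mem hv) (hyN i)
    have hui : e (v⁻¹ * y i) i = 0 := by
      rw [h.mul _ (N.inv_mem hv) _ (hyN i), h.e_inv hv, Pi.add_apply, Pi.neg_apply, hve, neg_add_cancel]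
    have h1 : VF.Q.k d (v⁻¹ * y i) = 1 := by
      refine h.k_one_of hu (hd.cjN s hu) (funext fun l => ?_)
      by_cases hl : l = i
      · subst hl
        rw [hd.act _ hu, hui, smul_zero]
      · exact hdi _ hu l hl
    have e1 : v⁻¹ * w = (v⁻¹ * y i) * ((y i)⁻¹ * w) := by group
    rw [e1, s.k_mul_right hd.mem (s.VW hu) (W.mul_mem (W.inv_mem (s.VW (hyN i))) hw), h1, hy i d A hd hdi, one_mul]
  have huW : v⁻¹ * w ∈ W := W.mul_mem (W.inv_mem (s.VW hv)) hw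
  refine ⟨v, hv, ?_⟩
  -- induction
  have st4 : ∀ t : Finset (Fin n), ∀ (d : G) (A : Fin n → Q), Cl M₀ W N e d A → (∀ j, j ∉ t → A j = 1) →
      VF.Q.k d (v⁻¹ * w) = 1 := by
    intro t
    induction t using Finset.induction_on with
    | empty =>
      intro d A hd hA
      refine lemD h.nor s PM no hB R ker hd.mem (fun v hv => ?_) hd.kN huW
      refine h.k_one_of hv (hd.cjN s hv) (funext fun i => ?_)
      rw [hd.act v hv i, hA i (Finset.notMem_empty i), one_smul]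
    | insert j t hj ih =>
      intro d A hd hA
      obtain ⟨x, hx⟩ := st2 j (A j)
      have hx1 : VF.Q.k x (v⁻¹ * w) = 1 := st3 j x _ hx fun u hu l hl => by
        rw [hx.act u hu, Function.update_of_ne hl, Pi.one_apply, one_smul]
      have hdx := hd.mul (hx.inv s) s
      have h1 : VF.Q.k (d * x⁻¹) (v⁻¹ * w) = 1 := by
        refine ih _ _ hdx fun l hl => ?_
        by_cases hlj : l = j
        · subst hlj
          rw [Pi.mul_apply, Pi.inv_apply, Function.update_self, mul_inv_cancel]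
        · rw [Pi.mul_apply, Pi.inv_apply, Function.update_of_ne hlj, Pi.one_apply, inv_one, mul_one]
          exact hA l fun h2 => by
            rcases Finset.mem_insert.1 h2 with h3 | h3
            · exact hlj h3
            · exact hl h3
      have h2 := k_mul_one h1 hx1
      rwa [inv_mul_cancel_right] at h2
  exact fun d A hd => st4 Finset.univ d A hd fun j hj => absurd (Finset.mem_univ j) hj

end Ns

end Cfsg.Agent.Omega.NOThreeL.RRed.Blk.SplitAbs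

end

section


/-!
# The splitting `W = N × C_W(O²(P))`, natural `SL₂(F)`-modules, in coordinates
-/

set_option autoImplicit false
set_option linter.unusedSectionVars false

namespace Cfsg.Agent.Omega.NOThreeL.RRed.Blk.SplitNat

open Subgroup Cfsg Cfsg.Agent.Omega.FFThm
open Cfsg.Agent.Omega.NOThreeL.VF.Q (Sit RootM k_def cj_eq k_eq_one k_one k_mul_left k_cj)
open Cfsg.Agent.Omega.NOThreeL.RRed.Blk.SplitAbs
open Cfsg.Agent.Omega.NOThreeL.RRed.Blk.SplitAbs.Ns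
open Cfsg.Agent.Lib.SL2Mat
open Cfsg.Agent.Omega.NatPair (ap ap_mul ap_one ap_add ext2 ap_zero' ap_one')

universe u

theorem ap_zero {F : Type*} [Field F] (A : Matrix.SpecialLinearGroup (Fin 2) F) : ap A 0 = 0 := by
  have h := ap_add A 0 0
  rw [add_zero] at h
  exact left_eq_add.1 h

/-- the natural action -/
@[reducible] def nat (F : Type*) [Field F] :
    DistribMulAction (Matrix.SpecialLinearGroup (Fin 2) F) (Fin 2 → F) where
  smul := ap
  one_smul := ap_one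
  mul_smul := ap_mul
  smul_zero := ap_zero
  smul_add := ap_add

attribute [local instance] nat

theorem smul_eq {F : Type*} [Field F] (A : Matrix.SpecialLinearGroup (Fin 2) F) (x : Fin 2 → F) : A • x = ap A x :=
  rfl

theorem closure_up_lo {F : Type*} [Field F] :
    closure (Set.range up ∪ Set.range lo : Set (Matrix.SpecialLinearGroup (Fin 2) F)) = ⊤ := by
  rw [eq_top_iff]
  intro x _
  obtain ⟨a, b, c, d, rfl⟩ := exists_up_lo x
  have hu : ∀ a : F, up a ∈ closure (Set.range up ∪ Set.range lo : Set (Matrix.SpecialLinearGroup (Fin 2) F)) :=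
    fun a => subset_closure (Or.inl ⟨a, rfl⟩)
  have hl : ∀ a : F, lo a ∈ closure (Set.range up ∪ Set.range lo : Set (Matrix.SpecialLinearGroup (Fin 2) F)) :=
    fun a => subset_closure (Or.inr ⟨a, rfl⟩)
  exact mul_mem (mul_mem (mul_mem (hu a) (hl b)) (hu c)) (hl d)

theorem wm_conj {F : Type*} [Field F] (c : F) :
    wm (1 : F) one_ne_zero * up c * (wm (1 : F) one_ne_zero)⁻¹ = lo (-c) := by
  rw [wm_up, mul_inv_cancel_right, one_pow, div_one]

variable {G : Type u} [Group G] {F : Type} [Field F] {P N : Subgroup G} {n : ℕ} {e : G → Fin n → Fin 2 → F}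

abbrev SL (F : Type) [Field F] : Type := Matrix.SpecialLinearGroup (Fin 2) F

abbrev upd (i : Fin n) (q : SL F) : Fin n → SL F := Function.update 1 i q

theorem upd_self (i : Fin n) (q : SL F) : upd i q i = q := Function.update_self _ _ _

theorem upd_ne {i j : Fin n} (h : j ≠ i) (q : SL F) : upd i q j = 1 := Function.update_of_ne h _ _

theorem upd_mul (i : Fin n) (q r : SL F) : upd i q * upd i r = upd i (q * r) := by
  rw [upd, upd, ← Function.update_mul, mul_one]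

theorem upd_inv (i : Fin n) (q : SL F) : (upd i q)⁻¹ = upd i q⁻¹ := by
  rw [upd, ← Function.update_inv, inv_one]

variable (h : Ns (SL F) (⊤ : AddSubgroup (Fin 2 → F)) P N n e)
include h

variable {i₀ : Fin n} {a : F → G}

/-- the coordinates of `[a b, v]` -/
theorem e_root (haN : ∀ b, ∀ v ∈ N, a b * v * (a b)⁻¹ ∈ N) (ha : ∀ b, Act e N (a b) (upd i₀ (up b))) (b : F)
    {v : G} (hv : v ∈ N) : e (VF.Q.k (a b) v) i₀ 0 = b * e v i₀ 1 ∧ e (VF.Q.k (a b) v) i₀ 1 = 0 ∧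
      ∀ i, i ≠ i₀ → e (VF.Q.k (a b) v) i = 0 := by
  have h1 := h.e_k (haN b v hv) hv (ha b)
  refine ⟨?_, ?_, fun i hi => ?_⟩
  · rw [h1 i₀, upd_self, Pi.sub_apply, smul_eq, ap_zero', up_00, up_01]; ring
  · rw [h1 i₀, upd_self, Pi.sub_apply, smul_eq, ap_one', up_10, up_11]; ring
  · rw [h1 i, upd_ne hi, one_smul, sub_self]

theorem root_eq_one (haN : ∀ b, ∀ v ∈ N, a b * v * (a b)⁻¹ ∈ N) (ha : ∀ b, Act e N (a b) (upd i₀ (up b))) (b : F)
    {v : G} (hv : v ∈ N) : VF.Q.k (a b) v = 1 ↔ b * e v i₀ 1 = 0 := by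
  obtain ⟨h0, h1, h2⟩ := e_root h haN ha b hv
  rw [← h0]
  constructor
  · intro h3
    rw [h3, h.e_one]; rfl
  · intro h3
    refine h.inj _ (N.mul_mem (haN b v hv) (N.inv_mem hv)) ?_
    funext i
    by_cases hi : i = i₀
    · subst hi
      exact ext2 h3 h1
    · exact h2 i hi

/-- the kernel of the coordinate and its conjugates -/
theorem ker_of {u : G} (hu : u ∈ N) (h0 : ∀ p ∈ P, e (p * u * p⁻¹) i₀ 1 = 0) : u = 1 := by
  obtain ⟨ω, hω, hωA⟩ := h.lift (upd i₀ (wm (1 : F) one_ne_zero))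
  have h1 : ∀ p ∈ P, e (p * u * p⁻¹) i₀ = 0 := by
    intro p hp
    have h2 := h0 (ω * p) (P.mul_mem hω hp)
    have e1 : ω * p * u * (ω * p)⁻¹ = ω * (p * u * p⁻¹) * ω⁻¹ := by group
    rw [e1, hωA _ (h.cj hp hu) i₀, upd_self, smul_eq, ap_one', wm_10, wm_11] at h2
    apply ext2
    · simpa using h2
    · exact h0 p hp
  refine h.inj u hu (funext fun j => ?_)
  obtain ⟨t, ht, h3⟩ := h.trans j i₀
  exact (h3 u hu).1 (h1 t ht)

variable {M₀ W : Subgroup G} {ω : G}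

theorem low_act (haP : ∀ b, a b ∈ P) (ha : ∀ b, Act e N (a b) (upd i₀ (up b)))
    (hω : ω ∈ P) (hωA : Act e N ω (upd i₀ (wm (1 : F) one_ne_zero))) (c : F) :
    Act e N (ω * a c * ω⁻¹) (upd i₀ (lo (-c))) := by
  have h1 := act_mul (fun v hv => h.cj (P.inv_mem hω) hv) (act_mul (fun v hv => h.cj (haP c) hv) hωA (ha c))
    (act_inv (fun v hv => h.cj' hω hv) hωA)
  rwa [upd_inv, upd_mul, upd_mul, wm_conj] at h1

theorem rootM (s : Sit M₀ W N) (PM : P ≤ M₀) (haP : ∀ b, a b ∈ P) (haW : ∀ b, ∀ w ∈ W, VF.Q.k (a b) w ∈ N)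
    (ha : ∀ b, Act e N (a b) (upd i₀ (up b))) (hω : ω ∈ P) (hωA : Act e N ω (upd i₀ (wm (1 : F) one_ne_zero))) :
    RootM M₀ W N F a (ω * a 1 * ω⁻¹) fun v => e v i₀ 1 := by
  have haN : ∀ b, ∀ v ∈ N, a b * v * (a b)⁻¹ ∈ N := fun b v hv => h.cj (haP b) hv
  have hkN : ∀ b, ∀ v ∈ N, VF.Q.k (a b) v ∈ N := fun b v hv => haW b v (s.VW hv)
  refine
  { mem := fun b => PM (haP b)
    aW := haW
    lM := PM (P.mul_mem (P.mul_mem hω (haP 1)) (P.inv_mem hω))
    lW := kN_cj h.nor s PM hω (haW 1)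
    f_mul := fun u hu v hv => by
      rw [h.mul u hu v hv]; rfl
    add := fun b b' v hv => ?_
    zero := fun v hv h0 b => (root_eq_one h haN ha b hv).2 (by
      have h' : e v i₀ 1 = 0 := h0
      rw [h', mul_zero])
    inj := fun b hb v hv h0 => by
      rcases mul_eq_zero.1 ((root_eq_one h haN ha b hv).1 h0) with h1 | h1
      · exact absurd h1 hb
      · exact h1
    disj := fun b c v hv v' hv' h0 => ?_ }
  · refine h.e_inj (hkN _ v hv) (N.mul_mem (hkN _ v hv) (hkN _ v hv)) ?_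
    rw [h.mul _ (hkN _ v hv) _ (hkN _ v hv)]
    funext i
    rw [Pi.add_apply]
    obtain ⟨x0, x1, x2⟩ := e_root h haN ha (b + b') hv
    obtain ⟨y0, y1, y2⟩ := e_root h haN ha b hv
    obtain ⟨z0, z1, z2⟩ := e_root h haN ha b' hv
    by_cases hi : i = i₀
    · subst hi
      apply ext2
      · rw [Pi.add_apply, x0, y0, z0]; ring
      · rw [Pi.add_apply, x1, y1, z1, add_zero]
    · rw [x2 i hi, y2 i hi, z2 i hi, add_zero]
  · obtain ⟨x0, x1, -⟩ := e_root h haN ha b hv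
    obtain ⟨y0, y1, -⟩ := e_root h haN ha c hv'
    have h2 := low_act h haP ha hω hωA 1 _ (hkN c v' hv') i₀
    rw [← h0, upd_self, smul_eq] at h2
    have h3 := congrFun h2 1
    rw [x1, ap_one', lo_10, lo_11, y1, y0] at h3
    have h4 : c * e v' i₀ 1 = 0 := by linear_combination h3
    have h5 := (root_eq_one h haN ha c hv').2 h4
    rw [h0, h5]; group

/-- **natural modules** -/
theorem main [Finite G] [Finite F] (s : Sit M₀ W N) (PM : P ≤ M₀) (no : NoOverM W M₀)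
    (haP : ∀ b, a b ∈ P) (haW : ∀ b, ∀ w ∈ W, VF.Q.k (a b) w ∈ N)
    (ha : ∀ b, Act e N (a b) (upd i₀ (up b)))
    (hsplit : ∀ w ∈ W, ∃ v ∈ N, ∀ b, VF.Q.k (a b) (v⁻¹ * w) = 1) {w : G} (hw : w ∈ W) :
    ∃ v ∈ N, ∀ (d : G) (A : Fin n → SL F), Cl M₀ W N e d A → VF.Q.k d (v⁻¹ * w) = 1 := by
  have haN : ∀ b, ∀ v ∈ N, a b * v * (a b)⁻¹ ∈ N := fun b v hv => h.cj (haP b) hv
  obtain ⟨ω, hω, hωA⟩ := h.lift (upd i₀ (wm (1 : F) one_ne_zero))
  refine h.main s PM no Finite.one_lt_card (rootM h s PM haP haW ha hω hωA) (fun u hu h0 => ker_of h hu h0)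
    (i₀ := i₀) closure_up_lo (fun w hw => ?_) hw
  have hωW : ∀ w ∈ W, ω⁻¹ * w * ω ∈ W := fun w hw => by
    have := s.cj_mem (M₀.inv_mem (PM hω)) hw
    rwa [inv_inv] at this
  obtain ⟨v₁, hv₁, hc₁⟩ := hsplit w hw
  obtain ⟨v₂, hv₂, hc₂⟩ := hsplit _ (hωW w hw)
  have hv₂' : ω * v₂ * ω⁻¹ ∈ N := h.cj hω hv₂
  obtain ⟨v, hv, hev⟩ := h.surj (fun _ => ![e (ω * v₂ * ω⁻¹) i₀ 0, e v₁ i₀ 1]) fun _ => trivial
  have hev' : e v i₀ = ![e (ω * v₂ * ω⁻¹) i₀ 0, e v₁ i₀ 1] := congrFun hev i₀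
  refine ⟨v, hv, fun r hr => ?_⟩
  rcases hr with ⟨b, rfl⟩ | ⟨b, rfl⟩
  · refine ⟨a b, ⟨PM (haP b), haW b, ha b⟩, ?_⟩
    have e1 : v⁻¹ * w = (v⁻¹ * v₁) * (v₁⁻¹ * w) := by group
    have hx : v⁻¹ * v₁ ∈ N := N.mul_mem (N.inv_mem hv) hv₁
    have hy : v₁⁻¹ * w ∈ W := W.mul_mem (W.inv_mem (s.VW hv₁)) hw
    have h3 : VF.Q.k (a b) (v⁻¹ * v₁) = 1 := by
      rw [root_eq_one h haN ha b hx, h.mul _ (N.inv_mem hv) _ hv₁, h.e_inv hv, Pi.add_apply,
        Pi.add_apply, Pi.neg_apply, Pi.neg_apply, hev']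
      simp
    rw [e1, s.k_mul_right (PM (haP b)) (s.VW hx) hy, h3, hc₁ b, one_mul]
  · have hbP : ω * a (-b) * ω⁻¹ ∈ P := P.mul_mem (P.mul_mem hω (haP _)) (P.inv_mem hω)
    refine ⟨ω * a (-b) * ω⁻¹, ⟨PM hbP, kN_cj h.nor s PM hω (haW _), ?_⟩, ?_⟩
    · have h2 := low_act h haP ha hω hωA (-b)
      rwa [neg_neg] at h2
    · have hx : v⁻¹ * (ω * v₂ * ω⁻¹) ∈ N := N.mul_mem (N.inv_mem hv) hv₂'
      have hx' : ω⁻¹ * (v⁻¹ * (ω * v₂ * ω⁻¹)) * ω ∈ N := h.cj' hω hx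
      have e1 : v⁻¹ * w = ω * ((ω⁻¹ * (v⁻¹ * (ω * v₂ * ω⁻¹)) * ω) * (v₂⁻¹ * (ω⁻¹ * w * ω))) * ω⁻¹ := by group
      have hy : v₂⁻¹ * (ω⁻¹ * w * ω) ∈ W := W.mul_mem (W.inv_mem (s.VW hv₂)) (hωW w hw)
      have h4 : VF.Q.k (a (-b)) (ω⁻¹ * (v⁻¹ * (ω * v₂ * ω⁻¹)) * ω) = 1 := by
        rw [root_eq_one h haN ha _ hx']
        have h5 := hωA _ hx' i₀
        rw [upd_self, smul_eq] at h5
        have h6 := congrFun h5 0
        rw [ap_zero', wm_00, wm_01, zero_mul, zero_add, one_mul] at h6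
        have e2 : ω * (ω⁻¹ * (v⁻¹ * (ω * v₂ * ω⁻¹)) * ω) * ω⁻¹ = v⁻¹ * (ω * v₂ * ω⁻¹) := by group
        rw [← h6, e2, h.mul _ (N.inv_mem hv) _ hv₂', h.e_inv hv, Pi.add_apply,
          Pi.add_apply, Pi.neg_apply, Pi.neg_apply, hev']
        simp
      rw [e1, k_cj, s.k_mul_right (PM (haP _)) (s.VW hx') hy, h4, hc₂]
      group

end Cfsg.Agent.Omega.NOThreeL.RRed.Blk.SplitNat

end

end

-- merged: Cfsg.Agent.Mrg.Omega.NOThreeL.RRed.Blk.Split
section

/-!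
# NO-3L, box R, BLOCK THEOREM (#18552 (b), #23943): `zl S L = N × C_U(O²(P))`

`P ∈ P*(S)`, `P ≤ L`, `U = zl S L`, no subgroup of `L` over-offends on `U`; `A ≤ S` is an offender on `U` with
`C_A(V_P) ≤ C(U)`, `A ≰ C(V_P)` (`VF.one`).

* `Sp S L P U N A` : the conclusion;
* `nat` : natural `SL₂(F)`-modules, `V_P = N × cv S P` (`SplitBy`).
-/

set_option autoImplicit false
set_option linter.unusedSectionVars false

namespace Cfsg.Agent.Omega.NOThreeL.RRed.Blk.Split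

open Subgroup Cfsg Cfsg.Agent.ZN Cfsg.Agent.Omega.MinPar Cfsg.Agent.Omega.FFThm
open Cfsg.Agent.Omega.FrameFF (cv)
open Cfsg.Agent.Omega.NOThreeL.VF.Q (Sit RootM k_def cj_eq k_eq_one k_one k_mul_left k_cj)
open Cfsg.Agent.Omega.NOThreeL.RRed.Blk.SplitAbs
open Cfsg.Agent.Omega.NOThreeL.RRed.Blk.SplitAbs.Ns
open Cfsg.Agent.Omega.NOThreeL.RRed.Blk.SplitNat (SL upd upd_self upd_ne smul_eq)
open Cfsg.Agent.Omega.NOThreeL.RTreeA (SplitBy)
open Cfsg.Agent.Lib.SL2Mat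
open Cfsg.Agent.Omega.NatPair (ap ap_one)
open Cfsg.Agent.MinSimple.VModule (oddGen oddGen_le le_normalizer_oddGen oddGen_le_of_sup zc_le_zl)

universe u

variable {G : Type u} [Group G]

/-- The normal closure of `A` in `P`. -/
def ncl (P A : Subgroup G) : Subgroup G := closure {x | ∃ p ∈ P, ∃ a ∈ A, x = p * a * p⁻¹}

theorem mem_ncl {P A : Subgroup G} {p a : G} (hp : p ∈ P) (ha : a ∈ A) : p * a * p⁻¹ ∈ ncl P A :=
  subset_closure ⟨p, hp, a, ha, rfl⟩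

theorem le_ncl {P A : Subgroup G} : A ≤ ncl P A := fun a ha => by
  have := mem_ncl (P.one_mem) ha
  simpa using this

theorem ncl_le {P A : Subgroup G} (h : A ≤ P) : ncl P A ≤ P := by
  rw [ncl, closure_le]
  rintro _ ⟨p, hp, a, ha, rfl⟩
  exact P.mul_mem (P.mul_mem hp (h ha)) (P.inv_mem hp)

theorem norm_ncl {P A : Subgroup G} : P ≤ normalizer (ncl P A : Set G) := by
  have key : ∀ p ∈ P, ∀ x ∈ ncl P A, p * x * p⁻¹ ∈ ncl P A := by
    intro p hp x hx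
    unfold ncl at hx
    induction hx using closure_induction with
    | mem x hx =>
      obtain ⟨q, hq, a, ha, rfl⟩ := hx
      have e : p * (q * a * q⁻¹) * p⁻¹ = (p * q) * a * (p * q)⁻¹ := by group
      rw [e]
      exact mem_ncl (P.mul_mem hp hq) ha
    | one => rw [mul_one, mul_inv_cancel]; exact one_mem _
    | mul x y _ _ hx hy =>
      have e : p * (x * y) * p⁻¹ = (p * x * p⁻¹) * (p * y * p⁻¹) := by group
      rw [e]; exact mul_mem hx hy
    | inv x _ hx =>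
      have e : p * x⁻¹ * p⁻¹ = (p * x * p⁻¹)⁻¹ := by group
      rw [e]; exact inv_mem hx
  intro p hp
  rw [mem_normalizer_iff]
  intro x
  refine ⟨key p hp x, fun hx => ?_⟩
  have h1 := key p⁻¹ (P.inv_mem hp) _ hx
  have e : p⁻¹ * (p * x * p⁻¹) * p⁻¹⁻¹ = x := by group
  rwa [e] at h1

/-- `O²(P) ≤ ⟨A^P⟩` for `A ≤ S`, `A ≰ O₂(P)`. -/
theorem oddGen_le_ncl [Finite G] {S : Sylow 2 G} {P A : Subgroup G}
    (hP : MinSimple.MinParabolic.IsMinPar (S : Subgroup G) P) (hA : A ≤ (S : Subgroup G)) (hne : ¬ A ≤ o2 P) :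
    oddGen P ≤ ncl P A := by
  rcases hP.sup_eq_or_inf_le S.isPGroup' (MinSimple.Basic.not_dvd_relIndex S hP.le) (ncl_le (hA.trans hP.le))
    (norm_ncl) with h | h
  · exact oddGen_le_of_sup norm_ncl h.ge hP.le (ncl_le (hA.trans hP.le)) S.isPGroup'
  · exact absurd ((le_inf hA le_ncl).trans h) hne

/-- **`U = N × C_U(O²(P))`**. -/
structure Sp (L P U N A : Subgroup G) : Prop where
  NU : N ≤ U
  PN : P ≤ normalizer (N : Set G)
  sup : N ⊔ (U ⊓ centralizer (oddGen P : Set G)) = U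
  inf : N ⊓ centralizer (oddGen P : Set G) = ⊥
  /-- `[U, ⟨A^P⟩] ≤ N` -/
  kN : ∀ x ∈ ncl P A, ∀ w ∈ U, x * w * x⁻¹ * w⁻¹ ∈ N
  cent : ncl P A ≤ centralizer ((U ⊓ centralizer (oddGen P : Set G) : Subgroup G) : Set G)
  odd : oddGen P ≤ ncl P A
  /-- LEMMA D -/
  lemD : ∀ d ∈ L, (∀ v ∈ N, d * v = v * d) → (∀ w ∈ U, d * w * d⁻¹ * w⁻¹ ∈ N) → d ∈ centralizer (U : Set G)

theorem sp_of {Y : Type*} [AddCommGroup Y] {Q : Type*} [Group Q] [DistribMulAction Q Y] {n : ℕ}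
    {Y₀ : AddSubgroup Y} {L P U N A : Subgroup G} {e : G → Fin n → Y} (h : Ns Q Y₀ P N n e) (s : Sit L U N)
    (PL : P ≤ L)
    (hmain : ∀ w ∈ U, ∃ v ∈ N, ∀ (d : G) (B : Fin n → Q), Cl L U N e d B → VF.Q.k d (v⁻¹ * w) = 1)
    (hD : ∀ d ∈ L, (∀ v ∈ N, VF.Q.k d v = 1) → (∀ w ∈ U, VF.Q.k d w ∈ N) → ∀ w ∈ U, VF.Q.k d w = 1)
    (hA : A ≤ P) (hkA : ∀ a ∈ A, ∀ w ∈ U, VF.Q.k a w ∈ N) (hact : ∀ a ∈ A, ∃ B : Fin n → Q, Act e N a B)
    (hodd : oddGen P ≤ ncl P A) (hinf : N ⊓ centralizer (oddGen P : Set G) = ⊥) : Sp L P U N A := by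
  have hcl : ∀ p ∈ P, ∀ a ∈ A, ∃ B : Fin n → Q, Cl L U N e (p * a * p⁻¹) B := by
    intro p hp a ha
    obtain ⟨B, hB⟩ := hact a ha
    obtain ⟨B', hB'⟩ := h.norm p hp a (hA ha) B hB
    exact ⟨B', PL (P.mul_mem (P.mul_mem hp (hA ha)) (P.inv_mem hp)), kN_cj h.nor s PL hp (hkA a ha), hB'⟩
  have hcent : ∀ w ∈ U, ∃ v ∈ N, v⁻¹ * w ∈ centralizer (ncl P A : Set G) := by
    intro w hw
    obtain ⟨v, hv, h1⟩ := hmain w hw
    refine ⟨v, hv, ?_⟩
    rw [ncl, centralizer_closure, mem_centralizer_iff]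
    rintro _ ⟨p, hp, a, ha, rfl⟩
    obtain ⟨B, hB⟩ := hcl p hp a ha
    exact k_eq_one.1 (h1 _ B hB)
  have hkN : ∀ x ∈ ncl P A, ∀ w ∈ U, VF.Q.k x w ∈ N := by
    intro x hx w hw
    obtain ⟨v, hv, h1⟩ := hcent w hw
    have hxP : x ∈ P := ncl_le hA hx
    have e1 : w = v * (v⁻¹ * w) := by group
    have h2 : VF.Q.k x (v⁻¹ * w) = 1 := k_eq_one.2 (mem_centralizer_iff.1 h1 x hx)
    rw [e1, s.k_mul_right (PL hxP) (s.VW hv) (U.mul_mem (U.inv_mem (s.VW hv)) hw), h2, mul_one, k_def]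
    exact N.mul_mem (h.cj hxP hv) (N.inv_mem hv)
  refine ⟨s.VW, h.nor, ?_, hinf, hkN, ?_, hodd, ?_⟩
  · refine le_antisymm (sup_le s.VW inf_le_left) fun w hw => ?_
    obtain ⟨v, hv, h1⟩ := hcent w hw
    have e1 : w = v * (v⁻¹ * w) := by group
    rw [e1]
    exact mul_mem (mem_sup_left hv) (mem_sup_right (mem_inf.2
      ⟨U.mul_mem (U.inv_mem (s.VW hv)) hw, centralizer_le hodd h1⟩))
  · rw [le_centralizer_iff]
    intro c hc
    obtain ⟨hc1, hc2⟩ := mem_inf.1 hc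
    obtain ⟨v, hv, h1⟩ := hcent c hc1
    have h3 : v ∈ centralizer (oddGen P : Set G) := by
      have e1 : v = c * (v⁻¹ * c)⁻¹ := by group
      rw [e1]
      exact mul_mem hc2 (inv_mem (centralizer_le hodd h1))
    have h4 : v = 1 := by
      have : v ∈ N ⊓ centralizer (oddGen P : Set G) := mem_inf.2 ⟨hv, h3⟩
      rwa [hinf, mem_bot] at this
    rw [h4, inv_one, one_mul] at h1
    exact h1
  · intro d hd h1 h2
    rw [mem_centralizer_iff]
    intro w hw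
    exact (k_eq_one.1 (hD d hd (fun v hv => k_eq_one.2 (h1 v hv)) h2 w hw)).symm

attribute [local instance] SplitNat.nat

/-- `NatK` on a complement. -/
theorem ns_of {F : Type} [Field F] {T P V D V₀ : Subgroup G} {k : ℕ} (M : NatK F T P V D k)
    (hVV : V₀ ≤ V) (hn : P ≤ normalizer (V₀ : Set G)) (hi : V₀ ⊓ D = ⊥) (hs : V ≤ V₀ ⊔ D) (DV : D ≤ V)
    (hc : ∀ x ∈ V, ∀ y ∈ V, x * y = y * x) (hPV : P ≤ normalizer (V : Set G)) (TP : T ≤ P) :
    Ns (SL F) (⊤ : AddSubgroup (Fin 2 → F)) P V₀ k M.e := by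
  have hdec : ∀ v ∈ V, ∃ x ∈ V₀, ∃ d ∈ D, v = x * d := by
    intro v hv
    refine mem_sup_of (fun x hx => ?_) (hs hv)
    refine centralizer_le_normalizer _ (mem_centralizer_iff.2 fun y hy => hc y (DV hy) x (hVV hx))
  have hcjV : ∀ g ∈ P, ∀ v ∈ V, g * v * g⁻¹ ∈ V := fun g hg v hv => (mem_normalizer_iff.1 (hPV hg) v).1 hv
  have hcj0 : ∀ g ∈ P, ∀ v ∈ V₀, g * v * g⁻¹ ∈ V₀ := fun g hg v hv => (mem_normalizer_iff.1 (hn hg) v).1 hv
  have eD : ∀ d ∈ D, M.e d = 0 := fun d hd => (M.ker d (DV hd)).2 hd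
  -- the coordinates of the conjugates of `D` vanish
  have eD' : ∀ g ∈ P, ∀ d ∈ D, M.e (g * d * g⁻¹) = 0 := by
    intro g hg d hd
    obtain ⟨σ, hσ⟩ := M.perm g hg
    funext i
    have h1 := (hσ d (DV hd) (σ.symm i)).2 (by rw [eD d hd]; rfl)
    rwa [Equiv.apply_symm_apply] at h1
  have hext : ∀ g ∈ P, ∀ A : Fin k → SL F, Act M.e V₀ g A →
      ∀ v ∈ V, ∀ i, M.e (g * v * g⁻¹) i = ap (A i) (M.e v i) := by
    intro g hg A hA v hv i
    obtain ⟨x, hx, d, hd, rfl⟩ := hdec v hv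
    have e1 : g * (x * d) * g⁻¹ = (g * x * g⁻¹) * (g * d * g⁻¹) := by group
    rw [e1, M.mul _ (hcjV g hg _ (hVV hx)) _ (hcjV g hg _ (DV hd)), eD' g hg d hd, add_zero,
      M.mul _ (hVV hx) _ (DV hd), eD d hd, add_zero]
    exact hA x hx i
  refine
  { ne := ⟨![1, 0], trivial, fun h0 => one_ne_zero (congrFun h0 0)⟩
    mem := fun _ _ _ => trivial
    mul := fun v hv w hw => M.mul v (hVV hv) w (hVV hw)
    surj := fun x _ => ?_
    inj := fun v hv h0 => ?_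
    nor := hn
    lift := fun A => ?_
    norm := fun g hg x hx A hA => ?_
    perm := fun g hg => ?_
    trans := fun i j => ?_ }
  · obtain ⟨v, hv, rfl⟩ := M.surj x
    obtain ⟨y, hy, d, hd, rfl⟩ := hdec v hv
    exact ⟨y, hy, by rw [M.mul _ (hVV hy) _ (DV hd), eD d hd, add_zero]⟩
  · have h1 : v ∈ V₀ ⊓ D := mem_inf.2 ⟨hv, (M.ker v (hVV hv)).1 h0⟩
    rwa [hi, mem_bot] at h1
  · obtain ⟨g, hg, h1, -⟩ := M.lift A
    exact ⟨g, hg, fun v hv i => h1 v (hVV hv) i⟩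
  · obtain ⟨B, hB⟩ := M.norm g hg x hx A (hext x hx A hA)
    exact ⟨B, fun v hv i => hB v (hVV hv) i⟩
  · obtain ⟨σ, hσ⟩ := M.perm g hg
    exact ⟨σ, fun v hv i => hσ v (hVV hv) i⟩
  · obtain ⟨t, ht, h1⟩ := M.trans i j
    exact ⟨t, TP ht, fun v hv => h1 v (hVV hv)⟩

/-- **BLOCK THEOREM, `U = N × C_U(O²(P))`, natural modules.** -/
theorem nat [Finite G] (hc : IsCharacteristicTwoType G) {S : Sylow 2 G} {L P A V₀ : Subgroup G}
    (hL : IsLoc (S : Subgroup G) L) (hP : IsParS (S : Subgroup G) P) (hPL : P ≤ L)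
    (no : NoOverM (zl (S : Subgroup G) L) L) (noP : NoOverM (zl (S : Subgroup G) P) P)
    (hA : A ≤ (S : Subgroup G)) (off : OffM (zl (S : Subgroup G) L) A)
    (hne : ¬ A ≤ centralizer (zl (S : Subgroup G) P : Set G))
    (hAC : A ⊓ centralizer (zl (S : Subgroup G) P : Set G) ≤ centralizer (zl (S : Subgroup G) L : Set G))
    {F : Type} [Field F] [Finite F] [CharP F 2] {k : ℕ}
    (M : NatKM F (S : Subgroup G) P (zl (S : Subgroup G) P) (cv (S : Subgroup G) P) k)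
    (hV : SplitBy (S : Subgroup G) P (cv (S : Subgroup G) P) V₀) :
    Sp L P (zl (S : Subgroup G) L) V₀ A := by
  classical
  have hSP : (S : Subgroup G) ≤ P := hP.le
  have hAP : A ≤ P := hA.trans hSP
  have hVW : zl (S : Subgroup G) P ≤ zl (S : Subgroup G) L := MinSimple.VModule.zl_le (zc_le_zl _ _) (hPL.trans (le_normalizer_zl _ _))
  have hE := FFThm.elem_zl hc S hL
  have ab : ∀ x ∈ zl (S : Subgroup G) L, ∀ y ∈ zl (S : Subgroup G) L, x * y = y * x :=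
    fun x hx y hy => congrArg Subtype.val (hE.1.is_comm.comm ⟨x, hx⟩ ⟨y, hy⟩)
  have sq : ∀ x ∈ zl (S : Subgroup G) L, x * x = 1 := fun x hx => by rw [← pow_two]; exact hE.2 x hx
  have s0 : Sit L (zl (S : Subgroup G) L) (zl (S : Subgroup G) P) := ⟨ab, sq, hVW, le_normalizer_zl _ _⟩
  obtain ⟨hV1, hV2, hV3, hV4⟩ := hV
  have s : Sit L (zl (S : Subgroup G) L) V₀ := ⟨ab, sq, hV1.trans hVW, le_normalizer_zl _ _⟩
  have DV : cv (S : Subgroup G) P ≤ zl (S : Subgroup G) P := inf_le_left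
  have h := ns_of M.toNatK hV1 hV2 hV3 hV4 DV (fun x hx y hy => ab x (hVW hx) y (hVW hy))
    (le_normalizer_zl _ _) hSP
  have offV := s0.offM_of off hne hAC
  have hsplit : ∀ w ∈ zl (S : Subgroup G) L, ∃ v ∈ V₀, ∀ a ∈ A, (∀ d ∈ cv (S : Subgroup G) P, a * d = d * a) →
      VF.Q.k a (v⁻¹ * w) = 1 := by
    intro w hw
    obtain ⟨v, hv, h1⟩ := s0.exists_split off hAC (noP A hAP offV.toElemM) hw
    have h2 : V₀ ≤ normalizer (cv (S : Subgroup G) P : Set G) := fun x hx =>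
      centralizer_le_normalizer _ (mem_centralizer_iff.2 fun y hy => ab y (hVW (DV hy)) x (hVW (hV1 hx)))
    obtain ⟨x, hx, d, hd, rfl⟩ := mem_sup_of h2 (hV4 hv)
    refine ⟨x, hx, fun a ha had => k_eq_one.2 ?_⟩
    have e1 : x⁻¹ * w = d * ((x * d)⁻¹ * w) := by group
    have h3 := mem_centralizer_iff.1 h1 a ha
    have h4 := had d hd
    rw [e1]
    calc a * (d * ((x * d)⁻¹ * w)) = (a * d) * ((x * d)⁻¹ * w) := by group
      _ = d * (a * ((x * d)⁻¹ * w)) := by rw [h4]; group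
      _ = d * ((x * d)⁻¹ * w) * a := by rw [h3]; group
  obtain ⟨I, hI1, hI2⟩ := M.offM A hA offV
  have hAD : ∀ a ∈ A, ∀ d ∈ cv (S : Subgroup G) P, a * d = d * a := fun a ha => by
    obtain ⟨b, -, hb⟩ := hI1 a ha
    exact hb.2
  have hkA : ∀ a ∈ A, ∀ w ∈ zl (S : Subgroup G) L, VF.Q.k a w ∈ V₀ := by
    intro a ha w hw
    obtain ⟨v, hv, h1⟩ := hsplit w hw
    have e1 : w = v * (v⁻¹ * w) := by group
    rw [e1, s.k_mul_right (hPL (hAP ha)) (s.VW hv) (mul_mem (inv_mem (s.VW hv)) hw), h1 a ha (hAD a ha), mul_one,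
      k_def]
    exact mul_mem (h.cj (hAP ha) hv) (inv_mem hv)
  obtain ⟨i₀, hi₀⟩ : I.Nonempty := by
    by_contra hcon
    rw [Set.not_nonempty_iff_eq_empty] at hcon
    subst hcon
    apply hne
    intro x hx
    obtain ⟨b, hb, hact⟩ := hI1 x hx
    -- `x` acts trivially on the coordinates and centralises `D`
    rw [mem_centralizer_iff]
    intro v hv
    have h2 : V₀ ≤ normalizer (cv (S : Subgroup G) P : Set G) := fun x hx =>
      centralizer_le_normalizer _ (mem_centralizer_iff.2 fun y hy => ab y (hVW (DV hy)) x (hVW (hV1 hx)))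
    obtain ⟨y, hy, d, hd, rfl⟩ := mem_sup_of h2 (hV4 hv)
    have h3 : VF.Q.k x y = 1 := by
      refine h.k_one_of hy (h.cj (hAP hx) hy) (funext fun i => ?_)
      rw [hact.1 y (hV1 hy) i]
      beta_reduce
      rw [hb i (Set.notMem_empty i), up_zero, ap_one]
    have h4 := k_eq_one.1 h3
    have h5 := hAD x hx d hd
    calc y * d * x = y * (x * d) := by rw [h5]; group
      _ = x * (y * d) := by rw [← mul_assoc, ← h4]; group
  have hex : ∀ b : F, ∃ x ∈ A, ActsSL M.e (zl (S : Subgroup G) P) (cv (S : Subgroup G) P) x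
      fun i => up ((Pi.single i₀ b : Fin k → F) i) := by
    intro b
    refine hI2 (Pi.single i₀ b) fun i hi => ?_
    have hne' : i ≠ i₀ := fun h => hi (by rw [h]; exact hi₀)
    rw [Pi.single_eq_of_ne hne']
  choose a haA haact using hex
  have ha : ∀ b, Act M.e V₀ (a b) (upd i₀ (up b)) := by
    intro b v hv i
    rw [(haact b).1 v (hV1 hv) i]
    beta_reduce
    by_cases hi : i = i₀
    · subst hi
      rw [upd_self, Pi.single_eq_same]; rfl
    · rw [upd_ne hi, Pi.single_eq_of_ne hi, up_zero, one_smul, ap_one]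
  have haP : ∀ b, a b ∈ P := fun b => hAP (haA b)
  have haW : ∀ b, ∀ w ∈ zl (S : Subgroup G) L, VF.Q.k (a b) w ∈ V₀ := fun b => hkA _ (haA b)
  obtain ⟨ω, hω, hωA⟩ := h.lift (upd i₀ (wm (1 : F) one_ne_zero))
  have R := SplitNat.rootM h s hPL haP haW ha hω hωA
  refine sp_of h s hPL (fun w hw => ?_) (fun d hd h1 h2 w hw => ?_) hAP hkA (fun x hx => ?_) ?_ ?_
  · exact SplitNat.main h s hPL no haP haW ha (fun w hw => by
      obtain ⟨v, hv, h1⟩ := hsplit w hw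
      exact ⟨v, hv, fun b => h1 _ (haA b) (hAD _ (haA b))⟩) hw
  · exact lemD h.nor s hPL no Finite.one_lt_card R (fun u hu h0 => SplitNat.ker_of h hu h0) hd h1 h2 hw
  · obtain ⟨b, -, hb⟩ := hI1 x hx
    exact ⟨fun i => up (b i), fun v hv i => hb.1 v (hV1 hv) i⟩
  · refine oddGen_le_ncl hP.toIsMinPar hA fun h1 => hne ?_
    rw [← hP.inf_centralizer S hc] at h1
    exact h1.trans inf_le_right
  · have h1 : V₀ ⊓ centralizer (oddGen P : Set G) ≤ V₀ ⊓ cv (S : Subgroup G) P :=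
      le_inf inf_le_left (le_inf (inf_le_left.trans hV1) inf_le_right)
    rw [hV3] at h1
    exact le_bot_iff.1 h1

end Cfsg.Agent.Omega.NOThreeL.RRed.Blk.Split

end

-- merged: Cfsg.Agent.Mrg.Omega.NOThreeL.RRed.Blk.SplitSym
section

/-!
# NO-3L, box R, BLOCK THEOREM: `zl S L = N × C_U(O²(P))`, even-subset modules of `S_{2^m+1}`
-/

set_option autoImplicit false
set_option linter.unusedSectionVars false

namespace Cfsg.Agent.Omega.NOThreeL.RRed.Blk.SplitSym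

open Subgroup Cfsg Cfsg.Agent.ZN Cfsg.Agent.Omega.MinPar Cfsg.Agent.Omega.FFThm
open Cfsg.Agent.Omega.FrameFF (cv)
open Cfsg.Agent.Omega.NOThreeL.VF.Q (Sit RootM k_def cj_eq k_eq_one k_one k_mul_left k_cj)
open Cfsg.Agent.Omega.NOThreeL.VF.Q.S (z2_add_self z2_neg const_eq_zero exists_even rt rt_zero rt_one rt_mem z2_cases)
open Cfsg.Agent.Omega.NOThreeL.RRed.Blk.SplitAbs
open Cfsg.Agent.Omega.NOThreeL.RRed.Blk.SplitAbs.Ns
open Cfsg.Agent.Omega.NOThreeL.RRed.Blk.Split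
open Cfsg.Agent.ZN.ChoiceSit (Syl)
open Cfsg.Agent.MinSimple.VModule (oddGen oddGen_le le_normalizer_oddGen oddGen_le_of_sup zc_le_zl)

universe u

/-- permutations act on functions -/
@[reducible] def sym (α : Type*) : DistribMulAction (Equiv.Perm α) (α → ZMod 2) where
  smul τ y := fun x => y (τ⁻¹ x)
  one_smul _ := rfl
  mul_smul τ ρ y := by
    funext x
    change y ((τ * ρ)⁻¹ x) = y (ρ⁻¹ (τ⁻¹ x))
    rw [mul_inv_rev]; rfl
  smul_zero _ := rfl
  smul_add _ _ _ := rfl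

attribute [local instance] sym

theorem smul_apply {α : Type*} (τ : Equiv.Perm α) (y : α → ZMod 2) (x : α) : (τ • y) x = y (τ⁻¹ x) := rfl

theorem smul_apply' {α : Type*} (τ : Equiv.Perm α) (y : α → ZMod 2) (x : α) : (τ • y) (τ x) = y x :=
  congrArg y (τ.symm_apply_apply x)

abbrev PN (m : ℕ) : Type := Equiv.Perm (Fin (2 ^ m + 1))

/-- the even functions -/
def Ev (m : ℕ) : AddSubgroup (Fin (2 ^ m + 1) → ZMod 2) where
  carrier := {y | ∑ x, y x = 0}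
  zero_mem' := by simp
  add_mem' := by
    intro a b ha hb
    change ∑ x, (a x + b x) = 0
    rw [Finset.sum_add_distrib]
    change ∑ x, a x = 0 at ha
    change ∑ x, b x = 0 at hb
    rw [ha, hb, add_zero]
  neg_mem' := by
    intro a ha
    change ∑ x, (-a x) = 0
    change ∑ x, a x = 0 at ha
    rw [Finset.sum_neg_distrib, ha, neg_zero]

theorem mem_Ev {m : ℕ} {y : Fin (2 ^ m + 1) → ZMod 2} : y ∈ Ev m ↔ ∑ x, y x = 0 := Iff.rfl

variable {G : Type u} [Group G] {P N : Subgroup G} {n m : ℕ} {e : G → Fin n → Fin (2 ^ m + 1) → ZMod 2}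

theorem act_iff {g : G} {B : Fin n → PN m} : Act e N g B ↔ ActsSym e N g 1 B := by
  constructor
  · intro h v hv i x
    change e (g * v * g⁻¹) i (B i x) = e v i x
    rw [h v hv i, smul_apply']
  · intro h v hv i
    funext y
    obtain ⟨x, rfl⟩ := (B i).surjective y
    rw [smul_apply']
    exact h v hv i x

abbrev upd (i : Fin n) (q : PN m) : Fin n → PN m := Function.update 1 i q

theorem upd_self (i : Fin n) (q : PN m) : upd i q i = q := Function.update_self _ _ _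

theorem upd_ne {i j : Fin n} (h : j ≠ i) (q : PN m) : upd i q j = 1 := Function.update_of_ne h _ _

theorem upd_mul (i : Fin n) (q r : PN m) : upd i q * upd i r = upd i (q * r) := by
  rw [upd, upd, ← Function.update_mul, mul_one]

theorem upd_inv (i : Fin n) (q : PN m) : (upd i q)⁻¹ = upd i q⁻¹ := by
  rw [upd, ← Function.update_inv, inv_one]

variable (h : Ns (PN m) (Ev m) P N n e)
include h

/-- a transposition centralises `v` iff the two coordinates agree -/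
theorem swap_eq_one {g v : G} (hg : g * v * g⁻¹ ∈ N) (hv : v ∈ N) {i₀ : Fin n} {x₀ y₀ : Fin (2 ^ m + 1)}
    (hA : Act e N g (upd i₀ (Equiv.swap x₀ y₀))) : VF.Q.k g v = 1 ↔ e v i₀ x₀ + e v i₀ y₀ = 0 := by
  rw [h.k_eq_one_iff hg hv hA]
  constructor
  · intro h1
    have h2 := congrFun (h1 i₀) x₀
    rw [upd_self, smul_apply, Equiv.swap_inv, Equiv.swap_apply_left] at h2
    rw [h2, z2_add_self]
  · intro h1 i
    have h2 : e v i₀ x₀ = e v i₀ y₀ := by
      rw [eq_neg_of_add_eq_zero_left h1, z2_neg]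
    by_cases hi : i = i₀
    · subst hi
      funext x
      rw [upd_self, smul_apply, Equiv.swap_inv]
      by_cases hx : x = x₀
      · rw [hx, Equiv.swap_apply_left, h2]
      · by_cases hy : x = y₀
        · rw [hy, Equiv.swap_apply_right, h2]
        · rw [Equiv.swap_apply_of_ne_of_ne hx hy]
    · rw [upd_ne hi, one_smul]

/-- the kernel -/
theorem ker_of (hm : 1 ≤ m) {i₀ : Fin n} {x₀ y₀ : Fin (2 ^ m + 1)} (hxy : x₀ ≠ y₀) {u : G} (hu : u ∈ N)
    (h0 : ∀ p ∈ P, e (p * u * p⁻¹) i₀ x₀ + e (p * u * p⁻¹) i₀ y₀ = 0) : u = 1 := by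
  have h1 : ∀ p ∈ P, e (p * u * p⁻¹) i₀ = 0 := by
    intro p hp
    refine const_eq_zero hm (h.mem _ (h.cj hp hu) i₀) fun x => ?_
    by_cases hx0 : x = 0
    · rw [hx0]
    obtain ⟨ρ, hρ1, hρ2⟩ : ∃ ρ : Equiv.Perm (Fin (2 ^ m + 1)), ρ x = x₀ ∧ ρ 0 = y₀ := by
      refine ⟨Equiv.swap (Equiv.swap x x₀ 0) y₀ * Equiv.swap x x₀, ?_, ?_⟩
      · rw [Equiv.Perm.mul_apply, Equiv.swap_apply_left, Equiv.swap_apply_of_ne_of_ne _ hxy]
        intro h2
        have h3 := congrArg (Equiv.swap x x₀) h2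
        rw [Equiv.swap_apply_self, Equiv.swap_apply_right] at h3
        exact hx0 h3
      · rw [Equiv.Perm.mul_apply, Equiv.swap_apply_left]
    obtain ⟨g, hg, hA⟩ := h.lift (upd i₀ ρ)
    have h2 := h0 (g * p) (P.mul_mem hg hp)
    have e1 : g * p * u * (g * p)⁻¹ = g * (p * u * p⁻¹) * g⁻¹ := by group
    have h3 : ∀ z, e (g * (p * u * p⁻¹) * g⁻¹) i₀ (ρ z) = e (p * u * p⁻¹) i₀ z := by
      intro z
      have h4 := congrFun (hA _ (h.cj hp hu) i₀) (ρ z)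
      rw [upd_self, smul_apply'] at h4
      exact h4
    rw [e1, ← hρ1, ← hρ2, h3, h3] at h2
    rw [eq_neg_of_add_eq_zero_left h2, z2_neg]
  refine h.inj u hu (funext fun j => ?_)
  obtain ⟨t, ht, h2⟩ := h.trans j i₀
  exact (h2 u hu).1 (h1 t ht)

variable {M₀ W : Subgroup G}

theorem rootM (s : Sit M₀ W N) (PM : P ≤ M₀) {i₀ : Fin n} {x₀ y₀ z₀ : Fin (2 ^ m + 1)} (hxy : x₀ ≠ y₀)
    (hxz : z₀ ≠ x₀) (hyz : z₀ ≠ y₀) {t p : G} (htP : t ∈ P) (htA : Act e N t (upd i₀ (Equiv.swap x₀ y₀)))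
    (htW : ∀ w ∈ W, VF.Q.k t w ∈ N) (hp : p ∈ P) (hpA : Act e N p (upd i₀ (Equiv.swap x₀ z₀))) :
    RootM M₀ W N (ZMod 2) (rt t) (p * t * p⁻¹) fun v => e v i₀ x₀ + e v i₀ y₀ := by
  have hlP : p * t * p⁻¹ ∈ P := P.mul_mem (P.mul_mem hp htP) (P.inv_mem hp)
  have hk1 : ∀ v : G, VF.Q.k (rt t 0) v = 1 := fun v => by rw [rt_zero, k_one]
  refine
  { mem := fun b => PM (rt_mem htP b)
    aW := fun b w hw => ?_
    lM := PM hlP
    lW := kN_cj h.nor s PM hp htW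
    f_mul := fun u hu v hv => ?_
    add := fun b b' v hv => ?_
    zero := fun v hv h0 b => ?_
    inj := fun b hb v hv h0 => ?_
    disj := fun b c v hv v' hv' h0 => ?_ }
  · rcases z2_cases b with rfl | rfl
    · rw [hk1]; exact N.one_mem
    · rw [rt_one]; exact htW w hw
  · rw [h.mul u hu v hv]
    simp only [Pi.add_apply]
    ring
  · rcases z2_cases b with rfl | rfl
    · rw [zero_add, hk1, one_mul]
    · rcases z2_cases b' with rfl | rfl
      · rw [add_zero, hk1, mul_one]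
      · rw [z2_add_self, hk1, rt_one]
        exact (s.sq _ (s.VW (htW _ (s.VW hv)))).symm
  · rcases z2_cases b with rfl | rfl
    · exact hk1 v
    · rw [rt_one]
      exact (swap_eq_one h (h.cj htP hv) hv htA).2 h0
  · rcases z2_cases b with rfl | rfl
    · exact absurd rfl hb
    · rw [rt_one] at h0
      exact (swap_eq_one h (h.cj htP hv) hv htA).1 h0
  · rcases z2_cases b with rfl | rfl
    · exact hk1 v
    rcases z2_cases c with rfl | rfl
    · rw [hk1] at h0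
      rw [h0]; group
    rw [rt_one] at h0 ⊢
    -- compare the coordinates `(i₀, z₀)`
    have hu : VF.Q.k t v' ∈ N := htW _ (s.VW hv')
    have hl : Act e N (p * t * p⁻¹) (upd i₀ (Equiv.swap z₀ y₀)) := by
      have h1 := act_mul (fun v hv => h.cj (P.inv_mem hp) hv) (act_mul (fun v hv => h.cj htP hv) hpA htA)
        (act_inv (fun v hv => h.cj' hp hv) hpA)
      rwa [upd_inv, upd_mul, upd_mul, ← Equiv.swap_apply_apply, Equiv.swap_apply_left,
        Equiv.swap_apply_of_ne_of_ne hxy.symm hyz.symm] at h1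
    have h1 : e (p * t * p⁻¹ * VF.Q.k t v' * (p * t * p⁻¹)⁻¹) i₀ z₀ = e (VF.Q.k t v') i₀ y₀ := by
      rw [hl _ hu i₀, upd_self, smul_apply, Equiv.swap_inv, Equiv.swap_apply_left]
    have h3 : e (VF.Q.k t v) i₀ z₀ = 0 := by
      rw [h.e_k (h.cj htP hv) hv htA, upd_self, Pi.sub_apply, smul_apply, Equiv.swap_inv,
        Equiv.swap_apply_of_ne_of_ne hxz hyz, sub_self]
    have h5 : e (VF.Q.k t v') i₀ y₀ = e v' i₀ x₀ + e v' i₀ y₀ := by
      rw [h.e_k (h.cj htP hv') hv' htA, upd_self, Pi.sub_apply, smul_apply, Equiv.swap_inv,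
        Equiv.swap_apply_right, sub_eq_add_neg, z2_neg]
    rw [h0, h1, h5, ← swap_eq_one h (h.cj htP hv') hv' htA] at h3
    rw [h0, h3]; group

/-- **even-subset modules** -/
theorem main [Finite G] (hm : 1 ≤ m) (s : Sit M₀ W N) (PM : P ≤ M₀) (no : NoOverM W M₀) {i₀ : Fin n}
    {x₀ y₀ z₀ : Fin (2 ^ m + 1)} (hxy : x₀ ≠ y₀) (hxz : z₀ ≠ x₀) (hyz : z₀ ≠ y₀) {t : G} (htP : t ∈ P)
    (htA : Act e N t (upd i₀ (Equiv.swap x₀ y₀))) (htW : ∀ w ∈ W, VF.Q.k t w ∈ N)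
    (hsplit : ∀ w ∈ W, ∃ v ∈ N, VF.Q.k t (v⁻¹ * w) = 1) {w : G} (hw : w ∈ W) :
    ∃ v ∈ N, ∀ (d : G) (A : Fin n → PN m), Cl M₀ W N e d A → VF.Q.k d (v⁻¹ * w) = 1 := by
  obtain ⟨p, hp, hpA⟩ := h.lift (upd i₀ (Equiv.swap x₀ z₀))
  have hX : closure (Set.range fun j : Fin (2 ^ m) => Equiv.swap j.castSucc j.succ) = (⊤ : Subgroup (PN m)) := by
    rw [eq_top_iff]
    intro x _
    have h1 : x ∈ Submonoid.closure (Set.range fun j : Fin (2 ^ m) => Equiv.swap j.castSucc j.succ) := by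
      rw [Equiv.Perm.mclosure_swap_castSucc_succ]; trivial
    exact (Submonoid.closure_le (S := (closure (Set.range fun j : Fin (2 ^ m) =>
      Equiv.swap j.castSucc j.succ)).toSubmonoid)).2 subset_closure h1
  refine h.main s PM no Finite.one_lt_card (rootM h s PM hxy hxz hyz htP htA htW hp hpA)
    (fun u hu h0 => ker_of h hm hxy hu h0) (i₀ := i₀) hX (fun w hw => ?_) hw
  -- the adjacent transpositions
  have h1 : ∀ j : Fin (2 ^ m), ∃ x ∈ P, (∀ w ∈ W, VF.Q.k x w ∈ N) ∧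
      Act e N x (upd i₀ (Equiv.swap j.castSucc j.succ)) ∧ ∃ v ∈ N, VF.Q.k x (v⁻¹ * w) = 1 := by
    intro j
    have hjj : j.castSucc ≠ j.succ := (Fin.castSucc_lt_succ (i := j)).ne
    obtain ⟨ρ, hρ1, hρ2⟩ : ∃ ρ : Equiv.Perm (Fin (2 ^ m + 1)), ρ x₀ = j.castSucc ∧ ρ y₀ = j.succ := by
      refine ⟨Equiv.swap (Equiv.swap x₀ j.castSucc y₀) j.succ * Equiv.swap x₀ j.castSucc, ?_, ?_⟩
      · rw [Equiv.Perm.mul_apply, Equiv.swap_apply_left, Equiv.swap_apply_of_ne_of_ne _ hjj]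
        intro h2
        have h3 := congrArg (Equiv.swap x₀ j.castSucc) h2
        rw [Equiv.swap_apply_self, Equiv.swap_apply_right] at h3
        exact hxy h3
      · rw [Equiv.Perm.mul_apply, Equiv.swap_apply_left]
    obtain ⟨g, hg, hgA⟩ := h.lift (upd i₀ ρ)
    refine ⟨g * t * g⁻¹, P.mul_mem (P.mul_mem hg htP) (P.inv_mem hg), kN_cj h.nor s PM hg htW, ?_, ?_⟩
    · have h2 := act_mul (fun v hv => h.cj (P.inv_mem hg) hv) (act_mul (fun v hv => h.cj htP hv) hgA htA)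
        (act_inv (fun v hv => h.cj' hg hv) hgA)
      rwa [upd_inv, upd_mul, upd_mul, ← Equiv.swap_apply_apply, hρ1, hρ2] at h2
    · have hw' : g⁻¹ * w * g ∈ W := by
        have := s.cj_mem (M₀.inv_mem (PM hg)) hw
        rwa [inv_inv] at this
      obtain ⟨v, hv, hc⟩ := hsplit _ hw'
      refine ⟨g * v * g⁻¹, h.cj hg hv, ?_⟩
      have e1 : (g * v * g⁻¹)⁻¹ * w = g * (v⁻¹ * (g⁻¹ * w * g)) * g⁻¹ := by group
      rw [e1, k_cj, hc]
      group
  choose x hxP hxW hxA y hy hyc using h1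
  obtain ⟨d, hd0, hd⟩ := exists_even hm fun j => e (y j) i₀ j.castSucc + e (y j) i₀ j.succ
  obtain ⟨v, hv, hev⟩ := h.surj (fun _ => d) fun _ => hd0
  refine ⟨v, hv, ?_⟩
  rintro _ ⟨j, rfl⟩
  refine ⟨x j, ⟨PM (hxP j), hxW j, hxA j⟩, ?_⟩
  have hx : v⁻¹ * y j ∈ N := N.mul_mem (N.inv_mem hv) (hy j)
  have hz : (y j)⁻¹ * w ∈ W := W.mul_mem (W.inv_mem (s.VW (hy j))) hw
  have e1 : v⁻¹ * w = (v⁻¹ * y j) * ((y j)⁻¹ * w) := by group
  have h3 : VF.Q.k (x j) (v⁻¹ * y j) = 1 := by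
    rw [swap_eq_one h (h.cj (hxP j) hx) hx (hxA j), h.mul _ (N.inv_mem hv) _ (hy j), h.e_inv hv, hev]
    have h4 := hd j
    have h5 := z2_add_self (e (y j) i₀ j.castSucc + e (y j) i₀ j.succ)
    simp only [Pi.add_apply, Pi.neg_apply, z2_neg]
    linear_combination h4 + h5
  rw [e1, s.k_mul_right (PM (hxP j)) (s.VW hx) hz, h3, hyc j, one_mul]

omit h in
/-- `SymK` with `D = 1`. -/
theorem ns_of {T P V : Subgroup G} {k m : ℕ} (M : SymK T P V ⊥ k m)
    (hPV : P ≤ normalizer (V : Set G)) (TP : T ≤ P) : Ns (PN m) (Ev m) P V k M.e := by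
  have hn : ∀ h ∈ P, ∀ v ∈ V, h * v * h⁻¹ ∈ V := fun g hg v hv => (mem_normalizer_iff.1 (hPV hg) v).1 hv
  have h01 : (0 : Fin (2 ^ m + 1)) ≠ Fin.last (2 ^ m) := by
    intro h1
    have h2 := congrArg Fin.val h1
    rw [Fin.val_last, Fin.val_zero] at h2
    have : 0 < 2 ^ m := Nat.two_pow_pos m
    omega
  refine
  { ne := ⟨Pi.single 0 1 + Pi.single (Fin.last (2 ^ m)) 1, ?_, fun h0 => ?_⟩
    mem := fun v hv i => M.even v hv i
    mul := M.mul
    surj := fun x hx => M.surj x hx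
    inj := fun v hv h0 => mem_bot.1 ((M.ker v hv).1 h0)
    nor := hPV
    lift := fun A => ?_
    norm := fun g hg x hx A hA => ?_
    perm := fun g hg => ?_
    trans := fun i j => ?_ }
  · rw [mem_Ev]
    simp only [Pi.add_apply, Finset.sum_add_distrib, Finset.sum_pi_single', Finset.mem_univ, if_true]
    exact z2_add_self 1
  · have h1 := congrFun h0 0
    rw [Pi.add_apply, Pi.single_eq_same, Pi.single_eq_of_ne h01, add_zero] at h1
    exact one_ne_zero h1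
  · obtain ⟨g, hg, h1, -⟩ := M.lift A
    exact ⟨g, hg, act_iff.2 h1⟩
  · obtain ⟨σ, τ, hg1⟩ := M.perm g hg
    exact ⟨_, act_iff.2 (VF.Q.S.acts_conj hn hg hx hg1 (act_iff.1 hA))⟩
  · obtain ⟨σ, τ, h1⟩ := M.perm g hg
    refine ⟨σ, fun v hv i => ⟨fun h0 => ?_, fun h0 => ?_⟩⟩
    · funext x
      rw [← h1 v hv i x, h0]; rfl
    · funext y
      obtain ⟨x, rfl⟩ := (τ i).surjective y
      rw [h1 v hv i x, h0]; rfl
  · obtain ⟨t, ht, σ, τ, h1, h2⟩ := M.trans i j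
    refine ⟨t, TP ht, fun v hv => ⟨fun h0 => ?_, fun h0 => ?_⟩⟩
    · funext x
      rw [← h1 v hv i x, h2, h0]; rfl
    · funext y
      obtain ⟨x, rfl⟩ := (τ i).surjective y
      rw [← h2, h1 v hv i x, h0]; rfl

omit h in
/-- `SymK` : `V_P` splits. -/
theorem splitBy [Finite G] (hc : IsCharacteristicTwoType G) {S : Sylow 2 G} {P : Subgroup G}
    (hP : IsPar (S : Subgroup G) P) {k m : ℕ} (hk : 0 < k) (hm : 1 ≤ m)
    (M : SymK (S : Subgroup G) P (zl (S : Subgroup G) P) (cv (S : Subgroup G) P) k m) :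
    (∀ g ∈ P, ∀ d ∈ cv (S : Subgroup G) P, g * d = d * g) ∧
      ∃ V₀, RTreeA.SplitBy (S : Subgroup G) P (cv (S : Subgroup G) P) V₀ := by
  have hT : Syl (S : Subgroup G) P := ⟨hP.le, S.isPGroup', fun Q _ hQ hle => S.is_maximal' hQ hle⟩
  obtain ⟨h1, A, hAV, hsup, hinf, hAN⟩ := IId.SymWrD.exists_compl M hk hm hT (hP.isLoc.char2 S hc)
  exact ⟨h1, A, hAV, hAN, hinf, hsup.ge⟩

omit h in
/-- **BLOCK THEOREM, `U = N × C_U(O²(P))`, even-subset modules.** -/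
theorem sp [Finite G] (hc : IsCharacteristicTwoType G) {S : Sylow 2 G} {L P A V₀ : Subgroup G}
    (hL : IsLoc (S : Subgroup G) L) (hP : IsParS (S : Subgroup G) P) (hPL : P ≤ L)
    (no : NoOverM (zl (S : Subgroup G) L) L) (noP : NoOverM (zl (S : Subgroup G) P) P)
    (hA : A ≤ (S : Subgroup G)) (off : OffM (zl (S : Subgroup G) L) A)
    (hne : ¬ A ≤ centralizer (zl (S : Subgroup G) P : Set G))
    (hAC : A ⊓ centralizer (zl (S : Subgroup G) P : Set G) ≤ centralizer (zl (S : Subgroup G) L : Set G))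
    {k m : ℕ} (hk : 0 < k) (hm : 1 ≤ m)
    (M : SymKM (S : Subgroup G) P (zl (S : Subgroup G) P) (cv (S : Subgroup G) P) k m)
    (hV : RTreeA.SplitBy (S : Subgroup G) P (cv (S : Subgroup G) P) V₀) :
    Sp L P (zl (S : Subgroup G) L) V₀ A := by
  classical
  have hSP : (S : Subgroup G) ≤ P := hP.le
  have hAP : A ≤ P := hA.trans hSP
  have hVW : zl (S : Subgroup G) P ≤ zl (S : Subgroup G) L :=
    MinSimple.VModule.zl_le (zc_le_zl _ _) (hPL.trans (le_normalizer_zl _ _))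
  have hE := FFThm.elem_zl hc S hL
  have ab : ∀ x ∈ zl (S : Subgroup G) L, ∀ y ∈ zl (S : Subgroup G) L, x * y = y * x :=
    fun x hx y hy => congrArg Subtype.val (hE.1.is_comm.comm ⟨x, hx⟩ ⟨y, hy⟩)
  have sq : ∀ x ∈ zl (S : Subgroup G) L, x * x = 1 := fun x hx => by rw [← pow_two]; exact hE.2 x hx
  have s0 : Sit L (zl (S : Subgroup G) L) (zl (S : Subgroup G) P) := ⟨ab, sq, hVW, le_normalizer_zl _ _⟩
  have hHD := (splitBy hc hP.toIsPar hk hm M.toSymK).1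
  obtain ⟨hV1, hV2, hV3, hV4⟩ := hV
  have s : Sit L (zl (S : Subgroup G) L) V₀ := ⟨ab, sq, hV1.trans hVW, le_normalizer_zl _ _⟩
  have DV : cv (S : Subgroup G) P ≤ zl (S : Subgroup G) P := inf_le_left
  have habV : ∀ x ∈ zl (S : Subgroup G) P, ∀ y ∈ zl (S : Subgroup G) P, x * y = y * x :=
    fun x hx y hy => ab x (hVW hx) y (hVW hy)
  have hsup : V₀ ⊔ cv (S : Subgroup G) P = zl (S : Subgroup G) P := le_antisymm (sup_le hV1 DV) hV4
  have h : Ns (PN m) (Ev m) P V₀ k M.e :=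
    ns_of (IId.SymWrD.compl M.toSymK hSP habV hsup hV3 hV2 hHD) hV2 hSP
  have offV := s0.offM_of off hne hAC
  obtain ⟨hAD, hI⟩ := M.offM A hA offV
  have hdec : ∀ v ∈ zl (S : Subgroup G) P, ∃ x ∈ V₀, ∃ d ∈ cv (S : Subgroup G) P, v = x * d := by
    intro v hv
    refine mem_sup_of (fun x hx => ?_) (hV4 hv)
    exact centralizer_le_normalizer _ (mem_centralizer_iff.2 fun y hy => habV y (DV hy) x (hV1 hx))
  have hsplit : ∀ w ∈ zl (S : Subgroup G) L, ∃ v ∈ V₀, ∀ a ∈ A, VF.Q.k a (v⁻¹ * w) = 1 := by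
    intro w hw
    obtain ⟨v, hv, h1⟩ := s0.exists_split off hAC (noP A hAP offV.toElemM) hw
    obtain ⟨x, hx, d, hd, rfl⟩ := hdec v hv
    refine ⟨x, hx, fun a ha => k_eq_one.2 ?_⟩
    have e1 : x⁻¹ * w = d * ((x * d)⁻¹ * w) := by group
    have h3 := mem_centralizer_iff.1 h1 a ha
    have h4 := hAD a ha d hd
    rw [e1]
    calc a * (d * ((x * d)⁻¹ * w)) = (a * d) * ((x * d)⁻¹ * w) := by group
      _ = d * (a * ((x * d)⁻¹ * w)) := by rw [h4]; group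
      _ = d * ((x * d)⁻¹ * w) * a := by rw [h3]; group
  have hkA : ∀ a ∈ A, ∀ w ∈ zl (S : Subgroup G) L, VF.Q.k a w ∈ V₀ := by
    intro a ha w hw
    obtain ⟨v, hv, h1⟩ := hsplit w hw
    have e1 : w = v * (v⁻¹ * w) := by group
    rw [e1, s.k_mul_right (hPL (hAP ha)) (s.VW hv) (mul_mem (inv_mem (s.VW hv)) hw), h1 a ha, mul_one, k_def]
    exact mul_mem (h.cj (hAP ha) hv) (inv_mem hv)
  have hres : ∀ {g : G} {τ : Fin k → PN m}, ActsSym M.e (zl (S : Subgroup G) P) g 1 τ → Act M.e V₀ g τ :=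
    fun h1 => act_iff.2 fun v hv i x => h1 v (hV1 hv) i x
  -- a transposition in `A`
  obtain ⟨t, ht, i₀, x₀, y₀, hxy, htA⟩ : ∃ t ∈ A, ∃ (i₀ : Fin k) (x₀ y₀ : Fin (2 ^ m + 1)), x₀ ≠ y₀ ∧
      Act M.e V₀ t (upd i₀ (Equiv.swap x₀ y₀)) := by
    by_contra hcon
    apply hne
    intro x hx
    obtain ⟨τ, hτ, h1⟩ := hI x hx
    have hτ1 : τ = 1 := by
      funext i
      ext z
      by_cases hz : τ i z = z
      · rw [hz]; rfl
      · exfalso
        obtain ⟨-, b, hb, hbA⟩ := h1 i z hz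
        refine hcon ⟨b, hb, i, z, τ i z, Ne.symm hz, hres ?_⟩
        convert hbA using 2
    subst hτ1
    rw [mem_centralizer_iff]
    intro v hv
    obtain ⟨y, hy, d, hd, rfl⟩ := hdec v hv
    have h3 : VF.Q.k x y = 1 := by
      refine h.k_one_of hy (h.cj (hAP hx) hy) (funext fun i => ?_)
      rw [hres hτ y hy i, Pi.one_apply, one_smul]
    have h4 := k_eq_one.1 h3
    have h5 := hAD x hx d hd
    calc y * d * x = y * (x * d) := by rw [h5]; group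
      _ = x * (y * d) := by rw [← mul_assoc, ← h4]; group
  obtain ⟨z₀, hz1, hz2⟩ : ∃ z₀ : Fin (2 ^ m + 1), z₀ ≠ x₀ ∧ z₀ ≠ y₀ := by
    have h1 : 2 < Fintype.card (Fin (2 ^ m + 1)) := by
      rw [Fintype.card_fin]
      have : 2 ^ 1 ≤ 2 ^ m := Nat.pow_le_pow_right (by norm_num) hm
      omega
    have h2 : ({x₀, y₀} : Finset (Fin (2 ^ m + 1))).card < Fintype.card (Fin (2 ^ m + 1)) :=
      lt_of_le_of_lt (Finset.card_le_two) h1
    obtain ⟨z, hz⟩ := Finset.exists_mem_notMem_of_card_lt_card (t := Finset.univ) (s := {x₀, y₀})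
      (by rw [Finset.card_univ]; exact h2)
    refine ⟨z, fun h3 => hz.2 (by rw [h3]; simp), fun h3 => hz.2 (by rw [h3]; simp)⟩
  obtain ⟨p, hp, hpA⟩ := h.lift (upd i₀ (Equiv.swap x₀ z₀))
  have R := rootM h s hPL hxy hz1 hz2 (hAP ht) htA (hkA t ht) hp hpA
  refine sp_of h s hPL (fun w hw => ?_) (fun d hd h1 h2 w hw => ?_) hAP hkA (fun x hx => ?_) ?_ ?_
  · exact main h hm s hPL no hxy hz1 hz2 (hAP ht) htA (hkA t ht) (fun w hw => by
      obtain ⟨v, hv, h1⟩ := hsplit w hw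
      exact ⟨v, hv, h1 t ht⟩) hw
  · exact lemD h.nor s hPL no Finite.one_lt_card R (fun u hu h0 => ker_of h hm hxy hu h0) hd h1 h2 hw
  · obtain ⟨τ, hτ, -⟩ := hI x hx
    exact ⟨τ, hres hτ⟩
  · refine oddGen_le_ncl hP.toIsMinPar hA fun h1 => hne ?_
    rw [← hP.inf_centralizer S hc] at h1
    exact h1.trans inf_le_right
  · have h1 : V₀ ⊓ centralizer (oddGen P : Set G) ≤ V₀ ⊓ cv (S : Subgroup G) P :=
      le_inf inf_le_left (le_inf (inf_le_left.trans hV1) inf_le_right)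
    rw [hV3] at h1
    exact le_bot_iff.1 h1

end Cfsg.Agent.Omega.NOThreeL.RRed.Blk.SplitSym

end

-- merged: Cfsg.Agent.Mrg.Omega.NOThreeL.RRed.Blk.SplitTwo
section

/-!
# `V_P` splits over `cv S P` for natural `SL₂(2)`-modules

* `triv` : an element of `P` which centralises `D = cv S P` and `V_P / D` centralises `V_P`;
* `splitBy_two` : `|F| = 2`, `NatK F S P (zl S P) (cv S P) k` : `V_P = V₀ × D`, `V₀` normal in `P`.
-/

set_option autoImplicit false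
set_option linter.unusedSectionVars false

namespace Cfsg.Agent.Omega.NOThreeL.RRed.Blk.SplitTwo

open Subgroup Cfsg Cfsg.Agent.ZN Cfsg.Agent.Omega.MinPar Cfsg.Agent.Omega.FFThm
open Cfsg.Agent.Omega.FrameFF (cv)
open Cfsg.Agent.Omega.NOThreeL.VF.Q (Sit k_def cj_eq k_eq_one k_one k_mul_left k_cj)
open Cfsg.Agent.Omega.NOThreeL.RTreeA (SplitBy)
open Cfsg.Agent.Lib.SL2Mat
open Cfsg.Agent.Omega.NatPair (ap ap_inv_ap ext2 ap_zero' ap_one')
open Cfsg.Agent.MinSimple.VModule (oddGen oddGen_le le_normalizer_oddGen zc_le_zl)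

universe u

variable {G : Type u} [Group G]

theorem norm_cent {X P : Subgroup G} (h : P ≤ normalizer (X : Set G)) :
    P ≤ normalizer (centralizer (X : Set G) : Set G) := by
  have key : ∀ p ∈ P, ∀ x ∈ centralizer (X : Set G), p * x * p⁻¹ ∈ centralizer (X : Set G) := by
    intro p hp x hx
    rw [mem_centralizer_iff] at hx ⊢
    intro y hy
    have h1 : p⁻¹ * y * p ∈ X := by
      have := (mem_normalizer_iff.1 (h (inv_mem hp)) y).1 hy
      rwa [inv_inv] at this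
    have h2 := hx _ h1
    calc y * (p * x * p⁻¹) = p * (p⁻¹ * y * p * x) * p⁻¹ := by group
      _ = p * (x * (p⁻¹ * y * p)) * p⁻¹ := by rw [h2]
      _ = p * x * p⁻¹ * y := by group
  intro p hp
  rw [mem_normalizer_iff]
  intro x
  refine ⟨key p hp x, fun hx => ?_⟩
  have h1 := key p⁻¹ (inv_mem hp) _ hx
  have e : p⁻¹ * (p * x * p⁻¹) * p⁻¹⁻¹ = x := by group
  rwa [e] at h1

/-- `D = cv S P` is normalised by `P`. -/
theorem conj_cv {S P : Subgroup G} {g d : G} (hg : g ∈ P) (hd : d ∈ cv S P) : g * d * g⁻¹ ∈ cv S P := by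
  refine ⟨(mem_normalizer_iff.1 (le_normalizer_zl S P hg) _).1 hd.1, mem_centralizer_iff.2 fun o ho => ?_⟩
  have h1 : g⁻¹ * o * g ∈ oddGen P := by
    have := (mem_normalizer_iff.1 (le_normalizer_oddGen P (inv_mem hg)) o).1 ho
    rwa [inv_inv] at this
  have h2 := mem_centralizer_iff.1 hd.2 _ h1
  calc o * (g * d * g⁻¹) = g * ((g⁻¹ * o * g) * d) * g⁻¹ := by group
    _ = g * (d * (g⁻¹ * o * g)) * g⁻¹ := by rw [h2]
    _ = g * d * g⁻¹ * o := by group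

/-- the elements of `P` which centralise `D` and `V_P / D` -/
def Kr (S P : Subgroup G) : Subgroup G where
  carrier := {g | g ∈ P ∧ (∀ v ∈ zl S P, VF.Q.k g v ∈ cv S P) ∧ ∀ d ∈ cv S P, g * d = d * g}
  one_mem' := ⟨one_mem _, fun v _ => by rw [k_one]; exact one_mem _, fun d _ => by rw [one_mul, mul_one]⟩
  mul_mem' := by
    rintro x y ⟨hx, hx1, hx2⟩ ⟨hy, hy1, hy2⟩
    refine ⟨mul_mem hx hy, fun v hv => ?_, fun d hd => ?_⟩
    · rw [k_mul_left]
      exact mul_mem (conj_cv hx (hy1 v hv)) (hx1 v hv)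
    · rw [mul_assoc, hy2 d hd, ← mul_assoc, hx2 d hd, mul_assoc]
  inv_mem' := by
    rintro x ⟨hx, hx1, hx2⟩
    refine ⟨inv_mem hx, fun v hv => ?_, fun d hd => ?_⟩
    · have hv' : x⁻¹ * v * x ∈ zl S P := by
        have := (mem_normalizer_iff.1 (le_normalizer_zl S P (inv_mem hx)) v).1 hv
        rwa [inv_inv] at this
      have h1 := hx1 _ hv'
      have e1 : VF.Q.k x (x⁻¹ * v * x) = (VF.Q.k x⁻¹ v)⁻¹ := by
        simp only [k_def]; group
      rw [e1] at h1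
      exact (inv_mem_iff).1 h1
    · have h1 := hx2 d hd
      calc x⁻¹ * d = x⁻¹ * (d * x) * x⁻¹ := by group
        _ = x⁻¹ * (x * d) * x⁻¹ := by rw [h1]
        _ = d * x⁻¹ := by group

theorem conj_Kr {S P : Subgroup G} {g x : G} (hg : g ∈ P) (hx : x ∈ Kr S P) : g * x * g⁻¹ ∈ Kr S P := by
  obtain ⟨hxP, hx1, hx2⟩ := hx
  have cj' : ∀ v ∈ zl S P, g⁻¹ * v * g ∈ zl S P := fun v hv => by
    have := (mem_normalizer_iff.1 (le_normalizer_zl S P (inv_mem hg)) v).1 hv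
    rwa [inv_inv] at this
  refine ⟨mul_mem (mul_mem hg hxP) (inv_mem hg), fun v hv => ?_, fun d hd => ?_⟩
  · have e : v = g * (g⁻¹ * v * g) * g⁻¹ := by group
    rw [e, k_cj]
    exact conj_cv hg (hx1 _ (cj' v hv))
  · have h1 : g⁻¹ * d * g ∈ cv S P := by
      have := conj_cv (inv_mem hg) hd
      rwa [inv_inv] at this
    have h2 := hx2 _ h1
    calc g * x * g⁻¹ * d = g * (x * (g⁻¹ * d * g)) * g⁻¹ := by group
      _ = g * (g⁻¹ * d * g * x) * g⁻¹ := by rw [h2]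
      _ = d * (g * x * g⁻¹) := by group

/-- **Elements of `P` which centralise `D` and `V_P / D` centralise `V_P`.** -/
theorem triv [Finite G] (hc : IsCharacteristicTwoType G) {S : Sylow 2 G} {P : Subgroup G}
    (hP : IsPar (S : Subgroup G) P) : Kr (S : Subgroup G) P ≤ centralizer (zl (S : Subgroup G) P : Set G) := by
  have hE := FFThm.elem_zl hc S hP.isLoc
  have s : Sit P (zl (S : Subgroup G) P) (cv (S : Subgroup G) P) :=
    { ab := fun x hx y hy => congrArg Subtype.val (hE.1.is_comm.comm ⟨x, hx⟩ ⟨y, hy⟩)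
      sq := fun x hx => by rw [← pow_two]; exact hE.2 x hx
      VW := inf_le_left
      nW := le_normalizer_zl _ _ }
  have hKP : Kr (S : Subgroup G) P ≤ P := fun x hx => hx.1
  have hEl : ElemM (zl (S : Subgroup G) P) (Kr (S : Subgroup G) P) :=
    s.elemM hKP (fun x hx => hx.2.1) (fun x hx v hv => k_eq_one.2 (hx.2.2 v hv))
  obtain ⟨B, hB, hB2, hBc⟩ := VF.exists_two (hKP.trans (le_normalizer_zl _ _)) hEl
  obtain ⟨g, hg, hgB⟩ := VF.exists_conj_le S hP.le hB2 (hB.trans hKP)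
  rw [le_centralizer_iff]
  refine MinSimple.VModule.zl_le (fun z hz => ?_) ?_
  · rw [mem_centralizer_iff]
    intro a ha
    have hzV := zc_le_zl (S : Subgroup G) P hz
    obtain ⟨b, hb, hbc⟩ := hBc _ (conj_Kr (inv_mem hg) ha)
    have h1 : g * b * g⁻¹ * z = z * (g * b * g⁻¹) := (MinSimple.VModule.mem_zc.1 hz).2.1 _ (hgB b hb)
    have hzV' : g⁻¹ * z * g ∈ zl (S : Subgroup G) P := by
      have := (mem_normalizer_iff.1 (le_normalizer_zl (S : Subgroup G) P (inv_mem hg)) z).1 hzV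
      rwa [inv_inv] at this
    have h2 := mem_centralizer_iff.1 hbc _ hzV'
    set c := b⁻¹ * (g⁻¹ * a * g⁻¹⁻¹) with hcd
    have e1 : a = (g * b * g⁻¹) * (g * c * g⁻¹) := by rw [hcd]; group
    have h3 : g * c * g⁻¹ * z = z * (g * c * g⁻¹) := by
      calc g * c * g⁻¹ * z = g * (c * (g⁻¹ * z * g)) * g⁻¹ := by group
        _ = g * (g⁻¹ * z * g * c) * g⁻¹ := by rw [h2]
        _ = z * (g * c * g⁻¹) := by group
    rw [e1, mul_assoc, h3, ← mul_assoc, h1, mul_assoc]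
  · refine norm_cent ?_
    intro p hp
    rw [mem_normalizer_iff]
    intro x
    refine ⟨conj_Kr hp, fun hx => ?_⟩
    have h1 := conj_Kr (inv_mem hp) hx
    have e : p⁻¹ * (p * x * p⁻¹) * p⁻¹⁻¹ = x := by group
    rwa [e] at h1

/-! ### `SL₂(2)` -/

section two

variable {F : Type} [Field F] [CharP F 2]

theorem two_eq : (1 : F) + 1 = 0 := CharTwo.add_self_eq_zero 1

/-- an element of order `3` -/
def qm (F : Type) [Field F] [CharP F 2] : Matrix.SpecialLinearGroup (Fin 2) F :=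
  mk 0 1 1 1 (by
    have := two_eq (F := F)
    linear_combination -this)

theorem ap_qm_0 (x : Fin 2 → F) : ap (qm F) x 0 = x 1 := by
  rw [ap_zero', qm, mk_00, mk_01]; ring

theorem ap_qm_1 (x : Fin 2 → F) : ap (qm F) x 1 = x 0 + x 1 := by
  rw [ap_one', qm, mk_10, mk_11]; ring

theorem tr_qm (x : Fin 2 → F) : x + ap (qm F) x + ap (qm F) (ap (qm F) x) = 0 := by
  have h2 := two_eq (F := F)
  apply ext2
  · rw [Pi.add_apply, Pi.add_apply, ap_qm_0, ap_qm_0, ap_qm_1]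
    change _ = (0 : F)
    linear_combination (x 0 + x 1) * h2
  · rw [Pi.add_apply, Pi.add_apply, ap_qm_1, ap_qm_1, ap_qm_0, ap_qm_1]
    change _ = (0 : F)
    linear_combination (x 0 + 2 * x 1) * h2

/-- elements of order `3` commute with `qm` -/
theorem comm_qm (hF : ∀ x : F, x = 0 ∨ x = 1) {B : Matrix.SpecialLinearGroup (Fin 2) F}
    (hB : ∀ x, x + ap B x + ap B (ap B x) = 0) (x : Fin 2 → F) : ap B (ap (qm F) x) = ap (qm F) (ap B x) := by
  have h2 := two_eq (F := F)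
  have hd := det_eq B
  have e1 := congrFun (hB ![1, 0]) 0
  have e2 := congrFun (hB ![0, 1]) 1
  have e3 := congrFun (hB ![1, 0]) 1
  rw [Pi.add_apply, Pi.add_apply, ap_zero', ap_zero', ap_zero', ap_one'] at e1
  rw [Pi.add_apply, Pi.add_apply, ap_one', ap_one', ap_one', ap_zero'] at e2 e3
  simp only [Matrix.cons_val_zero, Matrix.cons_val_one, mul_one, mul_zero, add_zero, zero_add] at e1 e2 e3
  change _ = (0 : F) at e1 e2 e3
  have key : (ent B 0 0 + ent B 1 1 = 1) ∧ ent B 0 1 = 1 ∧ ent B 1 0 = 1 := by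
    generalize ent B 0 0 = a at *
    generalize ent B 0 1 = b at *
    generalize ent B 1 0 = c at *
    generalize ent B 1 1 = d at *
    have hb : b = 1 := by
      rcases hF b with rfl | rfl
      · exfalso
        rcases hF a with rfl | rfl
        · simp at e1
        · rcases hF d with rfl | rfl
          · simp at hd
          · apply one_ne_zero (α := F)
            linear_combination e1 - h2
      · rfl
    have hc : c = 1 := by
      rcases hF c with rfl | rfl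
      · exfalso
        rcases hF a with rfl | rfl
        · simp at e1
        · rcases hF d with rfl | rfl
          · simp at hd
          · apply one_ne_zero (α := F)
            linear_combination e1 - h2
      · rfl
    subst hb hc
    refine ⟨?_, rfl, rfl⟩
    linear_combination e3 - h2
  obtain ⟨k1, k2, k3⟩ := key
  have k4 : ent B 0 0 = 1 + ent B 1 1 := by linear_combination k1 - ent B 1 1 * h2
  apply ext2
  · rw [ap_zero' B, ap_qm_0, ap_qm_1, ap_qm_0, ap_one' B, k2, k3, k4]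
    linear_combination x 1 * h2
  · rw [ap_one' B, ap_qm_0, ap_qm_1, ap_qm_1, ap_zero' B, ap_one' B, k2, k3, k4]
    linear_combination (-x 0) * h2

end two

/-! ### The trace -/

/-- `v v^ρ v^(ρ²)` -/
def tr (ρ v : G) : G := v * (ρ * v * ρ⁻¹) * (ρ * (ρ * v * ρ⁻¹) * ρ⁻¹)

theorem tr_mul {V : Subgroup G} (ab : ∀ x ∈ V, ∀ y ∈ V, x * y = y * x) {ρ : G}
    (hρ : ∀ v ∈ V, ρ * v * ρ⁻¹ ∈ V) {v w : G} (hv : v ∈ V) (hw : w ∈ V) : tr ρ (v * w) = tr ρ v * tr ρ w := by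
  have e1 : ρ * (v * w) * ρ⁻¹ = (ρ * v * ρ⁻¹) * (ρ * w * ρ⁻¹) := by group
  have e2 : ρ * ((ρ * v * ρ⁻¹) * (ρ * w * ρ⁻¹)) * ρ⁻¹ =
      (ρ * (ρ * v * ρ⁻¹) * ρ⁻¹) * (ρ * (ρ * w * ρ⁻¹) * ρ⁻¹) := by group
  unfold tr
  rw [e1, e2]
  have m1 := hρ v hv
  have m2 := hρ w hw
  have m3 := hρ _ m1
  have m4 := hρ _ m2
  generalize ρ * v * ρ⁻¹ = v1 at *
  generalize ρ * w * ρ⁻¹ = w1 at *
  generalize ρ * v1 * ρ⁻¹ = v2 at *
  generalize ρ * w1 * ρ⁻¹ = w2 at *
  have h1 := ab w hw v1 m1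
  have h2 := ab w hw v2 m3
  have h3 := ab w1 m2 v2 m3
  calc v * w * (v1 * w1) * (v2 * w2) = v * (w * v1) * (w1 * v2) * w2 := by group
    _ = v * (v1 * w) * (v2 * w1) * w2 := by rw [h1, h3]
    _ = v * v1 * (w * v2) * w1 * w2 := by group
    _ = v * v1 * (v2 * w) * w1 * w2 := by rw [h2]
    _ = v * v1 * v2 * (w * w1 * w2) := by group

/-- **`V_P` splits, natural `SL₂(2)`-modules.** -/
theorem splitBy_two [Finite G] (hc : IsCharacteristicTwoType G) {S : Sylow 2 G} {P : Subgroup G}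
    (hP : IsPar (S : Subgroup G) P) {F : Type} [Field F] [CharP F 2] (hF : ∀ x : F, x = 0 ∨ x = 1) {k : ℕ}
    (M : NatK F (S : Subgroup G) P (zl (S : Subgroup G) P) (cv (S : Subgroup G) P) k) :
    ∃ V₀, SplitBy (S : Subgroup G) P (cv (S : Subgroup G) P) V₀ := by
  have hE := FFThm.elem_zl hc S hP.isLoc
  have ab : ∀ x ∈ zl (S : Subgroup G) P, ∀ y ∈ zl (S : Subgroup G) P, x * y = y * x :=
    fun x hx y hy => congrArg Subtype.val (hE.1.is_comm.comm ⟨x, hx⟩ ⟨y, hy⟩)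
  have sq : ∀ x ∈ zl (S : Subgroup G) P, x * x = 1 := fun x hx => by rw [← pow_two]; exact hE.2 x hx
  have DV : cv (S : Subgroup G) P ≤ zl (S : Subgroup G) P := inf_le_left
  have cj : ∀ g ∈ P, ∀ v ∈ zl (S : Subgroup G) P, g * v * g⁻¹ ∈ zl (S : Subgroup G) P := fun g hg v hv =>
    (mem_normalizer_iff.1 (le_normalizer_zl (S : Subgroup G) P hg) v).1 hv
  have e1 : M.e 1 = 0 := by
    have := M.mul 1 (one_mem _) 1 (one_mem _)
    rw [mul_one] at this
    exact left_eq_add.1 this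
  have einv : ∀ v ∈ zl (S : Subgroup G) P, M.e v⁻¹ = - M.e v := fun v hv => by
    have := M.mul v⁻¹ (inv_mem hv) v hv
    rw [inv_mul_cancel, e1] at this
    exact eq_neg_of_add_eq_zero_left this.symm
  obtain ⟨ρ, hρP, hρ, hρD⟩ := M.lift fun _ => qm F
  have hρV : ∀ v ∈ zl (S : Subgroup G) P, ρ * v * ρ⁻¹ ∈ zl (S : Subgroup G) P := cj ρ hρP
  have trV : ∀ r ∈ P, ∀ v ∈ zl (S : Subgroup G) P, tr r v ∈ zl (S : Subgroup G) P := fun r hr v hv =>
    mul_mem (mul_mem hv (cj r hr v hv)) (cj r hr _ (cj r hr v hv))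
  -- `tr ρ v ∈ D`
  have htrD : ∀ v ∈ zl (S : Subgroup G) P, tr ρ v ∈ cv (S : Subgroup G) P := by
    intro v hv
    rw [← M.ker _ (trV ρ hρP v hv)]
    funext i
    unfold tr
    rw [M.mul _ (mul_mem hv (hρV v hv)) _ (hρV _ (hρV v hv)), M.mul _ hv _ (hρV v hv), Pi.add_apply, Pi.add_apply,
      hρ _ (hρV v hv) i, hρ v hv i]
    exact tr_qm _
  have htrd : ∀ d ∈ cv (S : Subgroup G) P, tr ρ d = d := by
    intro d hd
    have h1 : ρ * d * ρ⁻¹ = d := by rw [hρD d hd, mul_inv_cancel_right]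
    unfold tr
    rw [h1, h1, sq d (DV hd), one_mul]
  let V₀ : Subgroup G :=
    { carrier := {v | v ∈ zl (S : Subgroup G) P ∧ tr ρ v = 1}
      one_mem' := ⟨one_mem _, by unfold tr; group⟩
      mul_mem' := by
        rintro a b ⟨ha, ha'⟩ ⟨hb, hb'⟩
        exact ⟨mul_mem ha hb, by rw [tr_mul ab hρV ha hb, ha', hb', one_mul]⟩
      inv_mem' := by
        rintro a ⟨ha, ha'⟩
        refine ⟨inv_mem ha, ?_⟩
        have h1 := tr_mul ab hρV ha (inv_mem ha)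
        rw [mul_inv_cancel, ha', one_mul] at h1
        rw [← h1]; unfold tr; group }
  have hV0 : ∀ v, v ∈ V₀ ↔ v ∈ zl (S : Subgroup G) P ∧ tr ρ v = 1 := fun v => Iff.rfl
  have key : ∀ p ∈ P, ∀ v ∈ V₀, p * v * p⁻¹ ∈ V₀ := by
    intro p hp v hv
    obtain ⟨hvV, hv1⟩ := (hV0 v).1 hv
    rw [hV0]
    refine ⟨cj p hp v hvV, ?_⟩
    -- `r = p⁻¹ ρ p`
    set r := p⁻¹ * ρ * p with hr
    have hrP : r ∈ P := mul_mem (mul_mem (inv_mem hp) hρP) hp
    have etr : tr ρ (p * v * p⁻¹) = p * tr r v * p⁻¹ := by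
      unfold tr
      rw [hr]; group
    obtain ⟨B, hB⟩ := M.norm p⁻¹ (inv_mem hp) ρ hρP (fun _ => qm F) hρ
    rw [inv_inv] at hB
    have hB' : ∀ v ∈ zl (S : Subgroup G) P, ∀ i, M.e (r * v * r⁻¹) i = ap (B i) (M.e v i) := hB
    have hrV : ∀ v ∈ zl (S : Subgroup G) P, r * v * r⁻¹ ∈ zl (S : Subgroup G) P := cj r hrP
    have hrD : ∀ d ∈ cv (S : Subgroup G) P, r * d = d * r := by
      intro d hd
      have h1 := hρD _ (conj_cv hp hd)
      calc r * d = p⁻¹ * (ρ * (p * d * p⁻¹)) * p := by rw [hr]; group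
        _ = p⁻¹ * (p * d * p⁻¹ * ρ) * p := by rw [h1]
        _ = d * r := by rw [hr]; group
    have htrr : ∀ u ∈ zl (S : Subgroup G) P, tr r u ∈ cv (S : Subgroup G) P := by
      intro u hu
      have h1 : tr r u = p⁻¹ * tr ρ (p * u * p⁻¹) * p := by
        unfold tr; rw [hr]; group
      rw [h1]
      have := conj_cv (inv_mem hp) (htrD _ (cj p hp u hu))
      rwa [inv_inv] at this
    -- the relation on the coordinates
    have hrel : ∀ i x, x + ap (B i) x + ap (B i) (ap (B i) x) = 0 := by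
      intro i x
      obtain ⟨u, hu, hue⟩ := M.surj (Pi.single i x)
      have h1 := (M.ker _ (DV (htrr u hu))).2 (htrr u hu)
      have h2 := congrFun h1 i
      unfold tr at h2
      rw [M.mul _ (mul_mem hu (hrV u hu)) _ (hrV _ (hrV u hu)), M.mul _ hu _ (hrV u hu), Pi.add_apply, Pi.add_apply,
        hB' _ (hrV u hu) i, hB' u hu i, hue, Pi.single_eq_same] at h2
      exact h2
    -- `r` and `ρ` commute on `V`
    have hcom : ∀ u ∈ zl (S : Subgroup G) P, r * (ρ * u * ρ⁻¹) * r⁻¹ = ρ * (r * u * r⁻¹) * ρ⁻¹ := by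
      intro u hu
      have hK : (ρ * r)⁻¹ * (r * ρ) ∈ Kr (S : Subgroup G) P := by
        refine ⟨mul_mem (inv_mem (mul_mem hρP hrP)) (mul_mem hrP hρP), fun v hv => ?_, fun d hd => ?_⟩
        · rw [k_def, ← M.ker _ (mul_mem (cj _ (mul_mem (inv_mem (mul_mem hρP hrP)) (mul_mem hrP hρP)) v hv)
            (inv_mem hv))]
          set g := (ρ * r)⁻¹ * (r * ρ) with hg
          have hgP : g ∈ P := mul_mem (inv_mem (mul_mem hρP hrP)) (mul_mem hrP hρP)
          have h3 : M.e (g * v * g⁻¹) = M.e v := by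
            funext i
            have h4 : M.e (ρ * (r * (g * v * g⁻¹) * r⁻¹) * ρ⁻¹) i = M.e (r * (ρ * v * ρ⁻¹) * r⁻¹) i := by
              congr 1
              rw [hg]; group
            rw [hρ _ (hrV _ (cj g hgP v hv)) i, hB' _ (cj g hgP v hv) i, hB' _ (hρV v hv) i, hρ v hv i,
              comm_qm hF (hrel i)] at h4
            beta_reduce at h4
            have h5 := congrArg (ap (qm F)⁻¹) h4
            rw [ap_inv_ap, ap_inv_ap] at h5
            have h6 := congrArg (ap (B i)⁻¹) h5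
            rwa [ap_inv_ap, ap_inv_ap] at h6
          rw [M.mul _ (cj g hgP v hv) _ (inv_mem hv), h3, einv v hv, add_neg_cancel]
        · have h1 := hρD d hd
          have h2 := hrD d hd
          have h3 : r * ρ * d = d * (r * ρ) := by rw [mul_assoc, h1, ← mul_assoc, h2, mul_assoc]
          have h4 : ρ * r * d = d * (ρ * r) := by rw [mul_assoc, h2, ← mul_assoc, h1, mul_assoc]
          calc (ρ * r)⁻¹ * (r * ρ) * d = (ρ * r)⁻¹ * (r * ρ * d) := by group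
            _ = (ρ * r)⁻¹ * (d * (ρ * r)) * (ρ * r)⁻¹ * (r * ρ) := by rw [h3]; group
            _ = (ρ * r)⁻¹ * (ρ * r * d) * (ρ * r)⁻¹ * (r * ρ) := by rw [h4]
            _ = d * ((ρ * r)⁻¹ * (r * ρ)) := by group
      have h1 := mem_centralizer_iff.1 (triv hc hP hK) u hu
      calc r * (ρ * u * ρ⁻¹) * r⁻¹ = ρ * r * ((ρ * r)⁻¹ * (r * ρ) * u) * (r * ρ)⁻¹ := by group
        _ = ρ * r * (u * ((ρ * r)⁻¹ * (r * ρ))) * (r * ρ)⁻¹ := by rw [h1]
        _ = ρ * (r * u * r⁻¹) * ρ⁻¹ := by group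
    -- `v = [ρ, u]`
    set u := ρ * v * ρ⁻¹ with hu
    have huV : u ∈ zl (S : Subgroup G) P := hρV v hvV
    have hve : v = (ρ * u * ρ⁻¹) * u⁻¹ := by
      have h1 : v * u * (ρ * u * ρ⁻¹) = 1 := hv1
      have h2 : ρ * u * ρ⁻¹ = (v * u)⁻¹ := eq_inv_of_mul_eq_one_right h1
      have h3 : (v * u)⁻¹ = v * u := inv_eq_of_mul_eq_one_right (sq _ (mul_mem hvV huV))
      rw [h2, h3, mul_inv_cancel_right]
    have h1 : tr r (ρ * u * ρ⁻¹) = ρ * tr r u * ρ⁻¹ := by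
      have h2 := hcom u huV
      have h3 := hcom _ (hrV u huV)
      unfold tr
      rw [h2, h3]; group
    have h2 : tr r (ρ * u * ρ⁻¹) = tr r u := by
      rw [h1, hρD _ (htrr u huV), mul_inv_cancel_right]
    have h3 : tr r v = 1 := by
      have h4 := tr_mul ab hrV hvV huV
      have h5 : v * u = ρ * u * ρ⁻¹ := by
        rw [hve]; group
      rw [h5, h2] at h4
      exact (right_eq_mul.1 h4)
    rw [etr, h3]; group
  refine ⟨V₀, fun v hv => hv.1, ?_, ?_, ?_⟩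
  · intro p hp
    rw [mem_normalizer_iff]
    intro x
    refine ⟨key p hp x, fun hx => ?_⟩
    have h1 := key p⁻¹ (inv_mem hp) _ hx
    have e : p⁻¹ * (p * x * p⁻¹) * p⁻¹⁻¹ = x := by group
    rwa [e] at h1
  · rw [eq_bot_iff]
    rintro x ⟨hx1, hx2⟩
    rw [mem_bot, ← htrd x hx2]
    exact hx1.2
  · intro v hv
    have h1 := htrD v hv
    have h2 : v * (tr ρ v)⁻¹ ∈ V₀ := by
      refine ⟨mul_mem hv (inv_mem (DV h1)), ?_⟩
      rw [tr_mul ab hρV hv (inv_mem (DV h1)), htrd _ (inv_mem h1), mul_inv_cancel]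
    have e : v = v * (tr ρ v)⁻¹ * tr ρ v := by group
    rw [e]
    exact mul_mem_sup h2 h1

end Cfsg.Agent.Omega.NOThreeL.RRed.Blk.SplitTwo

end

-- merged: Cfsg.Agent.Mrg.Omega.NOThreeL.RRed.Blk.SplitAll
section

/-!
# NO-3L, box R, BLOCK THEOREM: `zl S L = N × C_U(O²(P))` for every member of `P*(S)` with an exact offender

* `sp_of_concl` : from the conclusion of the FF theorem for `P` (natural `SL₂(F)`-modules with `|F| ≥ 4` are assumed to
  split over `cv S P`);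
* `exists_sp` : with `VF.one`.
-/

set_option autoImplicit false

namespace Cfsg.Agent.Omega.NOThreeL.RRed.Blk.SplitAll

open Subgroup Cfsg Cfsg.Agent.ZN Cfsg.Agent.Omega.MinPar Cfsg.Agent.Omega.FFThm
open Cfsg.Agent.Omega.FrameFF (cv)
open Cfsg.Agent.Omega.NOThreeL.RTreeA (SplitBy Splits)
open Cfsg.Agent.Omega.NOThreeL.RRed.Blk.Split (Sp)

universe u

variable {G : Type u} [Group G] [Finite G]

/-- Natural modules over fields with at least four elements split. -/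
def BigSplits (S P : Subgroup G) : Prop :=
  ∀ (F : Type) [Field F] [Finite F] [CharP F 2] (k : ℕ), 0 < k → 4 ≤ Nat.card F →
    Nonempty (NatKM F S P (zl S P) (cv S P) k) → Splits S P (cv S P)

theorem card_field (F : Type) [Field F] [Finite F] [CharP F 2] : (∀ x : F, x = 0 ∨ x = 1) ∨ 4 ≤ Nat.card F := by
  rcases Cfsg.Agent.Omega.FrameFF.two_le_card (F := F) with h | h
  · left
    intro x
    by_contra hcon
    push Not at hcon
    have h1 : ({0, 1, x} : Set F).ncard = 3 := by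
      rw [Set.ncard_insert_of_notMem, Set.ncard_pair]
      · exact fun h2 => hcon.2 h2.symm
      · simp only [Set.mem_insert_iff, Set.mem_singleton_iff, not_or]
        exact ⟨zero_ne_one, fun h2 => hcon.1 h2.symm⟩
    have h2 := Set.ncard_le_ncard (Set.subset_univ ({0, 1, x} : Set F)) (Set.toFinite _)
    rw [h1, Set.ncard_univ, h] at h2
    omega
  · exact Or.inr h

/-- **`U = N × C_U(O²(P))`.** -/
theorem sp_of_concl (hc : IsCharacteristicTwoType G) {S : Sylow 2 G} {L P A : Subgroup G}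
    (hL : IsLoc (S : Subgroup G) L) (hP : IsParS (S : Subgroup G) P) (hPL : P ≤ L)
    (no : NoOverM (zl (S : Subgroup G) L) L) (noP : NoOverM (zl (S : Subgroup G) P) P)
    (hA : A ≤ (S : Subgroup G)) (off : OffM (zl (S : Subgroup G) L) A)
    (hne : ¬ A ≤ centralizer (zl (S : Subgroup G) P : Set G))
    (hAC : A ⊓ centralizer (zl (S : Subgroup G) P : Set G) ≤ centralizer (zl (S : Subgroup G) L : Set G))
    (hcon : ConclM (S : Subgroup G) P) (hbig : BigSplits (S : Subgroup G) P) :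
    ∃ V₀, SplitBy (S : Subgroup G) P (cv (S : Subgroup G) P) V₀ ∧ Sp L P (zl (S : Subgroup G) L) V₀ A := by
  rcases hcon with ⟨F, _, _, _, k, hk, ⟨M⟩⟩ | ⟨k, m, hk, hm, ⟨M⟩⟩
  · rcases card_field F with h2 | h4
    · obtain ⟨V₀, hV⟩ := SplitTwo.splitBy_two hc hP.toIsPar h2 M.toNatK
      exact ⟨V₀, hV, Split.nat hc hL hP hPL no noP hA off hne hAC M hV⟩
    · obtain ⟨V₀, hV⟩ := hbig F k hk h4 ⟨M⟩
      exact ⟨V₀, hV, Split.nat hc hL hP hPL no noP hA off hne hAC M hV⟩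
  · obtain ⟨-, V₀, hV⟩ := SplitSym.splitBy hc hP.toIsPar hk (by omega) M.toSymK
    exact ⟨V₀, hV, SplitSym.sp hc hL hP hPL no noP hA off hne hAC hk (by omega) M hV⟩

/-- **With `VF.one`.** -/
theorem exists_sp (hFF : StmtM.{u}) (hc : IsCharacteristicTwoType G) {S : Sylow 2 G} {L : Subgroup G}
    (hL : IsLoc (S : Subgroup G) L) (hgen : L ≤ sSup {P | IsParS (S : Subgroup G) P ∧ P ≤ L})
    (hoff : ∃ A ≤ L, OffM (zl (S : Subgroup G) L) A)
    (hbig : ∀ P, IsParS (S : Subgroup G) P → P ≤ L → BigSplits (S : Subgroup G) P) :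
    NoOverM (zl (S : Subgroup G) L) L ∧ ∃ P, IsParS (S : Subgroup G) P ∧ P ≤ L ∧ ∃ A ≤ (S : Subgroup G),
      OffM (zl (S : Subgroup G) L) A ∧ OffM (zl (S : Subgroup G) P) A ∧ ConclM (S : Subgroup G) P ∧
      ∃ V₀, SplitBy (S : Subgroup G) P (cv (S : Subgroup G) P) V₀ ∧ Sp L P (zl (S : Subgroup G) L) V₀ A := by
  obtain ⟨no, P, hP, hPL, A, hA, offL, offP, hAC, hcon⟩ := VF.one hFF hc S hL hgen hoff
  have noP := (hFF G S P (⟨hP.le, S.isPGroup', fun Q _ hQ hle => S.is_maximal' hQ hle⟩) hP.toIsMinPar (hP.isLoc.char2 S hc)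
    ⟨A, hA.trans hP.le, offP⟩).1
  exact ⟨no, P, hP, hPL, A, hA, offL, offP, hcon,
    sp_of_concl hc hL hP hPL no noP hA offL offP.ne hAC hcon (hbig P hP hPL)⟩

end Cfsg.Agent.Omega.NOThreeL.RRed.Blk.SplitAll

end
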