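import Cfsg.Agent.Mrg.Omega.NOThreeL.RRed.Blk.AsmPair
import Cfsg.Agent.Mrg.Omega.NOThreeL.RRed.Blk.TypesAway
import Cfsg.Agent.Mrg.Omega.NOThreeL.RRed.Blk.AsmInp
import Cfsg.Agent.Mrg.Omega.NOThreeL.RRed.Blk.AsmMv
import Cfsg.Agent.Mrg.Omega.NOThreeL.RRed.AtomTv
import Cfsg.Agent.Mrg.Omega.NOThreeL.RRed.TvTr
import Cfsg.Agent.Mrg.Omega.NOThreeL.RRed.Blk.AsmTwoC
import Cfsg.Agent.Mrg.Omega.NOThreeL.RRed.Blk.AsmRR
import Cfsg.Agent.Mrg.Omega.NOThreeL.RRed.Blk.AsmTD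
import Cfsg.Agent.Mrg.Omega.NOThreeL.RRed.TvNorm
import Cfsg.Agent.Mrg.Omega.NOThreeL.RRed.WLeftFldEnd
import Cfsg.Agent.Mrg.Omega.NOThreeL.RZ.LowR
import Cfsg.Agent.Mrg.Omega.NOThreeL.RRed.Blk.AsmTor
import Cfsg.Agent.Mrg.Omega.NOThreeL.RRed.Blk.AsmG
import Cfsg.Agent.Mrg.Omega.NOThreeL.RRed.Blk.AsmCore
import Cfsg.Agent.Mrg.Omega.NOThreeL.RRed.Blk.AsmCard
import Cfsg.Agent.Mrg.Omega.NOThreeL.RRed.Blk.AsmEsB
import Cfsg.Agent.Mrg.Omega.NOThreeL.RRed.Blk.AsmSL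
import Cfsg.Agent.Mrg.Omega.NOThreeL.RRed.NS.Two
import Cfsg.Agent.Mrg.Omega.NOThreeL.RRed.TvOrbs
import Cfsg.Agent.Mrg.Omega.NOThreeL.RRed.Blk.AsmNBs
import Cfsg.Agent.Mrg.Omega.NOThreeL.RRed.Blk.AsmOf
import Cfsg.Agent.Mrg.Omega.NOThreeL.RRed.WideTree
import Cfsg.Agent.PLocal.OffenderStep

-- merged: Cfsg.Agent.Mrg.Omega.NOThreeL.RRed.Blk.AsmMix
section

/-!
# NO-3L, box R: natural blocks and `𝔽₂`-blocks in different classes (helper283)

`X` acts on `V = ⨁ W i`, `W i` irreducible (`Cls X W`); `Cl W D i` : `D` is trivial on `W j`, `j ≠ i`.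

* `NB.inv_le` : an invariant `W` on which the root group `D` is trivial lies in the complement `C`;
* `Cls.brk_le`, `Cls.cent`, `Cls.uniq`; `Cls.fam` : the members of a family of class `i` are a family;
  `Cls.fam_sup` : their product is `W i`;
* `Cls.disj` : if the natural blocks with `|D| ≥ 4` are `GB`, no member of `EE` of order at most 3 has the same class;
* **`Cls.mix`** : the union of the two families.
-/

set_option autoImplicit false
set_option linter.unusedSectionVars false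

namespace Cfsg.Agent.Omega.NOThreeL.RRed.Blk.Asm

open Cfsg.Agent.Omega.NOThreeL.RRed.NS (fxd brk mem_fxd)
open Cfsg.Agent.Omega.NOThreeL.RRed.Blk.TypesGam Cfsg.Agent.Omega.NOThreeL.RRed.Blk.Types
open scoped Pointwise

universe u v w

variable {X : Type u} {V : Type v} [Group X] [AddCommGroup V] [DistribMulAction X V]

/-- an invariant subgroup on which `D` is trivial lies in the complement -/
theorem NB.inv_le (h2 : ∀ v : V, v + v = 0) {D : Subgroup X} {N C : AddSubgroup V} (h : NB D N C) {W : AddSubgroup V}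
    (hW : ∀ (g : X), ∀ m ∈ W, g • m ∈ W) (hD : ∀ d ∈ D, ∀ m ∈ W, d • m = m) : W ≤ C := by
  obtain ⟨F, _, _, e, f, up, lo, hB, rfl, rfl⟩ := h.ex
  have key : ∀ x y : F, ∀ c ∈ C, e x + f y + c ∈ W → y = 0 := by
    intro x y c hc hm
    have h1 := hD (up 1) (up_mem (up := up) 1) _ hm
    rw [smul_add, smul_add, hB.up_e, hB.up_f, hB.up_c 1 c hc, one_mul] at h1
    have h3 : e y = 0 := by
      have h4 : e x + (f y + e y) + c = (e x + f y + c) + e y := by abel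
      rw [h4] at h1
      exact add_eq_left.1 h1
    have h5 : e y + f 0 ∈ C := by rw [h3, map_zero, add_zero]; exact C.zero_mem
    exact (hB.ind y 0 h5).1
  intro m hm
  obtain ⟨x, y, c, hc, rfl⟩ := hB.dec m
  have hy := key x y c hc hm
  subst hy
  have h1 := hW (wt up lo 1) _ hm
  rw [map_zero, add_zero, smul_add, hB.wt_e h2 one_ne_zero, hB.wt_c 1 hc, inv_one, one_mul] at h1
  have h3 := key 0 x c hc (by rw [map_zero, zero_add]; exact h1)
  subst h3
  rw [map_zero, map_zero, zero_add, zero_add]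
  exact hc

/-- the root group moves the block -/
theorem NB.move {D : Subgroup X} {N C : AddSubgroup V} (h : NB D N C) (hD : ∀ d ∈ D, ∀ m ∈ N, d • m = m) : False := by
  obtain ⟨F, _, _, e, f, up, lo, hB, rfl, rfl⟩ := h.ex
  have h1 := hD (up 1) (up_mem (up := up) 1) (f 1) (AddSubgroup.mem_sup_right ⟨1, rfl⟩)
  rw [hB.up_f, one_mul] at h1
  have h3 : e 1 + f 0 ∈ C := by rw [map_zero, add_zero, add_eq_left.1 h1]; exact C.zero_mem
  exact one_ne_zero (hB.ind 1 0 h3).1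

variable {κ : Type w} {W : κ → AddSubgroup V}

/-- `D` is trivial on `W j`, `j ≠ i` -/
def Cl (W : κ → AddSubgroup V) (D : Subgroup X) (i : κ) : Prop := ∀ j, j ≠ i → ∀ d ∈ D, ∀ m ∈ W j, d • m = m

/-- `V = ⨁ W i`, `W i` irreducible. -/
structure Cls (X : Type u) {V : Type v} [Group X] [AddCommGroup V] [DistribMulAction X V] (W : κ → AddSubgroup V) :
    Prop where
  inv : ∀ i (g : X), ∀ m ∈ W i, g • m ∈ W i
  irr : ∀ i, ∀ U : AddSubgroup V, U ≤ W i → (∀ (g : X), ∀ m ∈ U, g • m ∈ U) → U ≠ ⊥ → W i ≤ U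
  sup : ⨆ i, W i = ⊤
  dis : ∀ i j, i ≠ j → W i ⊓ W j = ⊥

namespace Cls

variable (C : Cls X W)
include C

/-- a property of `V` which holds on the classes -/
theorem ind {p : V → Prop} (h : ∀ i, ∀ m ∈ W i, p m) (h0 : p 0) (ha : ∀ a b, p a → p b → p (a + b)) (v : V) : p v := by
  have h1 : v ∈ ⨆ i, W i := by rw [C.sup]; exact AddSubgroup.mem_top v
  exact AddSubgroup.iSup_induction W (C := p) h1 h h0 ha

theorem brk_le {D : Subgroup X} {i : κ} (h : Cl W D i) : brk V D ≤ W i := by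
  refine Types.brk_le fun d hd v => ?_
  refine C.ind (p := fun v => d • v - v ∈ W i) (fun j m hm => ?_) ?_ (fun a b ha hb => ?_) v
  · by_cases hj : j = i
    · subst hj
      exact sub_mem (C.inv j d m hm) hm
    · rw [h j hj d hd m hm, sub_self]
      exact zero_mem _
  · rw [smul_zero, sub_self]
    exact zero_mem _
  · have e1 : d • (a + b) - (a + b) = (d • a - a) + (d • b - b) := by rw [smul_add]; abel
    rw [e1]
    exact add_mem ha hb

/-- `D` of class `i`, trivial on `W i`: `D = 1` -/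
theorem cent (hf : ∀ x : X, (∀ v : V, x • v = v) → x = 1) {D : Subgroup X} {i : κ} (h : Cl W D i)
    (h1 : ∀ d ∈ D, ∀ m ∈ W i, d • m = m) : D = ⊥ := by
  rw [eq_bot_iff]
  intro d hd
  rw [Subgroup.mem_bot]
  refine hf d fun v => ?_
  refine C.ind (p := fun v => d • v = v) (fun j m hm => ?_) (smul_zero d) (fun a b ha hb => ?_) v
  · by_cases hj : j = i
    · subst hj; exact h1 d hd m hm
    · exact h j hj d hd m hm
  · rw [smul_add, ha, hb]

theorem uniq (hf : ∀ x : X, (∀ v : V, x • v = v) → x = 1) {D : Subgroup X} {i j : κ} (h : Cl W D i) (h' : Cl W D j)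
    (hD : D ≠ ⊥) : i = j := by
  by_contra hij
  exact hD (C.cent hf h fun d hd m hm => h' i hij d hd m hm)

theorem le (h2 : ∀ v : V, v + v = 0) {D : Subgroup X} {N K : AddSubgroup V} (h : NB D N K) {i : κ} (hc : Cl W D i) :
    N ≤ W i :=
  h.le_of_inv h2 (C.inv i) (C.brk_le hc)

variable {S : Subgroup X} {FF : Set (Subgroup X)} {N K : Subgroup X → AddSubgroup V}

/-- the members of class `i` -/
theorem fam (h2 : ∀ v : V, v + v = 0) (h : Fam S FF N K) (hc : ∀ D ∈ FF, ∃ i, Cl W D i) (i : κ) :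
    Fam S {D | D ∈ FF ∧ Cl W D i} N K where
  le := fun D hD => h.le D hD.1
  nb := fun D hD => h.nb D hD.1
  ind := fun D hD D' hD' hne => h.ind D hD.1 D' hD'.1 hne
  perm := by
    rintro g D ⟨hD, hi⟩
    obtain ⟨D', hD', h1, h3⟩ := h.perm g D hD
    refine ⟨D', ⟨hD', ?_⟩, h1, h3⟩
    obtain ⟨j, hj⟩ := hc D' hD'
    have hij : i = j := by
      by_contra hne
      have h4 : N D' ≤ W i := by
        intro m hm
        have h5 : g⁻¹ • m ∈ N D := (h3 _).2 (by rwa [smul_inv_smul])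
        have h6 := C.inv i g _ (C.le h2 (h.nb D hD) hi h5)
        rwa [smul_inv_smul] at h6
      have h5 : N D' ≤ W i ⊓ W j := le_inf h4 (C.le h2 (h.nb D' hD') hj)
      rw [C.dis i j hne] at h5
      exact (h.nb D' hD').ne_bot (le_bot_iff.1 h5)
    rw [hij]; exact hj
  sinv := by
    rintro s hs D ⟨hD, hi⟩
    refine ⟨h.sinv s hs D hD, fun j hj d hd m hm => ?_⟩
    have h1 := hi j hj _ (mem_cj.1 hd) _ (C.inv j s⁻¹ m hm)
    rw [mul_smul, mul_smul, smul_inv_smul] at h1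
    exact MulAction.injective s⁻¹ h1

/-- the product of the members of class `i` -/
theorem fam_sup (h2 : ∀ v : V, v + v = 0) (h : Fam S FF N K) (hc : ∀ D ∈ FF, ∃ i, Cl W D i) {i : κ}
    (hne : ∃ D ∈ FF, Cl W D i) : ⨆ D ∈ {D | D ∈ FF ∧ Cl W D i}, N D = W i := by
  obtain ⟨D, hD, hi⟩ := hne
  exact (C.fam h2 h hc i).sup_eq h2 ⟨D, hD, hi⟩ (C.inv i) (C.irr i) fun D hD => C.brk_le hD.2

/-- the product of all members -/
theorem fam_top (h2 : ∀ v : V, v + v = 0) (h : Fam S FF N K) (hc : ∀ D ∈ FF, ∃ i, Cl W D i)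
    (hne : ∀ i, ∃ D ∈ FF, Cl W D i) : ⨆ D ∈ FF, N D = ⊤ := by
  rw [eq_top_iff, ← C.sup]
  refine iSup_le fun i => ?_
  rw [← C.fam_sup h2 h hc (hne i)]
  exact iSup₂_le fun D hD => le_iSup₂ (f := fun D (_ : D ∈ FF) => N D) D hD.1

variable {EE FF₁ FF₂ : Set (Subgroup X)} {N₁ K₁ N₂ K₂ : Subgroup X → AddSubgroup V}

/-- big and small members have different classes -/
theorem disj (h2 : ∀ v : V, v + v = 0) (hf : ∀ x : X, (∀ v : V, x • v = v) → x = 1) (h₁ : Fam S FF₁ N₁ K₁)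
    (hGB : ∀ D ∈ FF₁, GB EE D (N₁ D) (K₁ D)) (h4 : ∀ D ∈ FF₁, 4 ≤ Nat.card D) (hcl : ∀ D ∈ FF₁, ∃ i, Cl W D i)
    {D' : Subgroup X} (hE : D' ∈ EE) (h3 : Nat.card D' < 4) (hne : D' ≠ ⊥) {D : Subgroup X} (hD : D ∈ FF₁) {i : κ}
    (hi : Cl W D i) (hi' : Cl W D' i) : False := by
  apply hne
  refine C.cent hf hi' ?_
  have h5 : W i ≤ (fxd D' : AddSubgroup V) := by
    rw [← C.fam_sup h2 h₁ hcl ⟨D, hD, hi⟩]
    refine iSup₂_le fun A hA m hm => ?_
    rw [mem_fxd]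
    refine fun d hd => (hGB A hA.1).oth D' hE ?_ d hd m hm
    rintro rfl
    have := h4 _ hA.1
    omega
  intro d hd m hm
  exact (mem_fxd.1 (h5 hm)) d hd

/-- the hypothesis of `Fam.union` -/
theorem pair (h2 : ∀ v : V, v + v = 0) {D D' : Subgroup X} {N N' K K' : AddSubgroup V} (h : NB D N K) (h' : NB D' N' K')
    {i j : κ} (hij : i ≠ j) (hi : Cl W D i) (hj : Cl W D' j) : D ≠ D' ∧ N' ≤ K ∧ N ≤ K' := by
  refine ⟨?_, ?_, ?_⟩
  · rintro rfl
    exact h'.move fun d hd m hm => hi j (Ne.symm hij) d hd m (C.le h2 h' hj hm)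
  · exact (C.le h2 h' hj).trans (h.inv_le h2 (C.inv j) fun d hd m hm => hi j (Ne.symm hij) d hd m hm)
  · exact (C.le h2 h hi).trans (h'.inv_le h2 (C.inv i) fun d hd m hm => hj i hij d hd m hm)

/-- **The union of the two families.** -/
theorem mix (h2 : ∀ v : V, v + v = 0) (hf : ∀ x : X, (∀ v : V, x • v = v) → x = 1) (h₁ : Fam S FF₁ N₁ K₁)
    (hGB : ∀ D ∈ FF₁, GB EE D (N₁ D) (K₁ D)) (h4 : ∀ D ∈ FF₁, 4 ≤ Nat.card D) (h₂ : Fam S FF₂ N₂ K₂)
    (hE2 : FF₂ ⊆ EE) (h3 : ∀ D ∈ FF₂, Nat.card D < 4) (hc₁ : ∀ D ∈ FF₁, ∃ i, Cl W D i)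
    (hc₂ : ∀ D ∈ FF₂, ∃ i, Cl W D i) :
    Fam S (FF₁ ∪ FF₂) (uN FF₁ N₁ N₂) (uN FF₁ K₁ K₂) ∧
      (∀ i, (∃ D ∈ FF₁ ∪ FF₂, Cl W D i) → ⨆ D ∈ {D | D ∈ FF₁ ∪ FF₂ ∧ Cl W D i}, uN FF₁ N₁ N₂ D = W i) ∧
      ((∀ i, ∃ D ∈ FF₁ ∪ FF₂, Cl W D i) → ⨆ D ∈ FF₁ ∪ FF₂, uN FF₁ N₁ N₂ D = ⊤) := by
  have hU : Fam S (FF₁ ∪ FF₂) (uN FF₁ N₁ N₂) (uN FF₁ K₁ K₂) := by
    refine Fam.union h₁ h₂ fun D hD D' hD' => ?_
    obtain ⟨i, hi⟩ := hc₁ D hD
    obtain ⟨j, hj⟩ := hc₂ D' hD'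
    refine C.pair h2 (h₁.nb D hD) (h₂.nb D' hD') ?_ hi hj
    rintro rfl
    refine C.disj h2 hf h₁ hGB h4 hc₁ (hE2 hD') (h3 D' hD') ?_ hD hi hj
    intro h0
    refine (h₂.nb D' hD').move fun d hd m _ => ?_
    rw [h0, Subgroup.mem_bot] at hd
    rw [hd, one_smul]
  have hc : ∀ D ∈ FF₁ ∪ FF₂, ∃ i, Cl W D i := by
    rintro D (hD | hD)
    · exact hc₁ D hD
    · exact hc₂ D hD
  exact ⟨hU, fun i hi => C.fam_sup h2 hU hc hi, fun hne => C.fam_top h2 hU hc hne⟩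

end Cls

end Cfsg.Agent.Omega.NOThreeL.RRed.Blk.Asm

end

-- merged: Cfsg.Agent.Mrg.Omega.NOThreeL.RRed.Blk.SrcBox
section

/-!
# NO-3L, box R: the structure `Src` of `WideTree` for a family of natural blocks

`B : RB S`, `mv : MvAct S`, `Q : Nrm (MZ S) (Wd S)`, `FF` : a family of root groups (images of minimal exact groups of `S`),
`N D`, `C D` the blocks and complements; `bN`, `bl`, `q` : blocks, lines and orders in `G` (index type `κ`),
`Cov` : `bN b = un Q (N D)`, `bl b = un Q [V, D]`, `q b = |D|`.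

* `line_eq` : `[V, D] = N D ∩ C_V(D)`;
* `act_cov`, `mov_cov` : the two fields, for an active `P` with a member in `FF`, and a block of `FF` (other kinds of blocks
  allowed);  **`src_cov`** : `Src`, if all minimal exact groups are in `FF`;
* `tvS_of_card`, `four_le` : no transvections: all minimal exact groups induce groups of order at least 4;
* **`one_all`** : `V*` irreducible, no transvections: one `D₀`; all minimal exact groups are conjugate to it modulo `C(V*)`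
  and their blocks generate `V*`.
-/

set_option autoImplicit false
set_option linter.unusedSectionVars false

namespace Cfsg.Agent.Omega.NOThreeL.RRed.Blk.SrcBox

open Subgroup Cfsg Cfsg.Agent.ZN Cfsg.Agent.Omega.MinPar
open Cfsg.Agent.Omega.FFThm (NatKM SymKM OffM ElemM NoOverM StmtM ConclM)
open Cfsg.Agent.Omega.FrameFF (cv)
open Cfsg.Agent.Omega.NO3S.ThmB Cfsg.Agent.Omega.NO3S.KeyRad
open Cfsg.Agent.Omega.NOThreeL.RSplit (Nrm)
open Cfsg.Agent.Omega.NOThreeL.RRed.NS hiding rt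
open Cfsg.Agent.Omega.NOThreeL.RRed.WideTree (Act MvAct Src)
open Cfsg.Agent.Omega.NOThreeL.RRed.FourTree (TvS)
open Cfsg.Agent.Omega.NOThreeL.RTree (RB)
open Cfsg.Agent.Omega.NOThreeL.Merge (MZ le_MZ isLoc_MZ)
open Cfsg.Agent.Omega.NOThreeL.RRed.Blk.TypesNat (XH ph ph_smul XH_faith ph_eq ph_surj no_XH two_of)
open Cfsg.Agent.Omega.NOThreeL.RRed.Blk.Asm (Es GB NB Fam FFs NN CC St range_le_brk brk_rt_le e_le_fxd)
open Cfsg.Agent.Omega.NOThreeL.RRed.Blk.AsmCore (EP KP im ph_mem_im)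
open Cfsg.Agent.Omega.NOThreeL.RRed.Blk.AsmG (Inp RRs)
open scoped Pointwise

universe u v w

section abs

variable {X : Type u} {V : Type v} [Group X] [AddCommGroup V] [DistribMulAction X V]

/-- the line of a block -/
theorem line_eq (h2 : ∀ v : V, v + v = 0) (hf : ∀ x : X, (∀ v : V, x • v = v) → x = 1) {D : Subgroup X}
    {N C : AddSubgroup V} (h : NB D N C) : brk V D = N ⊓ (fxd D : AddSubgroup V) := by
  obtain ⟨F, i1, i2, e, f, up, lo, hB, rfl, rfl⟩ := h.ex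
  have h1 := brk_rt_le hB h2 hf
  refine le_antisymm (le_inf (h1.trans le_sup_left) (h1.trans (e_le_fxd hB))) ?_
  rintro m ⟨hm, hm'⟩
  obtain ⟨_, ⟨x, rfl⟩, _, ⟨y, rfl⟩, rfl⟩ := AddSubgroup.mem_sup.1 hm
  have h5 := hm' (up 1) (TypesGam.up_mem 1)
  rw [smul_add, hB.up_e, hB.up_f, one_mul] at h5
  have h6 : e y + f 0 ∈ C := by
    have h7 : e y = 0 := by
      have h8 : e x + f y + e y = e x + f y + 0 := by rw [add_zero, add_assoc]; exact h5
      exact add_left_cancel h8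
    rw [h7, map_zero, add_zero]
    exact zero_mem C
  obtain ⟨rfl, -⟩ := hB.ind y 0 h6
  rw [map_zero, add_zero]
  exact range_le_brk hB ⟨x, rfl⟩

/-- a group of order 2 inducing an exact group acts as a transvection -/
theorem tv_of_two {A : Subgroup X} (hE : Nat.card V ≤ Nat.card A * Nat.card (fxd A : AddSubgroup V)) [Finite V]
    (h2 : Nat.card A ≤ 2) {t : X} (ht : t ∈ A) : ∃ c : V, ∀ v : V, t • v = v ∨ t • v = v + c := by
  set F := (fxd A : AddSubgroup V) with hF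
  have h3 := F.card_mul_index
  have h4 : F.index ≤ 2 := by
    have h5 : 0 < Nat.card F := Nat.card_pos
    have h6 : Nat.card F * F.index ≤ Nat.card F * 2 := by
      rw [h3, mul_comm]
      exact hE.trans (Nat.mul_le_mul_right _ h2)
    exact Nat.le_of_mul_le_mul_left h6 h5
  have h5 : F.index ≠ 0 := by
    intro h0
    rw [h0, mul_zero] at h3
    exact (Nat.card_pos (α := V)).ne h3
  by_cases h6 : F.index = 1
  · rw [AddSubgroup.index_eq_one] at h6
    refine ⟨0, fun v => Or.inl ?_⟩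
    have h7 : v ∈ F := h6 ▸ AddSubgroup.mem_top v
    exact h7 t ht
  · have h7 : F.index = 2 := by omega
    obtain ⟨v₀, hv₀⟩ : ∃ v₀ : V, v₀ ∉ F := by
      by_contra hcon
      push Not at hcon
      exact h6 (AddSubgroup.index_eq_one.2 ((eq_top_iff).2 fun v _ => hcon v))
    refine ⟨t • v₀ - v₀, fun v => ?_⟩
    by_cases hv : v ∈ F
    · exact Or.inl (hv t ht)
    · right
      have h8 : v - v₀ ∈ F := by
        rw [sub_eq_add_neg, AddSubgroup.add_mem_iff_of_index_two h7, neg_mem_iff]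
        exact iff_of_false hv hv₀
      have h9 := h8 t ht
      rw [smul_sub] at h9
      have h10 : t • v = (v - v₀) + t • v₀ := by rw [← h9]; abel
      rw [h10]; abel

end abs

variable {G : Type u} [Group G] [Finite G] {S : Sylow 2 G} {P : Subgroup G}

section cov

variable {H U : Subgroup G} {Q : Nrm H U}

/-- `b` is the block of `D` -/
structure Cov (Q : Nrm H U) (D : Subgroup (XH Q)) (N : AddSubgroup Q.Mod) (bN bl : Subgroup G) (q : ℕ) : Prop where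
  n : bN = un Q N
  l : bl = un Q (brk Q.Mod D)
  q : q = Nat.card D

/-- the line as a fixed-point group -/
theorem cov_of (h2 : ∀ v : Q.Mod, v + v = 0) {D : Subgroup (XH Q)} {N C : AddSubgroup Q.Mod} (h : NB D N C)
    {bN bl : Subgroup G} {q : ℕ} (h1 : bN = un Q N) (h3 : bl = un Q (N ⊓ (fxd D : AddSubgroup Q.Mod)))
    (h4 : q = Nat.card D) : Cov Q D N bN bl q :=
  ⟨h1, by rw [h3, line_eq h2 (fun x hx => XH_faith Q x hx) h], h4⟩

end cov

section fam

variable (B : RB S) (mv : MvAct (S : Subgroup G)) (Q : Nrm (MZ (S : Subgroup G)) (Wd (S : Subgroup G)))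
  {FF : Set (Subgroup (XH Q))} {N C : Subgroup (XH Q) → AddSubgroup Q.Mod} {κ : Type w} {bN bl : κ → Subgroup G}
  {q : κ → ℕ}
include B mv

/-- **the field `act`**, for an active `P` with a member in `FF` -/
theorem act_cov (hn : ∀ D ∈ FF, NB D (N D) (C D)) (h4 : ∀ D ∈ FF, 4 ≤ Nat.card D)
    (hS : ∀ s ∈ im Q (S : Subgroup G), ∀ D ∈ FF, MulAut.conj s • D ∈ FF)
    (cov : ∀ D ∈ FF, ∃ b, Cov Q D (N D) (bN b) (bl b) (q b)) (hP : IsParS (S : Subgroup G) P)
    {A : Subgroup G} (hA : A ∈ EP (S : Subgroup G) P (Wd (S : Subgroup G))) (hAF : im Q A ∈ FF) :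
    ∃ (F : Type) (_ : Field F) (_ : Finite F) (_ : CharP F 2) (k : ℕ) (_ : 0 < k)
      (M : NatKM F (S : Subgroup G) P (zl (S : Subgroup G) P) (cv (S : Subgroup G) P) k) (h : Nb M),
      (∀ i, DD M i = ⊥) ∧ ∀ j, ∃ b, bN b = blk M j ∧ bl b = YY h j ∧ q b = Nat.card F := by
  obtain ⟨F, i1, i2, i3, k, hk, M, h, h1, h2, -⟩ := AsmMv.src_one B mv Q hn h4 hS hP hA hAF
  refine ⟨F, i1, i2, i3, k, hk, M, h, h1, fun j => ?_⟩
  obtain ⟨D, hD, e1, e2, e3⟩ := h2 j
  obtain ⟨b, hb⟩ := cov D hD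
  exact ⟨b, hb.n.trans e1, hb.l.trans e2, hb.q.trans e3⟩

/-- **the field `mov`**, for a block of `FF` -/
theorem mov_cov (I : Inp S (MZ (S : Subgroup G)) Q)
    (hn : ∀ D ∈ FF, GB (im Q '' AsmCore.EE (S : Subgroup G) (Wd (S : Subgroup G))) D (N D) (C D))
    (h4 : ∀ D ∈ FF, 4 ≤ Nat.card D) (hS : ∀ s ∈ im Q (S : Subgroup G), ∀ D ∈ FF, MulAut.conj s • D ∈ FF)
    (hsub : FF ⊆ im Q '' AsmCore.EE (S : Subgroup G) (Wd (S : Subgroup G)))
    (cov : ∀ D ∈ FF, ∃ b, Cov Q D (N D) (bN b) (bl b) (q b)) {D : Subgroup (XH Q)} (hD : D ∈ FF) {b : κ}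
    (hb : Cov Q D (N D) (bN b) (bl b) (q b)) :
    ∃ P, Act (S : Subgroup G) P ∧ ∃ (F : Type) (_ : Field F) (_ : Finite F) (_ : CharP F 2) (k : ℕ) (_ : 0 < k)
      (M : NatKM F (S : Subgroup G) P (zl (S : Subgroup G) P) (cv (S : Subgroup G) P) k) (h : Nb M),
      (∀ i, DD M i = ⊥) ∧ (∃ j, bN b = blk M j ∧ bl b = YY h j ∧ q b = Nat.card F) ∧
      ∀ j, ∃ c, bN c = blk M j ∧ bl c = YY h j ∧ q c = Nat.card F := by
  obtain ⟨P, a, F, i1, i2, i3, k, hk, M, h, h1, h2, j, e1, e2, e3⟩ := AsmMv.mov_of B mv Q (N := N) (C := C) I.es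
    (fun P a => I.ac P a.1 (le_MZ a.1) (AsmMv.EP_ne B a)) hn h4 hS hsub hD
  refine ⟨P, a, F, i1, i2, i3, k, hk, M, h, h1, ⟨j, hb.n.trans e1, hb.l.trans e2, hb.q.trans e3⟩, fun j => ?_⟩
  obtain ⟨D, hD, e1, e2, e3⟩ := h2 j
  obtain ⟨b, hb⟩ := cov D hD
  exact ⟨b, hb.n.trans e1, hb.l.trans e2, hb.q.trans e3⟩

end fam

section box

variable (B : RB S) (mv : MvAct (S : Subgroup G)) (Q : Nrm (MZ (S : Subgroup G)) (Wd (S : Subgroup G)))
  {FF : Set (Subgroup (XH Q))} {N C : Subgroup (XH Q) → AddSubgroup Q.Mod} {κ : Type u} {bN bl : κ → Subgroup G}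
  {q : κ → ℕ}
include B mv

/-- **The structure `Src`**, all blocks in `FF`. -/
theorem src_cov (I : Inp S (MZ (S : Subgroup G)) Q)
    (hn : ∀ D ∈ FF, GB (im Q '' AsmCore.EE (S : Subgroup G) (Wd (S : Subgroup G))) D (N D) (C D))
    (h4 : ∀ D ∈ FF, 4 ≤ Nat.card D) (hS : ∀ s ∈ im Q (S : Subgroup G), ∀ D ∈ FF, MulAut.conj s • D ∈ FF)
    (hFF : FF = im Q '' AsmCore.EE (S : Subgroup G) (Wd (S : Subgroup G)))
    (cov : ∀ D ∈ FF, ∃ b, Cov Q D (N D) (bN b) (bl b) (q b))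
    (of : ∀ b, ∃ D ∈ FF, Cov Q D (N D) (bN b) (bl b) (q b)) : Src (S : Subgroup G) bN bl q where
  act P a := by
    obtain ⟨A, hA⟩ := AsmMv.EP_ne B a
    exact act_cov B mv Q (fun D hD => (hn D hD).nb) h4 hS cov a.1 hA (hFF ▸ ⟨A, hA.1, rfl⟩)
  mov b := by
    obtain ⟨D, hD, hb⟩ := of b
    exact mov_cov B mv Q I hn h4 hS hFF.le cov hD hb

end box

/-! ### No transvections -/

section tv

variable (Q : Nrm (MZ (S : Subgroup G)) (Wd (S : Subgroup G)))

theorem tvS_of_card (hSH : (S : Subgroup G) ≤ MZ (S : Subgroup G)) (I : Inp S (MZ (S : Subgroup G)) Q) {A : Subgroup G}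
    (hA : A ∈ AsmCore.EE (S : Subgroup G) (Wd (S : Subgroup G))) (h2 : Nat.card (im Q A) ≤ 2) : TvS (S : Subgroup G) := by
  obtain ⟨t, ht, hn⟩ : ∃ t ∈ A, t ∉ centralizer (Wd (S : Subgroup G) : Set G) := by
    by_contra hcon
    push Not at hcon
    exact hA.2.ne hcon
  have E : Es (im Q (S : Subgroup G)) (im Q '' AsmCore.EE (S : Subgroup G) (Wd (S : Subgroup G))) Q.Mod := I.es
  obtain ⟨c, hc⟩ := tv_of_two (E.exact _ ⟨A, hA, rfl⟩) h2 (t := ph Q ⟨t, hSH (hA.1 ht)⟩) (ph_mem_im Q ht)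
  have key : ∀ w ∈ Wd (S : Subgroup G), t * w * t⁻¹ = w ∨ t * w * t⁻¹ = w * Q.val c := by
    intro w hw
    rcases hc (Q.of w hw) with h1 | h1
    · left
      rw [ph_smul] at h1
      exact (smul_eq_iff Q _ _).1 h1
    · right
      have h3 := congrArg Q.val h1
      rw [ph_smul, Nrm.val_smul, Nrm.val_add] at h3
      exact h3
  refine ⟨t, hA.1 ht, Q.val c, Q.val_mem c, fun h1 => hn ?_, key, hn⟩
  rw [mem_centralizer_iff]
  intro w hw
  rcases key w hw with h3 | h3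
  · exact (mul_inv_eq_iff_eq_mul.1 h3).symm
  · rw [h1, mul_one] at h3
    exact (mul_inv_eq_iff_eq_mul.1 h3).symm

/-- no transvections: all minimal exact groups induce groups of order at least 4 -/
theorem four_le (hSH : (S : Subgroup G) ≤ MZ (S : Subgroup G)) (I : Inp S (MZ (S : Subgroup G)) Q)
    (ht : ¬ TvS (S : Subgroup G)) {D : Subgroup (XH Q)}
    (hD : D ∈ im Q '' AsmCore.EE (S : Subgroup G) (Wd (S : Subgroup G))) : 4 ≤ Nat.card D := by
  obtain ⟨A, hA, rfl⟩ := hD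
  have h1 : ¬ Nat.card (im Q A) ≤ 2 := fun h2 => ht (tvS_of_card Q hSH I hA h2)
  have h3 : Nat.card (im Q A) ∣ Nat.card A := Dvd.intro _ (AsmCore.card_im Q (hA.1.trans hSH))
  obtain ⟨n, hn⟩ := IsPGroup.iff_card.1 (S.isPGroup'.to_le hA.1)
  rw [hn] at h3
  obtain ⟨m, -, hm⟩ := (Nat.dvd_prime_pow Nat.prime_two).1 h3
  rw [hm] at h1 ⊢
  rcases m with _ | _ | m
  · exact absurd (by norm_num) h1
  · exact absurd (by norm_num) h1
  · calc 4 = 2 ^ 2 := by norm_num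
      _ ≤ 2 ^ (m + 1 + 1) := Nat.pow_le_pow_right (by norm_num) (by omega)

omit [Finite G] in
theorem hf (Q : Nrm (MZ (S : Subgroup G)) (Wd (S : Subgroup G))) (x : XH Q) (hx : ∀ v : Q.Mod, x • v = v) : x = 1 :=
  XH_faith Q x hx

/-- `AsmG.Inp.main` for `U = V*` -/
theorem main_box (I : Inp S (MZ (S : Subgroup G)) Q) {RR : Set (Subgroup (XH Q))}
    (hR : RR ⊆ RRs S (MZ (S : Subgroup G)) Q) :
    (∀ v : Q.Mod, v + v = 0) ∧
    FFs (im Q '' AsmCore.EE (S : Subgroup G) (Wd (S : Subgroup G))) RR ⊆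
      im Q '' AsmCore.EE (S : Subgroup G) (Wd (S : Subgroup G)) ∧
    (∀ D ∈ FFs (im Q '' AsmCore.EE (S : Subgroup G) (Wd (S : Subgroup G))) RR, 4 ≤ Nat.card D) ∧
    (∀ D ∈ FFs (im Q '' AsmCore.EE (S : Subgroup G) (Wd (S : Subgroup G))) RR,
      GB (im Q '' AsmCore.EE (S : Subgroup G) (Wd (S : Subgroup G))) D
        (NN (im Q '' AsmCore.EE (S : Subgroup G) (Wd (S : Subgroup G))) Q.Mod D)
        (CC (im Q '' AsmCore.EE (S : Subgroup G) (Wd (S : Subgroup G))) Q.Mod D)) ∧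
    Fam (im Q (S : Subgroup G)) (FFs (im Q '' AsmCore.EE (S : Subgroup G) (Wd (S : Subgroup G))) RR)
      (NN (im Q '' AsmCore.EE (S : Subgroup G) (Wd (S : Subgroup G))) Q.Mod)
      (CC (im Q '' AsmCore.EE (S : Subgroup G) (Wd (S : Subgroup G))) Q.Mod) :=
  ⟨I.two, I.main hR⟩

/-- `V*` irreducible for `M₀` : one root group generates everything -/
theorem sup_one (I : Inp S (MZ (S : Subgroup G)) Q)
    (irr : ∀ W : Subgroup G, W ≤ Wd (S : Subgroup G) → MZ (S : Subgroup G) ≤ normalizer (W : Set G) → W ≠ ⊥ →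
      Wd (S : Subgroup G) ≤ W) {D : Subgroup (XH Q)} (hD : D ∈ RRs S (MZ (S : Subgroup G)) Q) :
    (⨆ D' ∈ FFs (im Q '' AsmCore.EE (S : Subgroup G) (Wd (S : Subgroup G))) {D},
      NN (im Q '' AsmCore.EE (S : Subgroup G) (Wd (S : Subgroup G))) Q.Mod D') = ⊤ := by
  obtain ⟨h2, h1, h4, h5, hF⟩ := main_box Q I (RR := {D}) (Set.singleton_subset_iff.2 hD)
  refine Fam.sup_eq h2 hF ⟨D, Asm.le_FFs rfl⟩ (fun g m _ => AddSubgroup.mem_top _) (fun U _ hinv hne => ?_)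
    (fun _ _ => le_top)
  have h6 := irr (un Q U) (AsmUn.un_le Q U) ((AsmUn.inv_iff Q U).1 hinv) fun h0 => hne ((AsmUn.un_eq_bot Q).1 h0)
  rw [← AsmUn.un_le_iff (Q := Q), AsmUn.un_top]
  exact h6

/-- **`V*` irreducible, no transvections.** -/
theorem one_all (B : RB S) (mv : MvAct (S : Subgroup G)) (hz : ∃ z ∈ zc (S : Subgroup G), z ≠ 1)
    (hSH : (S : Subgroup G) ≤ MZ (S : Subgroup G)) (I : Inp S (MZ (S : Subgroup G)) Q)
    (irr : ∀ W : Subgroup G, W ≤ Wd (S : Subgroup G) → MZ (S : Subgroup G) ≤ normalizer (W : Set G) → W ≠ ⊥ →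
      Wd (S : Subgroup G) ≤ W) (ht : ¬ TvS (S : Subgroup G)) :
    ∃ D ∈ RRs S (MZ (S : Subgroup G)) Q,
      FFs (im Q '' AsmCore.EE (S : Subgroup G) (Wd (S : Subgroup G))) {D} =
        im Q '' AsmCore.EE (S : Subgroup G) (Wd (S : Subgroup G)) ∧
      (⨆ D' ∈ im Q '' AsmCore.EE (S : Subgroup G) (Wd (S : Subgroup G)),
        NN (im Q '' AsmCore.EE (S : Subgroup G) (Wd (S : Subgroup G))) Q.Mod D') = ⊤ ∧
      4 ≤ Nat.card D ∧
      ∀ D' ∈ im Q '' AsmCore.EE (S : Subgroup G) (Wd (S : Subgroup G)), Nat.card D' = Nat.card D := by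
  obtain ⟨z, hz, hz1⟩ := hz
  obtain ⟨P, a, -⟩ := mv z hz hz1
  obtain ⟨A, hA⟩ := AsmMv.EP_ne B a
  have hD : im Q A ∈ RRs S (MZ (S : Subgroup G)) Q :=
    ⟨four_le Q hSH I ht ⟨A, hA.1, rfl⟩, P, a.1, le_MZ a.1, A, hA, rfl⟩
  have h1 := sup_one Q I irr hD
  obtain ⟨-, h3, h4, h5, hF⟩ := main_box Q I (RR := {im Q A}) (Set.singleton_subset_iff.2 hD)
  have e : FFs (im Q '' AsmCore.EE (S : Subgroup G) (Wd (S : Subgroup G))) {im Q A} =
      im Q '' AsmCore.EE (S : Subgroup G) (Wd (S : Subgroup G)) :=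
    Asm.eq_EE (hf Q) h3 h5 h1 fun D' hD' h0 => by
      have h6 := four_le Q hSH I ht hD'
      rw [h0, Subgroup.card_bot] at h6
      omega
  refine ⟨_, hD, e, ?_, four_le Q hSH I ht ⟨A, hA.1, rfl⟩, fun D' hD' => ?_⟩
  · rw [e] at h1
    exact h1
  · rw [← e] at hD'
    obtain ⟨g, -, _, rfl, rfl⟩ := hD'
    exact Asm.conj_ne_bot

/-- **`Src` for the family of all minimal exact groups.** -/
theorem src_all (B : RB S) (mv : MvAct (S : Subgroup G)) (I : Inp S (MZ (S : Subgroup G)) Q) {RR : Set (Subgroup (XH Q))}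
    (hR : RR ⊆ RRs S (MZ (S : Subgroup G)) Q)
    (e : FFs (im Q '' AsmCore.EE (S : Subgroup G) (Wd (S : Subgroup G))) RR =
      im Q '' AsmCore.EE (S : Subgroup G) (Wd (S : Subgroup G))) {κ : Type u} (d : κ → Subgroup (XH Q))
    (hd : ∀ b, d b ∈ im Q '' AsmCore.EE (S : Subgroup G) (Wd (S : Subgroup G)))
    (sd : ∀ D ∈ im Q '' AsmCore.EE (S : Subgroup G) (Wd (S : Subgroup G)), ∃ b, d b = D) :
    Src (S : Subgroup G)
      (fun b => un Q (NN (im Q '' AsmCore.EE (S : Subgroup G) (Wd (S : Subgroup G))) Q.Mod (d b)))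
      (fun b => un Q (brk Q.Mod (d b))) (fun b => Nat.card (d b)) := by
  obtain ⟨-, h3, h4, h5, hF⟩ := main_box Q I hR
  rw [e] at h4 h5 hF
  refine src_cov B mv Q I h5 h4 hF.sinv rfl (fun D hD => ?_) fun b => ⟨d b, hd b, rfl, rfl, rfl⟩
  obtain ⟨b, rfl⟩ := sd D hD
  exact ⟨b, rfl, rfl, rfl⟩

end tv

end Cfsg.Agent.Omega.NOThreeL.RRed.Blk.SrcBox

end

-- merged: Cfsg.Agent.Mrg.Omega.NOThreeL.RRed.LeftThree
section

/-!
# Box R, the left case: the classes of letters (`q = 2`) have blocks with three letters only (helper559)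

`F : Full S M V N E R₀ Om phi` (blocks of letters), `x`, `y` two vectors fixed by `S`, `D' = C_G(x) ⊓ C_G(y)`,
`O' = O₂(D')`; `x` has the component `Ω_b - {p}` in the block `b`, `y` the component `1`.

* **`at_pair`** : the data `LeftLett.At` for `O'`;
* `cent_Co` : `E b` centralises the complement of `N b`;
* `card_conj` : `M`-conjugate blocks have the same number of letters; `exists_conj` : the blocks of an irreducible class
  are conjugate;
* **`three_blk`** : some elementary abelian `A ≤ O'` of maximal order moves `N b`: `|Ω_b| = 3`;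
* **`three_of_left`** : `W = ∏_{b ∈ J} N b` irreducible, some such `A` moves `W` (the field `Left` of the tree, `x`, `y` of
  full support in `W`, in the product of the other classes): `|Ω_b| = 3` for all `b ∈ J`.
-/

set_option autoImplicit false
set_option linter.unusedSectionVars false

namespace Cfsg.Agent.Omega.NOThreeL.RRed.LeftThree

open Subgroup Cfsg
open Cfsg.Agent.ZN (o2)
open Cfsg.Agent.MinSimple.VModule (o2_isPGroup o2_le le_normalizer_o2 o2_le_of_sylow)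
open Cfsg.Agent.Omega.NOThreeL.RRed.TvFin (Full)
open Cfsg.Agent.Omega.NOThreeL.RRed.TvTr (Orb)
open Cfsg.Agent.Omega.NOThreeL.RRed.Blk (Dec Co IsC)
open Cfsg.Agent.Omega.NOThreeL.RRed.LeftLett (At)
open scoped Pointwise

universe u

variable {G : Type u} [Group G]

section dec

variable {S M V : Subgroup G} {ι : Type u} {N E : ι → Subgroup G} {R₀ : Subgroup G} (F : Dec S M V N E R₀)
include F

/-- `E b` centralises the complement of `N b` -/
theorem cent_Co (b : ι) : E b ≤ centralizer (Co N R₀ b : Set G) := by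
  have h1 : Co N R₀ b ≤ centralizer (E b : Set G) := by
    refine sup_le (iSup_le fun c => ?_) ?_
    · have h1 := F.EC b c.1 (Ne.symm c.2)
      exact fun x hx => mem_centralizer_iff.2 fun y hy => (mem_centralizer_iff.1 (h1 hy) x hx).symm
    · have h1 := F.ER b
      exact fun x hx => mem_centralizer_iff.2 fun y hy => (mem_centralizer_iff.1 (h1 hy) x hx).symm
  exact fun x hx => mem_centralizer_iff.2 fun y hy => (mem_centralizer_iff.1 (h1 hy) x hx).symm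

/-- the blocks of an irreducible class are conjugate -/
theorem exists_conj {W : Subgroup G} {J : Set ι} (hW : W = ⨆ b : J, N b)
    (nW : M ≤ normalizer (W : Set G))
    (irr : ∀ U : Subgroup G, U ≤ W → M ≤ normalizer (U : Set G) → U ≠ ⊥ → W ≤ U) {b c : ι} (hb : b ∈ J) (hc : c ∈ J) :
    ∃ g ∈ M, MulAut.conj g • N b = N c := by
  set U : Subgroup G := ⨆ d : {d // ∃ g ∈ M, MulAut.conj g • N b = N d}, N d.1 with hU
  have hbW : N b ≤ W := by
    rw [hW]
    exact le_iSup (fun d : J => N d) ⟨b, hb⟩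
  have hUW : U ≤ W := by
    refine iSup_le fun d => ?_
    obtain ⟨g, hg, h⟩ := d.2
    rw [← h]
    rintro _ ⟨x, hx, rfl⟩
    exact (mem_normalizer_iff.1 (nW hg) x).1 (hbW hx)
  have h1 : ∀ g ∈ M, MulAut.conj g • U ≤ U := by
    intro g hg
    rw [hU, show MulAut.conj g • (⨆ d : {d // ∃ g ∈ M, MulAut.conj g • N b = N d}, N d.1) =
      ⨆ d : {d // ∃ g ∈ M, MulAut.conj g • N b = N d}, MulAut.conj g • N d.1 from Subgroup.map_iSup _ _]
    refine iSup_le fun d => ?_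
    obtain ⟨k, hk, h⟩ := d.2
    obtain ⟨e, he, -⟩ := F.perm g hg d.1
    rw [he]
    refine le_iSup (fun d : {d // ∃ g ∈ M, MulAut.conj g • N b = N d} => N d.1) ⟨e, g * k, mul_mem hg hk, ?_⟩
    rw [map_mul, mul_smul, h, he]
  have hMU : M ≤ normalizer (U : Set G) := by
    intro g hg
    rw [mem_normalizer_iff]
    refine fun x => ⟨fun hx => h1 g hg ((Blk.conj_smul rfl).1 hx), fun hx => ?_⟩
    have h2 := h1 g⁻¹ (inv_mem hg) ((Blk.conj_smul rfl).1 hx)
    have e : g⁻¹ * (g * x * g⁻¹) * g⁻¹⁻¹ = x := by group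
    rwa [e] at h2
  have hbU : N b ≤ U := le_iSup (fun d : {d // ∃ g ∈ M, MulAut.conj g • N b = N d} => N d.1)
    ⟨b, 1, one_mem _, by rw [map_one, one_smul]⟩
  have hU1 : U ≠ ⊥ := fun h => F.ne b (eq_bot_iff.2 (h ▸ hbU))
  have h3 := irr U hUW hMU hU1
  have hcW : N c ≤ W := by
    rw [hW]
    exact le_iSup (fun d : J => N d) ⟨c, hc⟩
  by_contra hne
  have h4 : U ≤ Co N R₀ c := by
    refine iSup_le fun d => F.N_le_Co fun e => hne ?_
    rw [← e]
    exact d.2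
  have h5 : N c ≤ N c ⊓ Co N R₀ c := le_inf le_rfl (hcW.trans (h3.trans h4))
  rw [show N c ⊓ Co N R₀ c = ⊥ from F.ind c] at h5
  exact F.ne c (eq_bot_iff.2 h5)

end dec

section full

variable {S : Sylow 2 G} {M V : Subgroup G} {I : Type u} {N E : I → Subgroup G} {R₀ : Subgroup G} {Om : I → Type u}
    [∀ i, Fintype (Om i)] [∀ i, DecidableEq (Om i)] {phi : ∀ i, Finset (Om i) → G}
    (F : Full (S : Subgroup G) M V N E R₀ Om phi)
include F

theorem card_conj {g : G} (hg : g ∈ M) {b c : I} (h : MulAut.conj g • N b = N c) :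
    Fintype.card (Om b) = Fintype.card (Om c) := by
  obtain ⟨τ, σ, h1, -, -⟩ := F.letters g hg
  have hc : c = τ b := F.toDec.Ninj (by rw [← h, h1])
  subst hc
  exact Fintype.card_congr (σ b)

variable [Finite G] {x y : G}

/-- **the data of one block for `O' = O₂(C_G(x) ⊓ C_G(y))`** -/
theorem at_pair (hx : (S : Subgroup G) ≤ centralizer ({x} : Set G)) (hy : (S : Subgroup G) ≤ centralizer ({y} : Set G))
    {b : I} {p : Om b} (hc : IsC N R₀ b x (phi b (Finset.univ.erase p))) (hyc : y ∈ Co N R₀ b) :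
    At M V N E R₀ phi b p x (o2 (centralizer ({x} : Set G) ⊓ centralizer ({y} : Set G))) where
  comp := hc
  two := o2_isPGroup _
  OM := (o2_le_of_sylow S.isPGroup' (MinSimple.Basic.not_dvd_relIndex S (le_inf hx hy))).trans F.SL
  Oe := (o2_le _).trans inf_le_left
  nO g hg hgx := le_normalizer_o2 _ (mem_inf.2 ⟨hgx, by
    rw [mem_centralizer_singleton_iff]
    exact (mem_centralizer_iff.1 (cent_Co F.toDec b hg) y hyc).symm⟩)

/-- **one block** -/
theorem three_blk (hx : (S : Subgroup G) ≤ centralizer ({x} : Set G))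
    (hy : (S : Subgroup G) ≤ centralizer ({y} : Set G)) {b : I} (hc : ∃ n ∈ Orb phi b, IsC N R₀ b x n)
    (hyc : y ∈ Co N R₀ b) (low : N b ≤ o2 (centralizer ({x} : Set G) ⊓ centralizer ({y} : Set G)))
    (sq : ∀ v ∈ V, v ^ 2 = 1)
    (hL : ∃ A, KL.TwoS.Mx (o2 (centralizer ({x} : Set G) ⊓ centralizer ({y} : Set G))) A ∧
      ¬ A ≤ centralizer (N b : Set G)) : Fintype.card (Om b) = 3 := by
  obtain ⟨_, ⟨p, rfl⟩, h1⟩ := hc
  obtain ⟨A, hA, mv⟩ := hL
  exact LeftLett.card_eq_three_mx F (at_pair F hx hy h1 hyc) hA low sq mv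

/-- **an irreducible class of letters in the left case: three letters in each block** -/
theorem three_of_left (hx : (S : Subgroup G) ≤ centralizer ({x} : Set G))
    (hy : (S : Subgroup G) ≤ centralizer ({y} : Set G)) {W : Subgroup G} {J : Set I} (hW : W = ⨆ b : J, N b)
    (nW : M ≤ normalizer (W : Set G))
    (irr : ∀ U : Subgroup G, U ≤ W → M ≤ normalizer (U : Set G) → U ≠ ⊥ → W ≤ U)
    (hc : ∀ b ∈ J, ∃ n ∈ Orb phi b, IsC N R₀ b x n) (hyc : ∀ b ∈ J, y ∈ Co N R₀ b)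
    (low : W ≤ o2 (centralizer ({x} : Set G) ⊓ centralizer ({y} : Set G))) (sq : ∀ v ∈ V, v ^ 2 = 1)
    (hL : ∃ A, KL.TwoS.Mx (o2 (centralizer ({x} : Set G) ⊓ centralizer ({y} : Set G))) A ∧
      ¬ A ≤ centralizer (W : Set G)) : ∀ b ∈ J, Fintype.card (Om b) = 3 := by
  obtain ⟨A, hA, mv⟩ := hL
  have h1 : ∃ b ∈ J, ¬ A ≤ centralizer (N b : Set G) := by
    by_contra hcon
    push Not at hcon
    apply mv
    have h2 : W ≤ centralizer (A : Set G) := by
      rw [hW]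
      refine iSup_le fun b => ?_
      exact fun v hv => mem_centralizer_iff.2 fun a ha =>
        (mem_centralizer_iff.1 (hcon b b.2 ha) v hv).symm
    exact fun a ha => mem_centralizer_iff.2 fun v hv => (mem_centralizer_iff.1 (h2 hv) a ha).symm
  obtain ⟨b, hb, hm⟩ := h1
  have hbW : N b ≤ W := by
    rw [hW]
    exact le_iSup (fun d : J => N d) ⟨b, hb⟩
  have h3 := three_blk F hx hy (hc b hb) (hyc b hb) (hbW.trans low) sq ⟨A, hA, hm⟩
  intro c hcJ
  obtain ⟨g, hg, h4⟩ := exists_conj F.toDec hW nW irr hb hcJ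
  rw [← card_conj F hg h4, h3]

end full

end Cfsg.Agent.Omega.NOThreeL.RRed.LeftThree

end

-- merged: Cfsg.Agent.Mrg.Omega.NOThreeL.RRed.Blk.AsmCls
section

section


/-!
# NO-3L, box R: the classes of the minimal exact offenders (helper283)

* `irr_of` : `CM` gives `ClsBlk.Irr`; `cls_of` : the classes as submodules of `Q.Mod`, `Cls (XH Q) (Q.ad (W i))`;
* `cl_im` : the class of the image; `cl_EE` : every member of `im Q '' EE S V*` has a class;
* **`exists_atom`** : for every `i` some active `P` has a minimal exact offender of class `i` which moves `V_P`;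
* `transv` : `s ∈ S ⊓ E b` acting as a transposition is a transvection on `V`.
-/

set_option autoImplicit false
set_option linter.unusedSectionVars false

namespace Cfsg.Agent.Omega.NOThreeL.RRed.Blk.AsmCls

open Subgroup Cfsg Cfsg.Agent.ZN Cfsg.Agent.Omega.MinPar
open Cfsg.Agent.Omega.FFThm
open Cfsg.Agent.Omega.NOThreeL.RRed.TvFin (Full TvV)
open Cfsg.Agent.Omega.KL.TwoS (Rel Lett)
open Cfsg.Agent.Omega.NOThreeL.RSplit (Nrm)
open Cfsg.Agent.Omega.NOThreeL.RRed.NS (fxd brk mem_fxd smul_eq_iff un)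
open Cfsg.Agent.Omega.NOThreeL.RRed.Blk.TypesNat (XH ph ph_smul ph_eq ph_surj XH_faith)
open Cfsg.Agent.Omega.NOThreeL.RRed.Blk.Asm
open Cfsg.Agent.Omega.NOThreeL.RRed.Blk.AsmCore (im EP)

open Cfsg.Agent.Omega.NOThreeL.RRed.WideTree (Act MvAct CM)
open Cfsg.Agent.Omega.NOThreeL.RTree (RB)
open Cfsg.Agent.Omega.NOThreeL.Merge (MZ le_MZ isLoc_MZ)
open Cfsg.Agent.MinSimple.VModule (oddGen)
open scoped Pointwise

universe u v

variable {G : Type u} [Group G]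

section gen

variable {M V : Subgroup G} {ι : Type v} {W : ι → Subgroup G} (I : ClsBlk.Irr M V W) (Q : Nrm M V)
include I

/-- the classes as submodules -/
theorem cls_of : Cls (XH Q) (fun i => Q.ad (W i)) where
  inv i := by
    rw [AsmUn.inv_iff, AsmUn.un_ad Q (I.le i)]
    exact I.inv i
  irr i U hU hinv hne := by
    rw [← AsmUn.le_un (I.le i)]
    refine I.irr i _ ?_ ((AsmUn.inv_iff Q U).1 hinv) fun h0 => hne ((AsmUn.un_eq_bot Q).1 h0)
    rw [AsmUn.un_le_sub]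
    exact hU
  sup := by
    rw [← AsmUn.un_inj, AsmUn.un_iSup, AsmUn.un_top]
    simp only [AsmUn.un_ad Q (I.le _)]
    exact I.sup
  dis i j hij := by
    rw [← AsmUn.un_inj, AsmUn.un_inf, AsmUn.un_ad Q (I.le i), AsmUn.un_ad Q (I.le j), AsmUn.un_bot]
    exact I.inf_bot (Ne.symm hij)

omit I in
/-- the class of the image -/
theorem cl_im {A : Subgroup G} {i : ι} (h : ∀ j, j ≠ i → A ≤ centralizer (W j : Set G)) :
    Cl (fun i => Q.ad (W i)) (im Q A) i := by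
  rintro j hj _ ⟨a, ha, rfl⟩ m hm
  rw [ph_smul, smul_eq_iff]
  exact cent (h j hj (mem_subgroupOf.1 ha)) hm

omit I in
/-- conversely -/
theorem of_cl_im {A : Subgroup G} (hA : A ≤ M) (hW : ∀ i, W i ≤ V) {i : ι} (h : Cl (fun i => Q.ad (W i)) (im Q A) i)
    {j : ι} (hj : j ≠ i) : A ≤ centralizer (W j : Set G) := by
  intro a ha
  rw [mem_centralizer_iff]
  intro w hw
  have h1 := h j hj (ph Q ⟨a, hA ha⟩) ⟨⟨a, hA ha⟩, ha, rfl⟩ (Q.of w (hW j hw)) hw
  rw [ph_smul, smul_eq_iff, Nrm.val_of] at h1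
  exact (mul_inv_eq_iff_eq_mul.1 h1).symm

end gen

section box

variable [Finite G] {S : Sylow 2 G} {ι : Type u} {W : ι → Subgroup G}

theorem irr_of (h : CM (S : Subgroup G) W) : ClsBlk.Irr (MZ (S : Subgroup G)) (Wd (S : Subgroup G)) W :=
  ⟨h.ne, h.sup, h.ind, h.inv, h.irr⟩

/-- every minimal exact offender has a class -/
theorem cl_EE (h : CM (S : Subgroup G) W) (Q : Nrm (MZ (S : Subgroup G)) (Wd (S : Subgroup G))) :
    ∀ D ∈ im Q '' AsmCore.EE (S : Subgroup G) (Wd (S : Subgroup G)), ∃ i, Cl (fun i => Q.ad (W i)) D i := by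
  rintro _ ⟨A, hA, rfl⟩
  obtain ⟨i, hi⟩ := h.off A hA.1 hA.2
  exact ⟨i, cl_im Q hi⟩

/-- **every class has an atom which moves `V_P`, `P` active** -/
theorem exists_atom (B : RB S) (mv : MvAct (S : Subgroup G)) (h : CM (S : Subgroup G) W) (i : ι)
    (hz : ∃ z ∈ W i ⊓ zc (S : Subgroup G), z ≠ 1) :
    ∃ P, Act (S : Subgroup G) P ∧ ∃ A ∈ EP (S : Subgroup G) P (Wd (S : Subgroup G)),
      ∀ j, j ≠ i → A ≤ centralizer (W j : Set G) := by
  obtain ⟨z, hzW, hz1⟩ := hz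
  obtain ⟨P, a, hPz⟩ := mv z hzW.2 hz1
  have hP := a.1
  obtain ⟨j, hj1, hj⟩ := h.one P a
  have hSz : (S : Subgroup G) ≤ centralizer ({z} : Set G) := fun s hs => by
    rw [mem_centralizer_singleton_iff]
    exact ((MinSimple.VModule.mem_zc.1 hzW.2).2.1 s hs)
  have hdec : P ≤ oddGen P ⊔ (S : Subgroup G) :=
    (NoFF.LinesPlug.oddGen_sup hP.le (MinSimple.Basic.not_dvd_relIndex S hP.le)).ge
  have hij : j = i := by
    by_contra hne
    apply hPz
    refine hdec.trans (sup_le ?_ hSz)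
    rw [MinSimple.VModule.oddGen_def, closure_le]
    rintro g ⟨hg, ho⟩
    have h1 := hj i (Ne.symm hne) g hg ho
    rw [SetLike.mem_coe, mem_centralizer_singleton_iff]
    exact (mem_centralizer_iff.1 h1 z hzW.1).symm
  subst hij
  obtain ⟨-, A, hA, hM, hn⟩ := a
  have hEP : A ∈ EP (S : Subgroup G) P (Wd (S : Subgroup G)) := by
    refine ⟨⟨hA, hM⟩, fun h1 => hn ?_⟩
    rw [← hP.inf_centralizer S B.ctx.char2]
    exact le_inf hA h1
  refine ⟨P, ⟨hP, A, hA, hM, hn⟩, A, hEP, ?_⟩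
  obtain ⟨k, hk⟩ := h.off A hA hM
  by_cases hkj : k = j
  · rw [hkj] at hk
    exact hk
  exfalso
  have h1 : NoFF.Basic.V A P ≤ centralizer (W j : Set G) := by
    refine NoFF.Basic.V_le fun p hp x hx => ?_
    obtain ⟨y, hy, rfl⟩ := hx
    have h2 : y ∈ centralizer (W j : Set G) := hk j (Ne.symm hkj) hy
    have h3 : p ∈ normalizer (W j : Set G) := h.inv j (le_MZ hP hp)
    change p * y * p⁻¹ ∈ centralizer (W j : Set G)
    rw [mem_centralizer_iff]
    intro w hw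
    have h4 : p⁻¹ * w * p ∈ W j := by
      have := (mem_normalizer_iff.1 (inv_mem h3) w).1 hw
      rwa [inv_inv] at this
    have h5 := mem_centralizer_iff.1 h2 _ h4
    calc w * (p * y * p⁻¹) = p * ((p⁻¹ * w * p) * y) * p⁻¹ := by group
      _ = p * y * p⁻¹ * w := by rw [h5]; group
  apply hPz
  refine hdec.trans (sup_le ?_ hSz)
  refine (odd_le_ncl hP hA hn).trans (h1.trans (centralizer_le ?_))
  exact Set.singleton_subset_iff.2 hzW.1

end box

section tv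

variable {S : Subgroup G} {M V : Subgroup G} {I : Type u} {N E : I → Subgroup G}
    {R₀ : Subgroup G} {Om : I → Type u} [∀ i, Fintype (Om i)] [∀ i, DecidableEq (Om i)] {phi : ∀ i, Finset (Om i) → G}

/-- an element of `E b` which acts as a transposition is a transvection -/
theorem transv (F : Full S M V N E R₀ Om phi) {b : I} {s : G} (hs : s ∈ E b) {x y : Om b} (hxy : x ≠ y)
    (hr : Rel (phi b) s (Equiv.swap x y)) : TvV V (phi b {x, y}) s := by
  obtain ⟨t, ht, hr', hT⟩ := F.swap b x y hxy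
  have L := F.lett b
  intro w hw
  have key : s * w * s⁻¹ = t * w * t⁻¹ := by
    obtain ⟨n, hn⟩ := F.toDec.ex_comp b hw
    obtain ⟨u, hu, e1⟩ := (L.mem n).1 hn.1
    have k : ∀ z : G, z ∈ E b → Rel (phi b) z (Equiv.swap x y) →
        z * w * z⁻¹ = phi b (u.map (Equiv.swap x y).toEmbedding) * (n⁻¹ * w) := by
      intro z hz hr
      have h3 : z * (n⁻¹ * w) * z⁻¹ = n⁻¹ * w := cent (AsmTwoC.E_Co F.toDec b hz) hn.2
      calc z * w * z⁻¹ = (z * n * z⁻¹) * (z * (n⁻¹ * w) * z⁻¹) := by group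
        _ = _ := by rw [h3, ← e1, hr u hu]
    rw [k s hs hr, k t ht hr']
  rw [key]
  exact hT w hw

end tv

end Cfsg.Agent.Omega.NOThreeL.RRed.Blk.AsmCls

end

section


/-!
# NO-3L, box R: every class is natural or a class of letters (helper283)

* `Sml` : the two facts on transvections: a minimal exact offender with `|im| < 4` lies in one block; a transvection of `S`
  generates a minimal exact offender of order 2;
* **`cover`** : a class has a member of `RRs` or a block of letters;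
* **`excl`** : not both.
-/

set_option autoImplicit false
set_option linter.unusedSectionVars false

namespace Cfsg.Agent.Omega.NOThreeL.RRed.Blk.AsmCov

open Subgroup Cfsg Cfsg.Agent.ZN Cfsg.Agent.Omega.MinPar
open Cfsg.Agent.Omega.FFThm
open Cfsg.Agent.Omega.NOThreeL.RRed.TvFin (Full TvV)
open Cfsg.Agent.Omega.KL.TwoS (Rel Lett)
open Cfsg.Agent.Omega.NOThreeL.RSplit (Nrm)
open Cfsg.Agent.Omega.NOThreeL.RRed.NS (fxd brk mem_fxd smul_eq_iff un)
open Cfsg.Agent.Omega.NOThreeL.RRed.Blk.TypesNat (XH ph ph_smul ph_eq ph_surj XH_faith)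
open Cfsg.Agent.Omega.NOThreeL.RRed.Blk.Asm
open Cfsg.Agent.Omega.NOThreeL.RRed.Blk.AsmCore (im EP ph_mem_im)
open Cfsg.Agent.Omega.NOThreeL.RRed.Blk.AsmG (Inp RRs)
open Cfsg.Agent.Omega.NOThreeL.RRed.Blk.AsmCls
open Cfsg.Agent.Omega.NOThreeL.RRed.WideTree (Act MvAct CM)
open Cfsg.Agent.Omega.NOThreeL.RTree (RB)
open Cfsg.Agent.Omega.NOThreeL.Merge (MZ le_MZ isLoc_MZ)
open scoped Pointwise

universe u v

variable {G : Type u} [Group G] [Finite G] {S : Sylow 2 G} {ι : Type u} {W : ι → Subgroup G}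
  {I : Type u} {N E : I → Subgroup G} {R₀ : Subgroup G} {Om : I → Type u} [∀ i, Fintype (Om i)] [∀ i, DecidableEq (Om i)]
  {phi : ∀ i, Finset (Om i) → G}

/-- the facts on transvections -/
structure Sml (S : Subgroup G) {M V : Subgroup G} (Q : Nrm M V) (N E : I → Subgroup G) : Prop where
  blk : ∀ A ∈ AsmCore.EE S V, Nat.card (im Q A) < 4 → ∃ b, ∃ a ∈ A, a ∈ E b ∧ a ∉ centralizer (V : Set G) ∧
    ∀ x ∈ A, ∀ v ∈ V, x * v * x⁻¹ * v⁻¹ ∈ N b
  atom : ∀ s ∈ S, ∀ c ∈ V, TvV V c s → s ∉ centralizer (V : Set G) →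
    zpowers s ∈ AsmCore.EE S V ∧ Nat.card (im Q (zpowers s)) = 2

/-- `W i ⊓ Z ≠ 1` -/
theorem exists_z (B : RB S) (h : CM (S : Subgroup G) W) (i : ι) : ∃ z ∈ W i ⊓ zc (S : Subgroup G), z ≠ 1 := by
  have hL := isLoc_MZ B.ctx B.full B.data.noff
  have hle : W i ≤ Wd (S : Subgroup G) := (irr_of h).le i
  have hWS : W i ≤ (S : Subgroup G) := fun x hx => WS B (hle hx)
  obtain ⟨w, hw, hw1, hfix⟩ := exists_fix_of S.isPGroup' hWS (hL.le.trans (h.inv i)) (h.ne i)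
  exact ⟨w, ⟨hw, zc_of_fix B (hle hw) hfix⟩, hw1⟩

/-- **a class has a member of `RRs` or a block of letters** -/
theorem cover (B : RB S) (mv : MvAct (S : Subgroup G)) (h : CM (S : Subgroup G) W)
    (Q : Nrm (MZ (S : Subgroup G)) (Wd (S : Subgroup G)))
    (F : Full (S : Subgroup G) (MZ (S : Subgroup G)) (Wd (S : Subgroup G)) N E R₀ Om phi)
    (sm : Sml (S : Subgroup G) Q N E) (i : ι) :
    (∃ D : Subgroup (XH Q), D ∈ RRs S (MZ (S : Subgroup G)) Q ∧ Cl (fun i => Q.ad (W i)) D i) ∨ ∃ b, N b ≤ W i := by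
  obtain ⟨P, a, A, hA, hcl⟩ := exists_atom B mv h i (exists_z B h i)
  by_cases h4 : 4 ≤ Nat.card (im Q A)
  · exact Or.inl ⟨im Q A, ⟨h4, P, a.1, le_MZ a.1, A, hA, rfl⟩, cl_im Q hcl⟩
  · right
    obtain ⟨b, x, hxA, hxE, hxV, hb⟩ := sm.blk A hA.1 (by omega)
    obtain ⟨k, hk⟩ := ClsBlk.exists_le (irr_of h) F b
    refine ⟨b, ?_⟩
    by_cases hki : k = i
    · rwa [← hki]
    exfalso
    apply hxV
    have hI := irr_of h
    have key : ∀ j, ∀ w ∈ W j, x * w * x⁻¹ = w := by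
      intro j w hw
      by_cases hj : j = i
      · subst hj
        have h1 : x * w * x⁻¹ * w⁻¹ ∈ W k ⊓ W j := by
          refine mem_inf.2 ⟨hk (hb x hxA w (hI.le j hw)), (W j).mul_mem ?_ ((W j).inv_mem hw)⟩
          exact (mem_normalizer_iff.1 (h.inv j (F.EL b hxE)) w).1 hw
        rw [hI.inf_bot (Ne.symm hki), mem_bot] at h1
        exact mul_inv_eq_one.1 h1
      · exact cent (hcl j hj hxA) hw
    have h2 : Wd (S : Subgroup G) ≤ centralizer ({x} : Set G) := by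
      rw [← h.sup]
      refine iSup_le fun j w hw => ?_
      rw [mem_centralizer_singleton_iff]
      exact (mul_inv_eq_iff_eq_mul.1 (key j w hw)).symm
    rw [mem_centralizer_iff]
    intro v hv
    exact mem_centralizer_singleton_iff.1 (h2 hv)

/-- the class of a block is the class of its transpositions -/
theorem atom_of (h : CM (S : Subgroup G) W) (Q : Nrm (MZ (S : Subgroup G)) (Wd (S : Subgroup G)))
    (F : Full (S : Subgroup G) (MZ (S : Subgroup G)) (Wd (S : Subgroup G)) N E R₀ Om phi)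
    (sm : Sml (S : Subgroup G) Q N E) {b : I} {i : ι} (hb : N b ≤ W i) :
    ∃ s ∈ (S : Subgroup G) ⊓ E b, zpowers s ∈ AsmCore.EE (S : Subgroup G) (Wd (S : Subgroup G)) ∧
      Nat.card (im Q (zpowers s)) = 2 ∧ Cl (fun i => Q.ad (W i)) (im Q (zpowers s)) i := by
  obtain ⟨s, hs, x, y, hxy, hr⟩ := AsmTwo.exists_tr F b
  have L := F.lett b
  have hT := transv F hs.2 hxy hr
  have hc : phi b {x, y} ∈ N b := (L.mem _).2 ⟨_, by rw [Finset.card_pair hxy]; exact even_two, rfl⟩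
  have hne : s ∉ centralizer (Wd (S : Subgroup G) : Set G) := by
    intro hsc
    have h1 : Rel (phi b) s 1 := AsmTwoC.rel_one L ((centralizer_le (F.NU b)) hsc)
    exact hxy (Equiv.swap_eq_one_iff.1 (L.unique (F.three b) hr h1))
  obtain ⟨h1, h2⟩ := sm.atom s hs.1 _ (F.NU b hc) hT hne
  refine ⟨s, hs, h1, h2, cl_im Q fun j hj => ?_⟩
  rw [zpowers_le]
  rw [mem_centralizer_iff]
  intro w hw
  have hI := irr_of h
  have h3 : s * w * s⁻¹ * w⁻¹ ∈ W i ⊓ W j := by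
    refine mem_inf.2 ⟨hb ?_, (W j).mul_mem ((mem_normalizer_iff.1 (h.inv j (F.EL b hs.2)) w).1 hw) ((W j).inv_mem hw)⟩
    rcases hT w (hI.le j hw) with e | e
    · rw [e, mul_inv_cancel]; exact one_mem _
    · rw [e]
      have h4 := F.toDec.ucomm (hI.le j hw) (F.NU b hc)
      rw [h4, mul_inv_cancel_right]
      exact hc
  rw [hI.inf_bot hj, mem_bot] at h3
  exact (mul_inv_eq_iff_eq_mul.1 (mul_inv_eq_one.1 h3)).symm

/-- **a class with a natural block has no block of letters** -/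
theorem excl (h : CM (S : Subgroup G) W) (Q : Nrm (MZ (S : Subgroup G)) (Wd (S : Subgroup G)))
    (F : Full (S : Subgroup G) (MZ (S : Subgroup G)) (Wd (S : Subgroup G)) N E R₀ Om phi)
    (sm : Sml (S : Subgroup G) Q N E) (h2 : ∀ v : Q.Mod, v + v = 0) {FF₁ : Set (Subgroup (XH Q))}
    {N₁ K₁ : Subgroup (XH Q) → AddSubgroup Q.Mod} (h₁ : Fam (im Q (S : Subgroup G)) FF₁ N₁ K₁)
    (hGB : ∀ D ∈ FF₁, GB (im Q '' AsmCore.EE (S : Subgroup G) (Wd (S : Subgroup G))) D (N₁ D) (K₁ D))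
    (hsub : FF₁ ⊆ im Q '' AsmCore.EE (S : Subgroup G) (Wd (S : Subgroup G)))
    (h4 : ∀ D ∈ FF₁, 4 ≤ Nat.card D) {D : Subgroup (XH Q)} (hD : D ∈ FF₁) {i : ι}
    (hi : Cl (fun i => Q.ad (W i)) D i) {b : I} (hb : N b ≤ W i) : False := by
  obtain ⟨s, -, h5, h6, h7⟩ := atom_of h Q F sm hb
  have hC := cls_of (irr_of h) Q
  refine hC.disj h2 (fun x hx => XH_faith Q x hx) h₁ hGB h4 (fun D hD => cl_EE h Q D (hsub hD)) (D' := im Q (zpowers s))
    ⟨_, h5, rfl⟩ (by omega) ?_ hD hi h7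
  intro h0
  rw [h0, card_bot] at h6
  omega

end Cfsg.Agent.Omega.NOThreeL.RRed.Blk.AsmCov

end

section


/-!
# NO-3L, box R: the inputs `hn` and `hln` of `nbs_of_fam` for natural blocks and blocks of three letters

* `two_le_rt` : a 2-group which contains the root group contains no other element of `clo up lo`;
* `small_uniq` : `|D| = 2`;  `Fam.conj_small`;
* **`hln_mix`** : `hln` for `RRs ∪ FF₂`;
* **`hn_mix`** : `hn` for `RRs ∪ FF₂`.
-/

set_option autoImplicit false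
set_option linter.unusedSectionVars false

namespace Cfsg.Agent.Omega.NOThreeL.RRed.Blk.MixLn

open Subgroup Cfsg Cfsg.Agent.ZN Cfsg.Agent.Omega.MinPar
open Cfsg.Agent.Lib
open Cfsg.Agent.Omega.FFThm (NatKM NoOverM)
open Cfsg.Agent.Omega.NOThreeL.RSplit (Nrm)
open Cfsg.Agent.Omega.NOThreeL.RRed.NS (fxd brk mem_fxd un conj_eq_cj)
open Cfsg.Agent.Omega.NOThreeL.RRed.Blk.TypesNat (XH ph ph_smul XH_faith ph_eq ph_surj no_XH)
open Cfsg.Agent.Omega.NOThreeL.RRed.Blk.TypesGam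
open Cfsg.Agent.Omega.NOThreeL.RRed.Blk.TypesClo
open Cfsg.Agent.Omega.NOThreeL.RRed.Blk.Asm
open Cfsg.Agent.Omega.NOThreeL.RRed.Blk.AsmG (Inp RRs)
open Cfsg.Agent.Omega.NOThreeL.RRed.Blk.AsmSL (SLA sla_of_clo sla_up sla_uniq mem_rt_of mem_clo_iff)
open Cfsg.Agent.Omega.NOThreeL.RRed.Blk.AsmCore (im EP KP im_cj mem_im ph_mem_im)
open Cfsg.Agent.Omega.NOThreeL.RRed.Blk.AsmOneBlk (EB nat_fam conj_rrs hn_rrs rrs_sub card_im_conj normS_le_Wd)
open Cfsg.Agent.Omega.NOThreeL.RRed.WideTree (Act MvAct CM Wide)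
open Cfsg.Agent.Omega.NOThreeL.RTree (RB)
open Cfsg.Agent.Omega.NOThreeL.Merge (MZ le_MZ isLoc_MZ)
open Cfsg.Agent.Omega.NOThreeL.RRed.TvFin (Full)
open scoped Pointwise

universe u v w

section mat

variable {F : Type w} [Field F]

/-- an element of trace 1 has order 3 -/
theorem cube_one (h2 : ∀ x : F, x + x = 0) (M : Matrix.SpecialLinearGroup (Fin 2) F)
    (ht : M.1 0 0 + M.1 1 1 = 1) : M * M * M = 1 := by
  have hd : M.1 0 0 * M.1 1 1 - M.1 0 1 * M.1 1 0 = 1 := SL2Mat.det_eq M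
  set a := M.1 0 0
  set b := M.1 0 1
  set c := M.1 1 0
  set d := M.1 1 1
  have hn : ∀ x : F, -x = x := fun x => neg_eq_of_add_eq_zero_left (h2 x)
  have hd' : d = 1 + a := by
    have := eq_sub_of_add_eq' ht
    rw [this, sub_eq_add_neg, hn]
  have hbc : b * c = 1 + a + a * a := by
    have h3 : b * c = a * d - 1 := by rw [← hd]; ring
    rw [h3, hd', sub_eq_add_neg, hn]
    ring
  have e : ∀ i j, (M * M * M).1 i j = (M.1 * M.1 * M.1) i j := fun i j => rfl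
  refine Matrix.SpecialLinearGroup.ext _ _ fun i j => ?_
  rw [e]
  have hM : M.1 = !![a, b; c, d] := by
    ext i j
    fin_cases i <;> fin_cases j <;> rfl
  rw [hM, hd']
  have two : (2 : F) = 0 := by rw [← one_add_one_eq_two, h2]
  fin_cases i <;> fin_cases j
  · simp [Matrix.mul_apply, Fin.sum_univ_two]
    linear_combination (2 * a + 1 + a) * hbc + (2 * a + 2 * a ^ 2 + 2 * a ^ 3) * two
  · simp [Matrix.mul_apply, Fin.sum_univ_two]
    linear_combination b * hbc + (2 * a * b + 2 * a ^ 2 * b + b) * two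
  · simp [Matrix.mul_apply, Fin.sum_univ_two]
    linear_combination c * hbc + (2 * a * c + 2 * a ^ 2 * c + c) * two
  · simp [Matrix.mul_apply, Fin.sum_univ_two]
    linear_combination (3 * a + 2) * hbc + (4 * a + 4 * a ^ 2 + 2 * a ^ 3 + 1) * two

end mat

section bk

variable {X : Type u} {V : Type v} [Group X] [AddCommGroup V] [DistribMulAction X V] [Finite V]
  {F : Type w} [Field F] {e f : F →+ V} {C : AddSubgroup V} {up lo : F → X}

/-- **A 2-group which contains the root group contains no other element of `clo up lo`.** -/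
theorem two_le_rt (h : Bk e f C up lo) (hf : ∀ x : X, (∀ v : V, x • v = v) → x = 1) (h2 : ∀ v : V, v + v = 0)
    {S : Subgroup X} (hS : IsPGroup 2 S) (hD : rt up ≤ S) {x : X} (hx : x ∈ S) (hxc : x ∈ clo up lo) : x ∈ rt up := by
  obtain ⟨B, hB⟩ := sla_of_clo h hxc
  have two := h.two h2
  have p2 : ∀ y ∈ S, ∃ n, y ^ 2 ^ n = 1 := fun y hy => by
    obtain ⟨n, hn⟩ := hS ⟨y, hy⟩
    exact ⟨n, congrArg Subtype.val hn⟩
  by_cases hc : B.1 1 0 = 0
  · refine mem_rt_of h hf h2 hxc (p2 x hx) ⟨B.1 0 0, ?_⟩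
    have h1 := hB.act ![1, 0]
    simp [Matrix.mulVec, dotProduct, Fin.sum_univ_two, hc] at h1
    exact h1
  · exfalso
    set t : F := (1 + B.1 0 0 + B.1 1 1) / B.1 1 0 with ht
    have hup := sla_up h t
    have hy := hB.mul hup
    have htr : (B * SL2Mat.up t).1 0 0 + (B * SL2Mat.up t).1 1 1 = 1 := by
      have e1 : (B * SL2Mat.up t).1 0 0 + (B * SL2Mat.up t).1 1 1 = B.1 0 0 + (B.1 1 0 * t + B.1 1 1) := by
        have e2 : (B * SL2Mat.up t).1 = B.1 * (SL2Mat.up t).1 := rfl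
        rw [e2]
        simp [Matrix.mul_apply, Fin.sum_univ_two, SL2Mat.up, SL2Mat.mk]
      rw [e1, ht, mul_div_cancel₀ _ hc]
      have e3 : B.1 0 0 + (1 + B.1 0 0 + B.1 1 1 + B.1 1 1) = 1 + (B.1 0 0 + B.1 0 0) + (B.1 1 1 + B.1 1 1) := by ring
      rw [e3, two, two, add_zero, add_zero]
    have h3 := cube_one two _ htr
    have h4 : (x * up t) * (x * up t) * (x * up t) = 1 := by
      have h5 := (hy.mul hy).mul hy
      rw [h3] at h5
      exact sla_uniq h hf h5 SLA.one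
    obtain ⟨n, hn⟩ := p2 _ (mul_mem hx (hD (up_mem t)))
    have h5 : x * up t = 1 := by
      have h6 : orderOf (x * up t) ∣ 3 := orderOf_dvd_of_pow_eq_one (by rw [pow_three', h4])
      have h7 : orderOf (x * up t) ∣ 2 ^ n := orderOf_dvd_of_pow_eq_one hn
      have h8 : Nat.Coprime 3 (2 ^ n) := Nat.Coprime.pow_right n (by decide)
      exact orderOf_eq_one_iff.1 (Nat.eq_one_of_dvd_coprimes h8 h6 h7)
    apply hc
    have h6 := hy.act ![1, 0]
    rw [h5, one_smul] at h6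
    have e2 : (B * SL2Mat.up t).1 = B.1 * (SL2Mat.up t).1 := rfl
    rw [e2] at h6
    simp [Matrix.mul_apply, Matrix.mulVec, dotProduct, Fin.sum_univ_two, SL2Mat.up, SL2Mat.mk] at h6
    have h7 : e 1 + f 0 = e (B.1 0 0) + f (B.1 1 0) := by rw [map_zero, add_zero]; exact h6
    exact (AsmSL.vec_uniq h h7).2.symm

/-- **`|D| = 2`** -/
theorem small_uniq {D : Subgroup X} {N C : AddSubgroup V} (h : NB D N C)
    (hf : ∀ x : X, (∀ v : V, x • v = v) → x = 1) (h2 : ∀ v : V, v + v = 0) (h3 : Nat.card D = 2) {S : Subgroup X}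
    (hS : IsPGroup 2 S) (hD : D ≤ S) {x : X} (hx : x ∈ S) (hC : ∀ c ∈ C, x • c = c) (hN : ∀ n ∈ N, x • n ∈ N) :
    x ∈ D := by
  obtain ⟨F, _, _, e, f, up, lo, hB, rfl, rfl⟩ := h.ex
  have hF : Nat.card F = 2 := by rw [← hB.card_rt h2 hf]; exact h3
  exact two_le_rt hB hf h2 hS hD hx (AsmT.clo_two hB hf h2 hF hC hN)

/-- the complement is the product of the other blocks -/
theorem C_le {S : Subgroup X} {FF : Set (Subgroup X)} {N C : Subgroup X → AddSubgroup V} (H : Fam S FF N C)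
    (hsup : ⨆ D ∈ FF, N D = ⊤) {D : Subgroup X} (hD : D ∈ FF) :
    C D ≤ ⨆ D' : {D' // D' ∈ FF ∧ D' ≠ D}, N D' := by
  intro m hm
  have h1 : (⊤ : AddSubgroup V) ≤ N D ⊔ ⨆ D' : {D' // D' ∈ FF ∧ D' ≠ D}, N D' := by
    rw [← hsup]
    refine iSup₂_le fun D' hD' => ?_
    by_cases e1 : D' = D
    · rw [e1]; exact le_sup_left
    · exact (le_iSup (fun D' : {D' // D' ∈ FF ∧ D' ≠ D} => N D') ⟨D', hD', e1⟩).trans le_sup_right
  obtain ⟨n, hn, r, hr, rfl⟩ := AddSubgroup.mem_sup.1 (h1 (AddSubgroup.mem_top m))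
  have h3 : r ∈ C D := by
    have h4 : (⨆ D' : {D' // D' ∈ FF ∧ D' ≠ D}, N D') ≤ C D := iSup_le fun D' => H.ind D hD D' D'.2.1 D'.2.2
    exact h4 hr
  have h4 : n ∈ C D := by
    have h5 := sub_mem hm h3
    rwa [add_sub_cancel_right] at h5
  rw [(H.nb D hD).inf_bot hn h4, zero_add]
  exact hr

/-- **The conjugates of the small root groups** -/
theorem conj_small {S : Subgroup X} {FF : Set (Subgroup X)} {N C : Subgroup X → AddSubgroup V} (H : Fam S FF N C)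
    (hf : ∀ x : X, (∀ v : V, x • v = v) → x = 1) (h2 : ∀ v : V, v + v = 0) (hS : IsPGroup 2 S)
    (hsup : ⨆ D ∈ FF, N D = ⊤) {D : Subgroup X} (hD : D ∈ FF) (h3 : Nat.card D = 2) {g : X}
    (hg : MulAut.conj g • D ≤ S) : MulAut.conj g • D ∈ FF := by
  obtain ⟨D', hD', hc, h1⟩ := H.perm g D hD
  have hfin : Finite D := Nat.finite_of_card_ne_zero (by omega)
  have hfin' : Finite D' := Nat.finite_of_card_ne_zero (by omega)
  have hle : MulAut.conj g • D ≤ D' := by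
    intro x hx
    refine small_uniq (H.nb D' hD') hf h2 (hc.trans h3) hS (H.le D' hD') (hg hx) (fun c hc' => ?_) fun n hn => ?_
    · have h5 := C_le H hsup hD' hc'
      have h6 : (⨆ D1 : {D1 // D1 ∈ FF ∧ D1 ≠ D'}, N D1) ≤ (fxd (MulAut.conj g • D) : AddSubgroup V) := by
        refine iSup_le fun D1 m hm => ?_
        rw [mem_fxd]
        intro y hy
        obtain ⟨D3, hD3, -, h4⟩ := H.perm g⁻¹ D1 D1.2.1
        have h7 : D3 ≠ D := by
          rintro rfl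
          apply D1.2.2
          refine H.inj D1.2.1 hD' ?_
          ext n
          rw [h4 n, h1 (g⁻¹ • n), smul_inv_smul]
        have h8 := H.le_EX hD (NS.mem_conj.1 hy) D3 hD3 h7 _ ((h4 m).1 hm)
        rw [mul_smul, mul_smul, smul_inv_smul] at h8
        exact smul_left_cancel _ h8
      exact mem_fxd.1 (h6 h5) x hx
    · have h5 := NS.mem_conj.1 hx
      have h6 : g⁻¹ • n ∈ N D := (h1 _).2 (by rwa [smul_inv_smul])
      have h7 : (g⁻¹ * x * g) • (g⁻¹ • n) ∈ N D := by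
        have h8 := (H.EX_le hD (H.le_EX hD h5)) D hD (g⁻¹ • n)
        exact h8.1 h6
      have h8 := (h1 _).1 h7
      rw [smul_smul, smul_smul] at h8
      have e1 : g * (g⁻¹ * x * g) * g⁻¹ = x := by group
      rwa [e1] at h8
  have he : MulAut.conj g • D = D' := by
    refine Subgroup.eq_of_le_of_card_ge hle ?_
    rw [hc, conj_ne_bot]
  rw [he]
  exact hD'

end bk

section box

variable {G : Type u} [Group G] [Finite G] {S : Sylow 2 G}

/-- **`hln`** -/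
theorem hln_mix (B : RB S) (mv : MvAct (S : Subgroup G))
    (no : NoOverM (zl (S : Subgroup G) (MZ (S : Subgroup G))) (MZ (S : Subgroup G)))
    (Q : Nrm (MZ (S : Subgroup G)) (zl (S : Subgroup G) (MZ (S : Subgroup G))))
    {FF₂ : Set (Subgroup (XH Q))} {N C : Subgroup (XH Q) → AddSubgroup Q.Mod}
    (H : Fam (im Q (S : Subgroup G)) (RRs S (MZ (S : Subgroup G)) Q ∪ FF₂) N C)
    (hsup : ⨆ D ∈ RRs S (MZ (S : Subgroup G)) Q ∪ FF₂, N D = ⊤) (hc : ∀ D ∈ FF₂, Nat.card D = 2) (g : XH Q)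
    {D : Subgroup (XH Q)} (hD : D ∈ RRs S (MZ (S : Subgroup G)) Q ∪ FF₂) :
    ∃ D' ∈ RRs S (MZ (S : Subgroup G)) Q ∪ FF₂, ∃ x ∈ EX (RRs S (MZ (S : Subgroup G)) Q ∪ FF₂) N D',
      (∀ m, m ∈ N D ↔ g • m ∈ N D') ∧ MulAut.conj g • D = MulAut.conj x • D' := by
  have hSL : (S : Subgroup G) ≤ MZ (S : Subgroup G) := (isLoc_MZ B.ctx B.full B.data.noff).le
  obtain ⟨hI, -⟩ := nat_fam B mv no Q
  have hS2 : IsPGroup 2 (im Q (S : Subgroup G)) := (TypesNat.imS Q S hSL).isPGroup'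
  refine Fam.ln (TypesNat.imS Q S hSL) (EE := RRs S (MZ (S : Subgroup G)) Q ∪ FF₂) H
    (fun D hD => ⟨H.nb D hD, fun A hA hne a ha m hm => ?_⟩) le_rfl (fun A hA g hg => ?_) g hD
  · exact mem_fxd.1 ((H.nb A hA).C_le (H.ind A hA D hD hne.symm hm)) a ha
  · rcases hA with hA | hA
    · exact Or.inl (conj_rrs B mv no Q hA hg)
    · exact conj_small H hI.hf hI.two hS2 hsup (Or.inr hA) (hc A hA) hg

end box

section tv

variable {G : Type u} [Group G] [Finite G] {S : Sylow 2 G} {I : Type u} [Finite I] {N E : I → Subgroup G}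
  {R₀ : Subgroup G} {Om : I → Type u} [∀ i, Fintype (Om i)] [∀ i, DecidableEq (Om i)] {phi : ∀ i, Finset (Om i) → G}
  (F : Full (S : Subgroup G) (MZ (S : Subgroup G)) (zl (S : Subgroup G) (MZ (S : Subgroup G))) N E R₀ Om phi)
include F

/-- the complements of the blocks of letters -/
theorem co_conj {d : G} (hM : d ∈ normalizer (MZ (S : Subgroup G) : Set G))
    (hV : d ∈ normalizer (zl (S : Subgroup G) (MZ (S : Subgroup G)) : Set G)) {b c : I}
    (h : MulAut.conj d • N b = N c) {x : G} (hx : x ∈ Co N R₀ c) : d⁻¹ * x * d ∈ Co N R₀ b := by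
  have hM' := inv_mem hM
  have hV' := inv_mem hV
  have h1 : Co N R₀ c ≤ (Co N R₀ b).comap (MulAut.conj d⁻¹).toMonoidHom := by
    refine sup_le (iSup_le fun c' y hy => ?_) fun y hy => ?_
    · rw [mem_comap]
      change d⁻¹ * y * d⁻¹⁻¹ ∈ _
      obtain ⟨b', hb'⟩ := TvTr.perm_norm F hM' hV' c'
      have h5 : d⁻¹ * y * d⁻¹⁻¹ ∈ N b' := by
        rw [← hb']
        exact ⟨y, hy, rfl⟩
      refine (F.toDec.N_le_Co ?_) h5
      rintro rfl
      apply c'.2
      apply F.toDec.Ninj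
      rw [← h, ← hb', ← mul_smul, ← map_mul, mul_inv_cancel, map_one, one_smul]
    · rw [mem_comap]
      change d⁻¹ * y * d⁻¹⁻¹ ∈ _
      have h5 := (mem_normalizer_iff.1 (TvTr.norm_R F hM' hV') y).1 hy
      exact (le_sup_right : R₀ ≤ Co N R₀ b) h5
  have h3 := h1 hx
  rw [mem_comap] at h3
  have h5 : d⁻¹ * x * d⁻¹⁻¹ ∈ Co N R₀ b := h3
  rwa [inv_inv] at h5

/-- **`hn` for the blocks of three letters** -/
theorem hn_two (hSL : (S : Subgroup G) ≤ MZ (S : Subgroup G))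
    (Q : Nrm (MZ (S : Subgroup G)) (zl (S : Subgroup G) (MZ (S : Subgroup G)))) (h2 : ∀ v : Q.Mod, v + v = 0)
    (hc : ∀ b, Fintype.card (Om b) = 3) {g : G} (hg : g ∈ normalizer ((S : Subgroup G) : Set G)) (b : I) :
    ∃ c, MulAut.conj g • N b = N c ∧
      im Q (MulAut.conj g • ((S : Subgroup G) ⊓ E b)) = im Q ((S : Subgroup G) ⊓ E c) := by
  have hM := CI.norm_MZ hg
  have hV := normS_le_Wd hg
  obtain ⟨c, hcb⟩ := TvTr.perm_norm F hM hV b
  refine ⟨c, hcb, ?_⟩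
  have hS2 : IsPGroup 2 (im Q (S : Subgroup G)) := (TypesNat.imS Q S hSL).isPGroup'
  have hA : MulAut.conj g • ((S : Subgroup G) ⊓ E b) ≤ (S : Subgroup G) := by
    intro x hx
    have h1 := NS.mem_conj.1 hx
    have h3 := (mem_normalizer_iff.1 hg _).1 h1.1
    have e : g * (g⁻¹ * x * g) * g⁻¹ = x := by group
    rwa [e] at h3
  have hle : im Q (MulAut.conj g • ((S : Subgroup G) ⊓ E b)) ≤ im Q ((S : Subgroup G) ⊓ E c) := by
    rintro _ ⟨x, hx, rfl⟩
    have hx' : g⁻¹ * (x : G) * g ∈ (S : Subgroup G) ⊓ E b := NS.mem_conj.1 hx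
    refine small_uniq (AsmTwo.nb F Q (hc c)) (fun x hx => XH_faith Q x hx) h2 (AsmTwo.card_im F Q (hc c) h2) hS2
      (AsmCore.im_mono Q inf_le_left) (ph_mem_im Q (hA hx)) (fun m hm => ?_) fun n hn => ?_
    · rw [ph_smul, NS.smul_eq_iff]
      have h3 := co_conj F hM hV hcb hm
      have h5 := mem_centralizer_iff.1 (LeftThree.cent_Co F.toDec b hx'.2) _ h3
      have e1 : (x : G) * Q.val m * (x : G)⁻¹ = g * ((g⁻¹ * x * g) * (g⁻¹ * Q.val m * g)) * (g⁻¹ * x * g)⁻¹ * g⁻¹ := by group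
      rw [e1, ← h5]
      group
    · rw [ph_smul, Nrm.mem_ad, Nrm.val_smul]
      have h3 : g⁻¹ * Q.val n * g ∈ N b := by
        have h5 : Q.val n ∈ MulAut.conj g • N b := by rw [hcb]; exact hn
        exact NS.mem_conj.1 h5
      have h5 := (mem_normalizer_iff.1 (F.EN b hx'.2) _).1 h3
      rw [← hcb, NS.mem_conj]
      have e1 : g⁻¹ * ((x : G) * Q.val n * (x : G)⁻¹) * g = (g⁻¹ * x * g) * (g⁻¹ * Q.val n * g) * (g⁻¹ * x * g)⁻¹ := by
        group
      rw [e1]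
      exact h5
  refine Subgroup.eq_of_le_of_card_ge hle ?_
  have e1 : Nat.card (im Q (MulAut.conj g • ((S : Subgroup G) ⊓ E b))) = Nat.card (im Q ((S : Subgroup G) ⊓ E b)) :=
    card_im_conj hSL hg inf_le_left
  rw [e1]
  exact ((AsmTwo.card_im F Q (hc c) h2).trans (AsmTwo.card_im F Q (hc b) h2).symm).le

/-- **`hn`** -/
theorem hn_mix (hSL : (S : Subgroup G) ≤ MZ (S : Subgroup G))
    (Q : Nrm (MZ (S : Subgroup G)) (zl (S : Subgroup G) (MZ (S : Subgroup G)))) (h2 : ∀ v : Q.Mod, v + v = 0)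
    (hc : ∀ b, Fintype.card (Om b) = 3) {g : G} (hg : g ∈ normalizer ((S : Subgroup G) : Set G))
    {D : Subgroup (XH Q)} (hD : D ∈ RRs S (MZ (S : Subgroup G)) Q ∪ AsmTwo.FF S E Q) :
    ∃ A ≤ (S : Subgroup G), im Q A = D ∧ im Q (MulAut.conj g • A) ∈ RRs S (MZ (S : Subgroup G)) Q ∪ AsmTwo.FF S E Q := by
  rcases hD with hD | ⟨b, rfl⟩
  · obtain ⟨A, h1, h3, h5⟩ := hn_rrs hSL hg hD
    exact ⟨A, h1, h3, Or.inl h5⟩
  · obtain ⟨c, -, h3⟩ := hn_two F hSL Q h2 hc hg b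
    exact ⟨_, inf_le_left, rfl, Or.inr ⟨c, h3.symm⟩⟩

end tv

end Cfsg.Agent.Omega.NOThreeL.RRed.Blk.MixLn

end

section


/-!
# NO-3L, box R: the `𝔽₂`-blocks with three letters, normality (fields `permN`, `lnY` of `NBs`)

`F : Full S M V N E R₀ Om phi`, `|Ω_b| = 3`.

* `im_zpow` : `im Q ⟨s⟩ = im Q (S ⊓ E b)`, if `s ∈ S ⊓ E b` is a transposition;
* `of_tv` : a transvection `t ∈ S` generates one of the root groups;
* `hn_gen`, **`hn_two`** : `N_G(S)` permutes the root groups;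
* `im_inf` : `im Q S ⊓ im Q (E c) = im Q (S ⊓ E c)`;
* **`conj_two`** : `D ∈ FF`, `D^g ≤ im Q S` ⟹ `D^g ∈ FF`.
-/

set_option autoImplicit false
set_option linter.unusedSectionVars false

namespace Cfsg.Agent.Omega.NOThreeL.RRed.Blk.AsmTwo

open Subgroup Cfsg
open Cfsg.Agent.Omega.NOThreeL.RRed (Wd)
open Cfsg.Agent.Omega.NOThreeL.Merge (MZ)
open Cfsg.Agent.Omega.NOThreeL.RRed.TvFin (Full TvV)
open Cfsg.Agent.Omega.NOThreeL.RRed.Blk
open Cfsg.Agent.Omega.NOThreeL.RRed.Blk.AsmTwoC (smul_of_norm rel_one E_Co)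
open Cfsg.Agent.Omega.KL.TwoS (Rel Lett)
open Cfsg.Agent.Omega.NOThreeL.RSplit (Nrm)
open Cfsg.Agent.Omega.NOThreeL.RRed.Blk.TypesNat (XH ph im mem_im im_conj im_mono ph_smul ph_eq ph_surj)
open Cfsg.Agent.Omega.NOThreeL.RRed.NS (smul_eq_iff)
open scoped Pointwise

universe u

variable {G : Type u} [Group G] [Finite G] {S : Sylow 2 G} {M V : Subgroup G} {I : Type u} {N E : I → Subgroup G}
    {R₀ : Subgroup G} {Om : I → Type u} [∀ i, Fintype (Om i)] [∀ i, DecidableEq (Om i)] {phi : ∀ i, Finset (Om i) → G}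
    (F : Full (S : Subgroup G) M V N E R₀ Om phi) (Q : Nrm M V)
include F

/-- `im Q ⟨s⟩ = im Q (S ⊓ E b)` -/
theorem im_zpow {b : I} (hc : Fintype.card (Om b) = 3) {s : G} (hs : s ∈ (S : Subgroup G) ⊓ E b) {x y : Om b}
    (hxy : x ≠ y) (hr : Rel (phi b) s (Equiv.swap x y)) :
    im Q (zpowers s) = im Q ((S : Subgroup G) ⊓ E b) := by
  refine le_antisymm (im_mono ?_) ?_
  · rw [zpowers_le]; exact hs
  · intro w hw
    obtain ⟨t, ht, rfl⟩ := mem_im.1 hw
    have hsM : s ∈ M := F.EL b hs.2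
    rcases two_or F hc hs hxy hr ht with h | h
    · have h1 : ph Q t = 1 := by
        rw [← map_one (ph Q)]
        exact ph_eq_of_rel F Q ht.2 (one_mem _) h Rel.one
      rw [h1]
      exact one_mem _
    · have h1 : ph Q t = ph Q ⟨s, hsM⟩ := ph_eq_of_rel F Q ht.2 hs.2 h hr
      rw [h1]
      exact mem_im.2 ⟨⟨s, hsM⟩, mem_zpowers s, rfl⟩

/-- a transvection of `S` generates a root group -/
theorem of_tv (hc : ∀ b, Fintype.card (Om b) = 3) {t c : G} (ht : t ∈ (S : Subgroup G)) (hcV : c ∈ V)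
    (hT : TvV V c t) (hne : t ∉ centralizer (V : Set G)) :
    ∃ b, t ∈ E b ∧ im Q (zpowers t) = im Q ((S : Subgroup G) ⊓ E b) := by
  obtain ⟨b, hb, x, y, hxy, -, hr⟩ := F.tvs t (F.SL ht) c hcV hT hne
  exact ⟨b, hb, im_zpow F Q (hc b) ⟨ht, hb⟩ hxy hr⟩

/-- `g ∈ N(S) ∩ N(V)` permutes the root groups -/
theorem hn_gen (hc : ∀ b, Fintype.card (Om b) = 3) {g : G} (hg : g ∈ normalizer ((S : Subgroup G) : Set G))
    (hV : g ∈ normalizer (V : Set G)) {D : Subgroup (XH Q)} (hD : D ∈ FF S E Q) :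
    ∃ A ≤ (S : Subgroup G), im Q A = D ∧ im Q (MulAut.conj g • A) ∈ FF S E Q := by
  obtain ⟨b, rfl⟩ := hD
  obtain ⟨s, hs, x, y, hxy, hr⟩ := exists_tr F b
  have L := F.lett b
  have hT : TvV V (phi b {x, y}) s := AsmCls.transv F hs.2 hxy hr
  have hcV : phi b {x, y} ∈ V := F.toDec.NU b ((L.mem _).2 ⟨_, by rw [Finset.card_pair hxy]; exact even_two, rfl⟩)
  have hsne : s ∉ centralizer (V : Set G) := by
    intro h
    have h1 : Rel (phi b) s 1 := rel_one L (centralizer_le (F.toDec.NU b) h)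
    exact hxy (Equiv.swap_eq_one_iff.1 (L.unique (F.three b) hr h1))
  refine ⟨zpowers s, ?_, im_zpow F Q (hc b) hs hxy hr, ?_⟩
  · rw [zpowers_le]; exact hs.1
  have hgs : g * s * g⁻¹ ∈ (S : Subgroup G) := (mem_normalizer_iff.1 hg s).1 hs.1
  have hgc : g * phi b {x, y} * g⁻¹ ∈ V := (mem_normalizer_iff.1 hV _).1 hcV
  have hgT : TvV V (g * phi b {x, y} * g⁻¹) (g * s * g⁻¹) := by
    intro w hw
    have h1 : g⁻¹ * w * g ∈ V := by
      rw [mem_normalizer_iff.1 hV]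
      have e : g * (g⁻¹ * w * g) * g⁻¹ = w := by group
      rwa [e]
    have e : g * s * g⁻¹ * w * (g * s * g⁻¹)⁻¹ = g * (s * (g⁻¹ * w * g) * s⁻¹) * g⁻¹ := by group
    rcases hT _ h1 with h2 | h2
    · left
      rw [e, h2]; group
    · right
      rw [e, h2]; group
  have hgne : g * s * g⁻¹ ∉ centralizer (V : Set G) := by
    intro h
    apply hsne
    rw [mem_centralizer_iff] at h ⊢
    intro w hw
    have h1 := h _ ((mem_normalizer_iff.1 hV w).1 hw)
    have e1 : g * (w * s) * g⁻¹ = g * (s * w) * g⁻¹ := by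
      calc g * (w * s) * g⁻¹ = (g * w * g⁻¹) * (g * s * g⁻¹) := by group
        _ = (g * s * g⁻¹) * (g * w * g⁻¹) := h1
        _ = g * (s * w) * g⁻¹ := by group
    exact mul_left_cancel (mul_right_cancel e1)
  obtain ⟨c, hc1, hc2⟩ := of_tv F Q hc hgs hgc hgT hgne
  refine ⟨c, ?_⟩
  have e : MulAut.conj g • zpowers s = zpowers (g * s * g⁻¹) := by
    rw [show MulAut.conj g • zpowers s = (zpowers s).map (MulAut.conj g).toMonoidHom from rfl, MonoidHom.map_zpowers]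
    rfl
  rw [e]
  exact hc2.symm

omit F in
/-- `im Q S ⊓ im Q (E c) = im Q (S ⊓ E c)` -/
theorem im_inf (F : Full (S : Subgroup G) M V N E R₀ Om phi) (Q : Nrm M V) (c : I) :
    im Q (S : Subgroup G) ⊓ im Q (E c) ≤ im Q ((S : Subgroup G) ⊓ E c) := by
  rintro w ⟨h1, h2⟩
  obtain ⟨s, hs, rfl⟩ := mem_im.1 h1
  obtain ⟨e, he, h3⟩ := mem_im.1 h2
  refine mem_im.2 ⟨s, ⟨hs, ?_⟩, rfl⟩
  have h4 : ((e⁻¹ * s : M) : G) ∈ M ⊓ centralizer (V : Set G) := by
    refine ⟨(e⁻¹ * s : M).2, ?_⟩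
    have h5 : (e⁻¹ * s : M) ∈ (ph Q).ker := by rw [MonoidHom.mem_ker, map_mul, map_inv, h3, inv_mul_cancel]
    rwa [TypesNat.mem_ker Q] at h5
  have h5 := mul_mem he (F.CE c h4)
  rwa [coe_mul, coe_inv, mul_inv_cancel_left] at h5

/-- **`EEc`** -/
theorem conj_two (hc : ∀ b, Fintype.card (Om b) = 3) (hV2 : ∀ v : Q.Mod, v + v = 0) (g : XH Q)
    {D : Subgroup (XH Q)} (hD : D ∈ FF S E Q) (hle : MulAut.conj g • D ≤ im Q (S : Subgroup G)) :
    MulAut.conj g • D ∈ FF S E Q := by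
  obtain ⟨b, rfl⟩ := hD
  obtain ⟨x, rfl⟩ := ph_surj Q g
  obtain ⟨c, h1, h2⟩ := F.perm x x.2 b
  refine ⟨c, ?_⟩
  dsimp only at hle ⊢
  have h3 : MulAut.conj (ph Q x) • im Q ((S : Subgroup G) ⊓ E b) ≤ im Q ((S : Subgroup G) ⊓ E c) := by
    refine le_trans (le_inf hle ?_) (im_inf F Q c)
    rw [← im_conj]
    refine im_mono ?_
    rw [← h2]
    exact Subgroup.pointwise_smul_le_pointwise_smul_iff.2 inf_le_right
  refine (Subgroup.eq_of_le_of_card_ge h3 ?_).symm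
  rw [card_im F Q (hc c) hV2, Types.card_cj, card_im F Q (hc b) hV2]

end Cfsg.Agent.Omega.NOThreeL.RRed.Blk.AsmTwo

namespace Cfsg.Agent.Omega.NOThreeL.RRed.Blk.AsmTwo

open Subgroup Cfsg
open Cfsg.Agent.Omega.NOThreeL.RRed (Wd)
open Cfsg.Agent.Omega.NOThreeL.Merge (MZ)
open Cfsg.Agent.Omega.NOThreeL.RRed.TvFin (Full)
open Cfsg.Agent.Omega.NOThreeL.RSplit (Nrm)
open Cfsg.Agent.Omega.NOThreeL.RRed.Blk.TypesNat (XH im)
open scoped Pointwise

universe u

variable {G : Type u} [Group G] [Finite G] {S : Sylow 2 G} {I : Type u} {N E : I → Subgroup G}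
    {R₀ : Subgroup G} {Om : I → Type u} [∀ i, Fintype (Om i)] [∀ i, DecidableEq (Om i)] {phi : ∀ i, Finset (Om i) → G}
    (F : Full (S : Subgroup G) (MZ (S : Subgroup G)) (Wd (S : Subgroup G)) N E R₀ Om phi)
    (Q : Nrm (MZ (S : Subgroup G)) (Wd (S : Subgroup G)))
include F

/-- **The input of `nbs_of_fam`** : `N_G(S)` -/
theorem hn_two (hc : ∀ b, Fintype.card (Om b) = 3) :
    ∀ g ∈ normalizer ((S : Subgroup G) : Set G), ∀ D ∈ FF S E Q, ∃ A ≤ (S : Subgroup G), im Q A = D ∧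
      im Q (MulAut.conj g • A) ∈ FF S E Q :=
  fun _ hg _ hD => hn_gen F Q hc hg (AsmOneBlk.normS_le_Wd hg) hD

end Cfsg.Agent.Omega.NOThreeL.RRed.Blk.AsmTwo

end

section


/-!
# NO-3L, box R, the left case: three letters in each block (helper283)

* `low` : `W i ≤ O₂(C(x) ∩ C(y))`;
* **`three_of`** : the left case: all blocks of letters have three letters.
-/

set_option autoImplicit false
set_option linter.unusedSectionVars false

namespace Cfsg.Agent.Omega.NOThreeL.RRed.Blk.AsmLeftA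

open Subgroup Cfsg Cfsg.Agent.ZN Cfsg.Agent.Omega.MinPar
open Cfsg.Agent.Omega.FFThm
open Cfsg.Agent.Omega.NOThreeL.RRed.TvFin (Full TvV)
open Cfsg.Agent.Omega.NOThreeL.RRed.WideTree (Act MvAct CM FS Left)
open Cfsg.Agent.Omega.NOThreeL.RTree (RB)
open Cfsg.Agent.Omega.NOThreeL.Merge (MZ le_MZ isLoc_MZ)
open Cfsg.Agent.Omega.NOThreeL.RZ.TwoC.DecE (Orbs)
open Cfsg.Agent.Omega.NOThreeL.RRed.FullSup (HBad exists_fs_left)
open Cfsg.Agent.Omega.NOThreeL.RRed.ClsBlk (other_le)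
open scoped Pointwise

universe u v

variable {G : Type u} [Group G] [Finite G] {S : Sylow 2 G} {ι : Type u} {W : ι → Subgroup G}

/-- **`W i ≤ O₂(C(x) ∩ C(y))`** -/
theorem low (B : RB S) (h : CM (S : Subgroup G) W) {i : ι} {x y : G} (hx : x ∈ W i)
    (hy : y ∈ zc (S : Subgroup G)) (hy1 : y ≠ 1)
    (fact : MZ (S : Subgroup G) ≤ (MZ (S : Subgroup G) ⊓ centralizer (W i : Set G)) ⊔
      (MZ (S : Subgroup G) ⊓ centralizer ({y} : Set G))) :
    W i ≤ o2 (centralizer ({x} : Set G) ⊓ centralizer ({y} : Set G)) := by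
  have hI := AsmCls.irr_of h
  have hK : IsLoc (S : Subgroup G) (centralizer ({y} : Set G)) := RZ.LowR.isLoc_cent hy hy1
  have hKn := MinSimple.VModule.le_normalizer_zl (S : Subgroup G) (centralizer ({y} : Set G))
  have hn : MZ (S : Subgroup G) ⊓ centralizer ({y} : Set G) ≤
      normalizer ((MZ (S : Subgroup G) ⊓ centralizer (W i : Set G) : Subgroup G) : Set G) := by
    intro g hg
    rw [mem_normalizer_iff]
    have key : ∀ g ∈ MZ (S : Subgroup G), ∀ a ∈ MZ (S : Subgroup G) ⊓ centralizer (W i : Set G),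
        g * a * g⁻¹ ∈ MZ (S : Subgroup G) ⊓ centralizer (W i : Set G) := by
      intro g hg a ha
      refine mem_inf.2 ⟨mul_mem (mul_mem hg ha.1) (inv_mem hg), ?_⟩
      rw [mem_centralizer_iff]
      intro w hw
      have h4 : g⁻¹ * w * g ∈ W i := by
        have := (mem_normalizer_iff.1 (inv_mem (h.inv i hg)) w).1 hw
        rwa [inv_inv] at this
      have h5 := mem_centralizer_iff.1 ha.2 _ h4
      calc w * (g * a * g⁻¹) = g * ((g⁻¹ * w * g) * a) * g⁻¹ := by group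
        _ = g * a * g⁻¹ * w := by rw [h5]; group
    refine fun a => ⟨key g hg.1 a, fun ha => ?_⟩
    have h1 := key g⁻¹ (inv_mem hg.1) _ ha
    have e : g⁻¹ * (g * a * g⁻¹) * g⁻¹⁻¹ = a := by group
    rwa [e] at h1
  have hU : W i ⊓ zc (S : Subgroup G) ≠ ⊥ := by
    obtain ⟨z, hz, hz1⟩ := AsmCov.exists_z B h i
    intro h0
    rw [h0, mem_bot] at hz
    exact hz1 hz
  -- `W i ≤ V_K`
  have h1 : W i ≤ zl (S : Subgroup G) (centralizer ({y} : Set G)) := by
    intro w hw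
    have hV : NoFF.Basic.V (W i ⊓ zc (S : Subgroup G)) (MZ (S : Subgroup G)) ≤
        zl (S : Subgroup G) (centralizer ({y} : Set G)) := by
      refine NoFF.Basic.V_le fun g hg => ?_
      rintro _ ⟨v, hv, rfl⟩
      change g * v * g⁻¹ ∈ _
      have h2 := fact hg
      rw [sup_comm] at h2
      obtain ⟨b, hb, a, ha, rfl⟩ := mem_sup_of hn h2
      have h3 : a * v * a⁻¹ = v := cent ha.2 hv.1
      have h4 : b * a * v * (b * a)⁻¹ = b * v * b⁻¹ := by
        calc b * a * v * (b * a)⁻¹ = b * (a * v * a⁻¹) * b⁻¹ := by group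
          _ = _ := by rw [h3]
      rw [h4]
      exact conj_of (hKn hb.2) (MinSimple.VModule.zc_le_zl _ _ hv.2)
    exact hV (h.zero i _ le_rfl hU w hw)
  have h2 : W i ≤ o2 (centralizer ({y} : Set G)) :=
    h1.trans ((hK.zl_le S B.ctx.char2).trans (MinSimple.VModule.zc_le _))
  have hab : Wd (S : Subgroup G) ≤ centralizer (Wd (S : Subgroup G) : Set G) := by
    intro a ha
    rw [mem_centralizer_iff]
    exact fun b hb => (AsmInp.nrm_box B).ab b hb a ha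
  have h3 : W i ≤ centralizer ({x} : Set G) := fun w hw => by
    rw [mem_centralizer_singleton_iff]
    exact (mem_centralizer_iff.1 (hab (hI.le i hw)) x (hI.le i hx)).symm
  have h4 : o2 (centralizer ({y} : Set G)) ⊓ centralizer ({x} : Set G) ≤
      o2 (centralizer ({x} : Set G) ⊓ centralizer ({y} : Set G)) := by
    refine MinSimple.VModule.le_o2 ?_ ((MinSimple.VModule.o2_isPGroup _).to_le inf_le_left) ?_
    · exact le_inf inf_le_right (inf_le_left.trans (MinSimple.VModule.o2_le _))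
    · intro g hg
      rw [mem_normalizer_iff]
      intro a
      rw [mem_inf, mem_inf]
      exact and_congr ((mem_normalizer_iff.1 (MinSimple.VModule.le_normalizer_o2 _ hg.2)) a)
        ((mem_normalizer_iff.1 (le_normalizer hg.1)) a)
  exact (le_inf h2 h3).trans h4

variable {I : Type u} {N E : I → Subgroup G} {R₀ : Subgroup G} {Om : I → Type u} [∀ i, Fintype (Om i)]
  [∀ i, DecidableEq (Om i)] {phi : ∀ i, Finset (Om i) → G} {κ₁ : Type u} {N₁ : κ₁ → Subgroup G}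
  {EM : κ₁ ⊕ I → Subgroup G} {O₁ : κ₁ → Set G} {cls₁ : κ₁ → ι} {cls : I → ι}

/-- **the left case: three letters in each block** -/
theorem three_of [Finite κ₁] [Finite I] (B : RB S) (h : CM (S : Subgroup G) W) (hL : Left (S : Subgroup G) W)
    (hij : ∃ i j : ι, i ≠ j)
    (F : Full (S : Subgroup G) (MZ (S : Subgroup G)) (Wd (S : Subgroup G)) N E R₀ Om phi)
    (hcl₁ : ∀ a, N₁ a ≤ W (cls₁ a)) (hcl : ∀ b, N b ≤ W (cls b)) (hne : ∀ a b, cls₁ a ≠ cls b)
    (D : Dec (S : Subgroup G) (MZ (S : Subgroup G)) (Wd (S : Subgroup G)) (Sum.elim N₁ N) EM ⊥)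
    (O : Orbs (MZ (S : Subgroup G)) (Sum.elim N₁ N) EM (Sum.elim O₁ (TvTr.Orb phi)))
    (hW : ∀ i, W i = ⨆ b : {b // Sum.elim cls₁ cls b = i}, Sum.elim N₁ N b)
    (hb : HBad (S : Subgroup G) (Sum.elim N₁ N) (Sum.elim O₁ (TvTr.Orb phi))) (b : I) :
    Fintype.card (Om b) = 3 := by
  have hI := AsmCls.irr_of h
  have hi : ∃ j, j ≠ cls b := by
    obtain ⟨i, j, hij⟩ := hij
    by_cases hi : i = cls b
    · exact ⟨j, fun e => hij (by rw [hi, e])⟩
    · exact ⟨i, hi⟩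
  obtain ⟨z, hz, e, he, hzF, heF, hA⟩ := exists_fs_left B h hL D O hW hb (cls b) hi
  have hSc : ∀ w ∈ zc (S : Subgroup G), (S : Subgroup G) ≤ centralizer ({w} : Set G) := fun w hw s hs => by
    rw [mem_centralizer_singleton_iff]
    exact (MinSimple.VModule.mem_zc.1 hw).2.1 s hs
  have hCoW : ∀ c : I, cls c = cls b → ∀ j, j ≠ cls b → W j ≤ Co N R₀ c := fun c hc j hj =>
    other_le hI F (hcl c) (by rw [hc]; exact hj)
  have key : ∀ c : I, cls c = cls b → Co (Sum.elim N₁ N) ⊥ (Sum.inr c) ≤ Co N R₀ c := by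
    intro c hc
    refine sup_le (iSup_le ?_) bot_le
    rintro ⟨d | d, hd⟩
    · exact (hcl₁ d).trans (hCoW c hc _ (hne d b))
    · exact F.toDec.N_le_Co fun e => hd (by rw [e])
  have hWJ : W (cls b) = ⨆ c : ({c | cls c = cls b} : Set I), N c := by
    refine le_antisymm ?_ (iSup_le fun c => ?_)
    · rw [hW]
      refine iSup_le ?_
      rintro ⟨d | d, hd⟩
      · exact absurd hd (hne d b)
      · exact le_iSup (fun c : ({c | cls c = cls b} : Set I) => N c) ⟨d, hd⟩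
    · have := hcl c.1
      rwa [show cls c.1 = cls b from c.2] at this
  refine LeftThree.three_of_left F (hSc z hzF.mem.2) (hSc e heF.mem.2) (W := W (cls b)) (J := {c | cls c = cls b}) hWJ
    (h.inv _) (h.irr _) (fun c hc => ?_) (fun c hc => ?_)
    (low B h hzF.mem.1 heF.mem.2 heF.ne heF.fact) (fun v hv => ?_) hA b rfl
  · obtain ⟨n, hn, hnc⟩ := hz.2 (Sum.inr c) hc
    exact ⟨n, hn, hnc.1, key c hc hnc.2⟩
  · have h1 := heF.mem.1
    refine (iSup_le fun j => ?_ : (⨆ j : {j // j ≠ cls b}, W j) ≤ Co N R₀ c) h1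
    exact hCoW c hc j.1 j.2
  · have := NS.elem_Wd B
    exact this.2 v hv

end Cfsg.Agent.Omega.NOThreeL.RRed.Blk.AsmLeftA

end

section


/-!
# NO-3L, box R: `TD` for EVERY member of the family `FF` of `Asm.main`

* **`td_all`** : hypotheses of `AsmMv.mov_of`; every `D ∈ FF`: `TD (im Q S) D (N D) (C D)`;
* `tor_all` : so `Tor (im Q S) FF N C` with `m = 1`.
-/

set_option autoImplicit false
set_option linter.unusedSectionVars false

namespace Cfsg.Agent.Omega.NOThreeL.RRed.Blk.AsmTor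

open Subgroup Cfsg Cfsg.Agent.ZN Cfsg.Agent.Omega.MinPar
open Cfsg.Agent.Omega.NOThreeL.RSplit (Nrm)
open Cfsg.Agent.Omega.NOThreeL.RRed.NS hiding rt
open Cfsg.Agent.Omega.NOThreeL.RRed.WideTree (Act MvAct)
open Cfsg.Agent.Omega.NOThreeL.RTree (RB)
open Cfsg.Agent.Omega.NOThreeL.Merge (MZ le_MZ isLoc_MZ)
open Cfsg.Agent.Omega.NOThreeL.RRed.Blk.TypesNat (XH)
open Cfsg.Agent.Omega.NOThreeL.RRed.Blk.Asm (Es)
open Cfsg.Agent.Omega.NOThreeL.RRed.Blk.AsmCore (EP KP im)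
open Cfsg.Agent.Omega.NOThreeL.RRed.Blk.AsmT (TD Tor)
open scoped Pointwise

universe u

variable {G : Type u} [Group G] [Finite G] {S : Sylow 2 G}
variable (B : RB S) (mv : MvAct (S : Subgroup G)) (Q : Nrm (MZ (S : Subgroup G)) (Wd (S : Subgroup G)))
  {FF : Set (Subgroup (XH Q))} {N C : Subgroup (XH Q) → AddSubgroup Q.Mod}
include B mv

/-- **`TD` for every member of `FF`.** -/
theorem td_all (E : Es (im Q (S : Subgroup G)) (im Q '' AsmCore.EE (S : Subgroup G) (Wd (S : Subgroup G))) Q.Mod)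
    (hAc : ∀ P, Act (S : Subgroup G) P → Asm.Ac (im Q (S : Subgroup G)) (im Q '' AsmCore.EE (S : Subgroup G) (Wd (S : Subgroup G)))
      (im Q P) (im Q (KP (S : Subgroup G) P (Wd (S : Subgroup G)))) (im Q '' EP (S : Subgroup G) P (Wd (S : Subgroup G)))
      Q.Mod)
    (hn : ∀ D ∈ FF, Asm.GB (im Q '' AsmCore.EE (S : Subgroup G) (Wd (S : Subgroup G))) D (N D) (C D))
    (h4 : ∀ D ∈ FF, 4 ≤ Nat.card D) (hS : ∀ s ∈ im Q (S : Subgroup G), ∀ D ∈ FF, MulAut.conj s • D ∈ FF)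
    (hsub : FF ⊆ im Q '' AsmCore.EE (S : Subgroup G) (Wd (S : Subgroup G))) {D : Subgroup (XH Q)} (hD : D ∈ FF) :
    TD (im Q (S : Subgroup G)) D (N D) (C D) := by
  obtain ⟨P, a, A, hA, rfl⟩ := AsmMv.exists_EP B mv Q E hAc hn h4 hS hsub hD
  obtain ⟨F, i1, i2, i3, k, hk, M, h, hF, hD', h1, -⟩ := AsmMv.nat4_of B mv a.1 Q hA (h4 _ hD)
  obtain ⟨j, O⟩ := h1 A hA
  exact td_of h (by omega) Q (elem_Wd B) (AsmMv.no_of B a) (le_MZ a.1) (Star.zl_mono _ (le_MZ a.1)) O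
    (hA.1.1.trans a.1.le) (hD' j) a.1.le (hn _ hD).nb

/-- **`Tor` for the family of `Asm.main`**, with `m = 1`. -/
theorem tor_all (E : Es (im Q (S : Subgroup G)) (im Q '' AsmCore.EE (S : Subgroup G) (Wd (S : Subgroup G))) Q.Mod)
    (hAc : ∀ P, Act (S : Subgroup G) P → Asm.Ac (im Q (S : Subgroup G)) (im Q '' AsmCore.EE (S : Subgroup G) (Wd (S : Subgroup G)))
      (im Q P) (im Q (KP (S : Subgroup G) P (Wd (S : Subgroup G)))) (im Q '' EP (S : Subgroup G) P (Wd (S : Subgroup G)))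
      Q.Mod)
    (hn : ∀ D ∈ FF, Asm.GB (im Q '' AsmCore.EE (S : Subgroup G) (Wd (S : Subgroup G))) D (N D) (C D))
    (h4 : ∀ D ∈ FF, 4 ≤ Nat.card D) (hS : ∀ s ∈ im Q (S : Subgroup G), ∀ D ∈ FF, MulAut.conj s • D ∈ FF)
    (hsub : FF ⊆ im Q '' AsmCore.EE (S : Subgroup G) (Wd (S : Subgroup G))) : Tor (im Q (S : Subgroup G)) FF N C :=
  fun D hD _ => ⟨D, hD, 1, by rw [map_one, one_smul], td_all B mv Q E hAc hn h4 hS hsub hD⟩

end Cfsg.Agent.Omega.NOThreeL.RRed.Blk.AsmTor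

end

section


/-!
# NO-3L, box R: assembly of the natural blocks, all inputs

`L = M₀ = MZ S`, `U = V* = Wd S`, from `RB S` and `MvAct S`.

* `exists_act` : some `P` is active; `no` : `NoOverM V* M₀`;
* `ac_of` : `Asm.Ac` for every `P ∈ P*(S)` with one moving `V_P`;
* **`inp_of`** : `AsmG.Inp S (MZ S) Q`;
* **`main`** : the natural blocks; `src`, `mov`.
-/

set_option autoImplicit false
set_option linter.unusedSectionVars false

namespace Cfsg.Agent.Omega.NOThreeL.RRed.Blk.AsmMain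

open Subgroup Cfsg Cfsg.Agent.ZN Cfsg.Agent.Omega.MinPar
open Cfsg.Agent.Omega.FFThm (NatKM SymKM OffM ElemM NoOverM)
open Cfsg.Agent.Omega.FrameFF (cv)
open Cfsg.Agent.Omega.NO3S.ThmB Cfsg.Agent.Omega.NO3S.KeyRad
open Cfsg.Agent.Omega.NOThreeL.RSplit (Nrm)
open Cfsg.Agent.Omega.NOThreeL.RRed.NS (fxd brk DD YY un gen_MZ' elem_Wd act_inf_eq_bot)
open Cfsg.Agent.Omega.NOThreeL.RRed.WideTree (Act MvAct)
open Cfsg.Agent.Omega.NOThreeL.RTree (RB)
open Cfsg.Agent.Omega.NOThreeL.Merge (MZ le_MZ isLoc_MZ)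
open Cfsg.Agent.Omega.NOThreeL.RRed.Blk.TypesNat (XH)
open Cfsg.Agent.Omega.NOThreeL.RRed.Blk.Asm (Ac Es Fam FFs NN CC GB)
open Cfsg.Agent.Omega.NOThreeL.RRed.Blk.AsmCore (EP KP im)
open Cfsg.Agent.Omega.NOThreeL.RRed.Blk.AsmG (Inp RRs)
open scoped Pointwise

universe u

variable {G : Type u} [Group G] [Finite G] {S : Sylow 2 G} {P : Subgroup G}

/-- some `P` is active -/
theorem exists_act (B : RB S) (mv : MvAct (S : Subgroup G)) : ∃ P, Act (S : Subgroup G) P := by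
  have h1 : zc (S : Subgroup G) ≠ ⊥ := MinSimple.Basic.zc_ne_bot S.isPGroup' (B.ctx.sylow_ne_bot S)
  obtain ⟨z, hz1⟩ := Subgroup.ne_bot_iff_exists_ne_one.1 h1
  obtain ⟨P, a, -⟩ := mv z z.2 fun h => hz1 (Subtype.ext h)
  exact ⟨P, a⟩

/-- (NO) -/
theorem no (B : RB S) (mv : MvAct (S : Subgroup G)) : NoOverM (Wd (S : Subgroup G)) (MZ (S : Subgroup G)) := by
  obtain ⟨P, a⟩ := exists_act B mv
  exact AsmMv.no_of B a

/-- **`Ac`.** -/
theorem ac_of (B : RB S) (mv : MvAct (S : Subgroup G)) (Q : Nrm (MZ (S : Subgroup G)) (Wd (S : Subgroup G)))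
    (hP : IsParS (S : Subgroup G) P) (ne : (EP (S : Subgroup G) P (Wd (S : Subgroup G))).Nonempty) :
    Ac (im Q (S : Subgroup G)) (im Q '' AsmCore.EE (S : Subgroup G) (Wd (S : Subgroup G))) (im Q P)
      (im Q (KP (S : Subgroup G) P (Wd (S : Subgroup G)))) (im Q '' EP (S : Subgroup G) P (Wd (S : Subgroup G)))
      Q.Mod := by
  obtain ⟨A, hA⟩ := ne
  have a := AsmMv.act_of_EP B hP hA
  have hc := B.ctx.char2
  have hL := isLoc_MZ B.ctx B.full B.data.noff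
  have hPL : P ≤ MZ (S : Subgroup G) := le_MZ hP
  have no := AsmMv.no_of B a
  have hcomm := AsmSp.comm_zl hc hL
  have g := AsmSp.gone_mx hc hP hPL no hcomm hA.1.1 hA.1.2 hA.2
  rcases g.concl with ⟨F, i1, i2, i3, k, hk, ⟨M⟩⟩ | ⟨k, m, hk, hm, ⟨M⟩⟩
  · rcases SplitAll.card_field F with h2 | h4
    · have h3 : Nat.card F = 2 := Nat.card_eq_two_iff.2 ⟨0, 1, zero_ne_one, Set.eq_univ_of_forall fun x => by
        rcases h2 x with h5 | h5 <;> simp [h5]⟩
      exact AsmSmall.ac_small hc hL hP hPL no (Or.inl ⟨F, i1, i3, k, h3, hk, ⟨M⟩⟩) Q ⟨A, hA⟩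
    · exact AsmAct.ac_nat hc hL hP hPL no M h4 (act_inf_eq_bot B mv a M (by omega)) Q ⟨A, hA⟩
  · exact AsmSmall.ac_small hc hL hP hPL no (Or.inr ⟨k, m, hk, hm, ⟨M⟩⟩) Q ⟨A, hA⟩

/-- **All inputs.** -/
theorem inp_of (B : RB S) (mv : MvAct (S : Subgroup G)) (Q : Nrm (MZ (S : Subgroup G)) (Wd (S : Subgroup G))) :
    Inp S (MZ (S : Subgroup G)) Q where
  hc := B.ctx.char2
  gen := gen_MZ' S
  el := elem_Wd B
  no := no B mv
  es := AsmEsB.es_of Q (isLoc_MZ B.ctx B.full B.data.noff).le (no B mv) (elem_Wd B)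
  ac P hP _ ne := ac_of B mv Q hP ne

end Cfsg.Agent.Omega.NOThreeL.RRed.Blk.AsmMain

end

end

-- merged: Cfsg.Agent.Mrg.Omega.NOThreeL.RRed.Blk.AsmTwoTD
section

section


/-!
# NO-3L, box R: the `𝔽₂`-blocks with three letters, the group `T` (field `sD` of `NBs`)

`F : Full S M V N E R₀ Om phi`, `|Ω_b| = 3`.

* `nbt` : `Asm.NBT` with `T = im Q (E b)`;
* **`td_two`** : `AsmT.TD (im Q S) (im Q (S ⊓ E b)) (Q.ad (N b)) (Q.ad (Co N R₀ b))`.
-/

set_option autoImplicit false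
set_option linter.unusedSectionVars false

namespace Cfsg.Agent.Omega.NOThreeL.RRed.Blk.AsmTwo

open Subgroup Cfsg
open Cfsg.Agent.Omega.NOThreeL.RRed.TvFin (Full)
open Cfsg.Agent.Omega.NOThreeL.RRed.Blk
open Cfsg.Agent.Omega.NOThreeL.RRed.Blk.AsmTwoC (smul_of_norm)
open Cfsg.Agent.Omega.NOThreeL.RSplit (Nrm)
open Cfsg.Agent.Omega.NOThreeL.RRed.Blk.TypesNat (XH ph im mem_im im_conj im_mono)
open Cfsg.Agent.Omega.NOThreeL.RRed.Blk.AsmT (NBT TD)
open scoped Pointwise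

universe u

variable {G : Type u} [Group G] [Finite G] {S : Sylow 2 G} {M V : Subgroup G} {I : Type u} {N E : I → Subgroup G}
    {R₀ : Subgroup G} {Om : I → Type u} [∀ i, Fintype (Om i)] [∀ i, DecidableEq (Om i)] {phi : ∀ i, Finset (Om i) → G}
    (F : Full (S : Subgroup G) M V N E R₀ Om phi) (Q : Nrm M V)
include F

theorem nbt {b : I} (hc : Fintype.card (Om b) = 3) :
    NBT (im Q ((S : Subgroup G) ⊓ E b)) (im Q (E b)) (Q.ad (N b)) (Q.ad (Co N R₀ b)) := by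
  obtain ⟨e, f, up, lo, h1, h2, h3, h4⟩ := bk F Q hc
  exact ⟨ZMod 2, inferInstance, inferInstance, e, f, up, lo, h1, h2, h4, h3⟩

/-- `S` permutes the root groups and the groups `E b` in the same way -/
theorem smul_im {s : XH Q} (hs : s ∈ im Q (S : Subgroup G)) (b : I) :
    ∃ c, MulAut.conj s • im Q ((S : Subgroup G) ⊓ E b) = im Q ((S : Subgroup G) ⊓ E c) ∧
      MulAut.conj s • im Q (E b) = im Q (E c) := by
  obtain ⟨g, hg, rfl⟩ := mem_im.1 hs
  obtain ⟨c, -, h2⟩ := F.perm g g.2 b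
  refine ⟨c, ?_, ?_⟩
  · rw [← im_conj, Subgroup.smul_inf, h2, smul_of_norm (le_normalizer hg)]
  · rw [← im_conj, h2]

theorem td_two {b : I} (hc : Fintype.card (Om b) = 3) :
    TD (im Q (S : Subgroup G)) (im Q ((S : Subgroup G) ⊓ E b)) (Q.ad (N b)) (Q.ad (Co N R₀ b)) := by
  refine ⟨_, nbt F Q hc, fun s hs h => ?_⟩
  obtain ⟨c, h1, h2⟩ := smul_im F Q hs b
  rw [h1] at h
  rw [h2, im_inj F Q h]

end Cfsg.Agent.Omega.NOThreeL.RRed.Blk.AsmTwo

end

section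


/-!
# NO-3L, box R: the active small `P ∈ P*(S)` and the blocks of three letters (helper559)

`F : Full S L V N E R₀ Om phi`, `|Ω_b| = 3` for all `b`.

* `cover`, `even_three` : the even subsets of a set with three elements;
* `same_blk` : two transvections of `L` on `V` which do not commute lie in one `E b`;
* **`nat_blk`** : `M : NatKM K S P V' D k`, `|K| = 2`, `t ∈ S` a transvection on `V` which acts as a root element of the block
  `j` of `M`: `blk M j = N b`, `YY h j = ⟨Ω_b - {p}⟩ = C_{N b}(S ∩ E b)`, `DD M j = 1` for some `b`;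
* **`no_sym`** : `P` is not of symmetric type.
-/

set_option autoImplicit false
set_option linter.unusedSectionVars false

namespace Cfsg.Agent.Omega.NOThreeL.RRed.Blk.SrcTwo

open Subgroup Cfsg Cfsg.Agent.ZN Cfsg.Agent.Omega.MinPar
open Cfsg.Agent.Omega.FFThm Cfsg.Agent.Lib.SL2Mat Cfsg.Agent.Omega.NatPair
open Cfsg.Agent.Omega.FrameFF (cv)
open Cfsg.Agent.Omega.NO3S.ThmB Cfsg.Agent.Omega.NO3S.KeyRad
open Cfsg.Agent.Omega.NOThreeL.RRed.NS (DD YY mem_YY)
open Cfsg.Agent.Omega.NOThreeL.RRed.TvFin (Full TvV)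
open Cfsg.Agent.Omega.NOThreeL.RRed.Blk (Dec Co IsC)
open Cfsg.Agent.Omega.KL.TwoS (Rel Lett)
open scoped Pointwise

universe u

section letters

variable {G : Type u} [Group G] {Ω : Type u} [Fintype Ω] [DecidableEq Ω] {N E : Subgroup G} {φ : Finset Ω → G}

theorem even_three (h3 : Fintype.card Ω = 3) {s : Finset Ω} (hs : Even s.card) :
    s = ∅ ∨ ∃ r, s = Finset.univ.erase r := by
  have h1 : s.card ≤ 3 := by rw [← h3]; exact Finset.card_le_univ s
  have h2 : s.card = 0 ∨ s.card = 2 := by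
    obtain ⟨k, hk⟩ := hs
    omega
  rcases h2 with h | h
  · exact Or.inl (Finset.card_eq_zero.1 h)
  · right
    have h4 : sᶜ.card = 1 := by rw [Finset.card_compl, h3, h]
    obtain ⟨r, hr⟩ := Finset.card_eq_one.1 h4
    refine ⟨r, ?_⟩
    rw [← compl_compl s, hr, Finset.compl_singleton]

theorem pair_eq (h3 : Fintype.card Ω = 3) {x y : Ω} (hxy : x ≠ y) : ∃ r, ({x, y} : Finset Ω) = Finset.univ.erase r := by
  rcases even_three h3 (s := {x, y}) (by rw [Finset.card_pair hxy]; exact even_two) with h | h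
  · exact absurd h (Finset.insert_ne_empty x {y})
  · exact h

theorem symm_erase (h3 : Fintype.card Ω = 3) {p q r : Ω} (hpq : p ≠ q) (hrp : r ≠ p) (hrq : r ≠ q) :
    Finset.univ.erase r = symmDiff (Finset.univ.erase p) (Finset.univ.erase q) := by
  have h1 : ({p, q, r} : Finset Ω) = Finset.univ := by
    refine Finset.eq_univ_of_card _ ?_
    rw [h3, Finset.card_insert_of_notMem, Finset.card_pair (Ne.symm hrq)]
    simp only [Finset.mem_insert, Finset.mem_singleton, not_or]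
    exact ⟨hpq, Ne.symm hrp⟩
  ext x
  have hx : x = p ∨ x = q ∨ x = r := by
    have := Finset.mem_univ x
    rw [← h1] at this
    simpa using this
  rw [Finset.mem_symmDiff]
  rcases hx with rfl | rfl | rfl
  · simp [hpq, Ne.symm hrp]
  · simp [Ne.symm hpq, Ne.symm hrq]
  · simp [hrp, hrq]

theorem cover (L : Lett N E φ) (h3 : Fintype.card Ω = 3) {p q : Ω} (hpq : p ≠ q) {w : G} (hw : w ∈ N) :
    w = 1 ∨ w = φ (Finset.univ.erase p) ∨ w = φ (Finset.univ.erase q) ∨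
      w = φ (Finset.univ.erase p) * φ (Finset.univ.erase q) := by
  obtain ⟨s, hs, rfl⟩ := (L.mem _).1 hw
  rcases even_three h3 hs with rfl | ⟨r, rfl⟩
  · exact Or.inl L.phi_empty
  · by_cases hrp : r = p
    · rw [hrp]; exact Or.inr (Or.inl rfl)
    by_cases hrq : r = q
    · rw [hrq]; exact Or.inr (Or.inr (Or.inl rfl))
    · right; right; right
      rw [← L.mul, symm_erase h3 hpq hrp hrq]

end letters

variable {G : Type u} [Group G] {S L V : Subgroup G} {I : Type u} {N E : I → Subgroup G} {R₀ : Subgroup G} {Om : I → Type u}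
    [∀ i, Fintype (Om i)] [∀ i, DecidableEq (Om i)] {phi : ∀ i, Finset (Om i) → G}

/-- two transvections which do not commute: one block -/
theorem same_blk (F : Full S L V N E R₀ Om phi) (h3 : ∀ b, Fintype.card (Om b) = 3) {t t' c c' : G} (ht : t ∈ L)
    (ht' : t' ∈ L) (hc : c ∈ V) (hc' : c' ∈ V) (hT : TvV V c t) (hT' : TvV V c' t') (hn : t ∉ centralizer (V : Set G))
    (hn' : t' ∉ centralizer (V : Set G)) (hne : t' * c * t'⁻¹ ≠ c) :
    ∃ b, ∃ p q : Om b, p ≠ q ∧ t ∈ E b ∧ t' ∈ E b ∧ c = phi b (Finset.univ.erase p) ∧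
      c' = phi b (Finset.univ.erase q) ∧ t * c * t⁻¹ = c := by
  obtain ⟨b, htE, x, y, hxy, rfl, hr⟩ := F.tvs t ht c hc hT hn
  obtain ⟨b', htE', x', y', hxy', rfl, hr'⟩ := F.tvs t' ht' c' hc' hT' hn'
  have L := F.lett b
  have hcN : phi b {x, y} ∈ N b := (L.mem _).2 ⟨_, by rw [Finset.card_pair hxy]; exact even_two, rfl⟩
  have hbb : b = b' := by
    by_contra hbb
    exact hne (Blk.cent (F.EC b' b (Ne.symm hbb) htE') hcN)
  subst hbb
  obtain ⟨p, hp⟩ := pair_eq (h3 b) hxy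
  obtain ⟨q, hq⟩ := pair_eq (h3 b) hxy'
  refine ⟨b, p, q, ?_, htE, htE', by rw [hp], by rw [hq], ?_⟩
  · rintro rfl
    apply hne
    rw [hp, ← hq, L.pair hr' hxy', Equiv.swap_apply_left, Equiv.swap_apply_right, Finset.pair_comm]
  · rw [L.pair hr hxy, Equiv.swap_apply_left, Equiv.swap_apply_right, Finset.pair_comm]

section nat

variable {K : Type} [Field K] [CharP K 2] {P V' D : Subgroup G} {k : ℕ} {M : NatKM K S P V' D k} (h : Nb M)

/-- the centre of a root element -/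
theorem e_ctr {t c : G} {j : Fin k} {β : K} (hV' : V' ≤ V) (hA : ActsSL M.e V' D t (sg j (up β))) (htP : t ∈ P) (hc : c ∈ V')
    (hT : TvV V c t) (hn : ∃ v ∈ V', t * v * t⁻¹ ≠ v) (h : Nb M) :
    (∀ l, l ≠ j → M.e c l = 0) ∧ M.e c j 1 = 0 ∧ M.e c j 0 ≠ 0 ∧ β ≠ 0 ∧ ∃ v ∈ V', c = t * v * t⁻¹ * v⁻¹ := by
  obtain ⟨v, hv, hne⟩ := hn
  have h1 : t * v * t⁻¹ = v * c := (hT v (hV' hv)).resolve_left hne
  have h2 : M.e (v * c) = M.e v + M.e c := M.mul v hv c hc
  have h3 : ∀ l, M.e v l + M.e c l = ap (sg j (up β) l) (M.e v l) := by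
    intro l
    have := hA.1 v hv l
    rw [h1, h2, Pi.add_apply] at this
    exact this
  have hl : ∀ l, l ≠ j → M.e c l = 0 := by
    intro l hl
    have h4 := h3 l
    rw [sg_ne hl, ap_one] at h4
    exact add_eq_left.1 h4
  have hj := h3 j
  rw [sg_self] at hj
  have hj1 : M.e c j 1 = 0 := by
    have h4 := congrFun hj 1
    rw [Pi.add_apply, ap_up_1] at h4
    exact add_eq_left.1 h4
  have hβ : β ≠ 0 := by
    intro hβ
    apply hne
    have h8 : sg j (up β) = (1 : Fin k → Matrix.SpecialLinearGroup (Fin 2) K) := by rw [hβ, up_zero, sg_one]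
    rw [h8] at hA
    rw [h.comm_of_one htP hA hv]; group
  have hD : c ∉ D := by
    intro hcD
    have h5 : M.e c = 0 := (M.ker c hc).2 hcD
    obtain ⟨w, hw, hwj, -⟩ := Nb.exists_single M j ![0, 1]
    have h6 : M.e (t * w * t⁻¹) j = M.e w j := by
      rcases hT w (hV' hw) with h7 | h7
      · rw [h7]
      · rw [h7, M.mul w hw c hc, h5, add_zero]
    have h7 := congrFun (hA.1 w hw j) 0
    rw [h6, sg_self, ap_up_0, hwj] at h7
    apply hβ
    simpa using h7.symm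
  refine ⟨hl, hj1, fun h0 => hD ((M.ker c hc).1 ?_), hβ, v, hv, ?_⟩
  · funext l
    by_cases hlj : l = j
    · rw [hlj]
      exact vec_eq h0 hj1
    · exact hl l hlj
  · rw [h1, h.cm hv hc]; group

/-- the second transvection -/
theorem exists_sec {t c : G} {j : Fin k} {β : K} (hV' : V' ≤ V) (hPV : P ≤ normalizer (V : Set G))
    (hA : ActsSL M.e V' D t (sg j (up β))) (htP : t ∈ P) (hc : c ∈ V')
    (hT : TvV V c t) (hn : ∃ v ∈ V', t * v * t⁻¹ ≠ v) (h : Nb M) :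
    ∃ t' ∈ P, ∃ c' ∈ V', TvV V c' t' ∧ (∃ v ∈ V', t' * v * t'⁻¹ ≠ v) ∧ (∃ γ, γ ≠ 0 ∧ ActsSL M.e V' D t' (sg j (lo γ))) ∧
      t' * c * t'⁻¹ ≠ c ∧ M.e c' j 0 = 0 ∧ M.e c' j 1 ≠ 0 ∧ ∃ v ∈ V', c' = t' * v * t'⁻¹ * v⁻¹ := by
  obtain ⟨h1, h2, h3, hβ, v, hv, hcv⟩ := e_ctr hV' hA htP hc hT hn h
  obtain ⟨p, hp, hpA⟩ := M.lift (sg j (wm 1 one_ne_zero))
  have hA' := h.acts_mul (inv_mem hp) (h.acts_mul htP hpA hA) (h.acts_inv hp hpA)
  have e1 : sg j (wm (1 : K) one_ne_zero) * sg j (up β) * (sg j (wm (1 : K) one_ne_zero))⁻¹ = sg j (lo (-β)) := by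
    rw [← sg_mul, wm_up, mul_inv_eq_iff_eq_mul, ← sg_mul]
    congr 3
    rw [one_pow, div_one]
  rw [e1] at hA'
  have hT' : TvV V (p * c * p⁻¹) (p * t * p⁻¹) := by
    intro w hw
    have hw' : p⁻¹ * w * p ∈ V := by
      have := (mem_normalizer_iff.1 (inv_mem (hPV hp)) w).1 hw
      rwa [inv_inv] at this
    have e2 : p * t * p⁻¹ * w * (p * t * p⁻¹)⁻¹ = p * (t * (p⁻¹ * w * p) * t⁻¹) * p⁻¹ := by group
    rcases hT _ hw' with h4 | h4
    · left; rw [e2, h4]; group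
    · right; rw [e2, h4]; group
  have hcp : M.e (p * c * p⁻¹) j = ap (wm 1 one_ne_zero) (M.e c j) := by
    rw [hpA.1 c hc j, sg_self]
  have e0 : M.e (p * c * p⁻¹) j 0 = 0 := by
    rw [hcp, ap_zero', h2, wm_00]; ring
  have e1' : M.e (p * c * p⁻¹) j 1 ≠ 0 := by
    rw [hcp, ap_one', h2, wm_10]
    simpa using h3
  refine ⟨p * t * p⁻¹, mul_mem (mul_mem hp htP) (inv_mem hp), p * c * p⁻¹, h.memV hp hc, hT', ?_, ⟨-β, neg_ne_zero.2 hβ, hA'⟩, ?_,
    e0, e1', p * v * p⁻¹, h.memV hp hv, ?_⟩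
  · refine ⟨p * v * p⁻¹, h.memV hp hv, fun h4 => ?_⟩
    have h5 : p * (t * v * t⁻¹) * p⁻¹ = p * v * p⁻¹ := by rw [← h4]; group
    have h6 : t * v * t⁻¹ = v := mul_left_cancel (mul_right_cancel h5)
    have h7 : c = 1 := by rw [hcv, h6, mul_inv_cancel]
    apply h3
    rw [h7, Nb.e_one (M := M)]; rfl
  · intro h4
    have h5 := congrFun (hA'.1 c hc j) 1
    rw [h4, sg_self, ap_lo_1] at h5
    have h6 : -β * M.e c j 0 = 0 := by
      have h7 : M.e c j 1 = -β * M.e c j 0 + M.e c j 1 := h5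
      exact left_eq_add.1 (by rw [add_comm] at h7; exact h7)
    rcases mul_eq_zero.1 h6 with h7 | h7
    · exact hβ (neg_eq_zero.1 h7)
    · exact h3 h7
  · rw [hcv]; group

theorem inv_sg (j : Fin k) (A : Matrix.SpecialLinearGroup (Fin 2) K) : (sg j A)⁻¹ = sg j A⁻¹ :=
  inv_eq_of_mul_eq_one_right (by rw [← sg_mul, mul_inv_cancel, sg_one])

/-- **`blk M j` is a block of letters** -/
theorem nat_blk (F : Full S L V N E R₀ Om phi) (h3 : ∀ b, Fintype.card (Om b) = 3) (h : Nb M)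
    (hK : ∀ x : K, x = 0 ∨ x = 1) (hV' : V' ≤ V) (hPL : P ≤ L) {t c : G} {j : Fin k} {β : K}
    (hA : ActsSL M.e V' D t (sg j (up β))) (htP : t ∈ P) (hc : c ∈ V') (hT : TvV V c t)
    (hn : ∃ v ∈ V', t * v * t⁻¹ ≠ v) :
    ∃ b, blk M j = N b ∧ DD M j = ⊥ ∧ t ∈ E b ∧ ∃ p, c = phi b (Finset.univ.erase p) ∧ YY h j = zpowers c := by
  obtain ⟨-, h1, h2, hβ, v₁, hv₁, hcv⟩ := e_ctr hV' hA htP hc hT hn h
  obtain ⟨t', ht'P, c', hc', hT', hn', ⟨γ, hγ, hA'⟩, hne, h4, h5, v₂, hv₂, hcv'⟩ :=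
    exists_sec hV' (hPL.trans F.LU) hA htP hc hT hn h
  have nc : ∀ x : G, (∃ v ∈ V', x * v * x⁻¹ ≠ v) → x ∉ centralizer (V : Set G) := by
    rintro x ⟨v, hv, hx⟩ hxc
    exact hx (Blk.cent hxc (hV' hv))
  obtain ⟨b, p, q, hpq, htE, ht'E, hcp, hcq, -⟩ := same_blk F h3 (hPL htP) (hPL ht'P) (hV' hc) (hV' hc') hT hT' (nc t hn)
    (nc t' hn') hne
  have hβ1 : β = 1 := (hK β).resolve_left hβ
  have hγ1 : γ = 1 := (hK γ).resolve_left hγ
  have hcB : c ∈ blk M j := by rw [hcv]; exact mem_blk htP hA hv₁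
  have hc'B : c' ∈ blk M j := by rw [hcv']; exact mem_blk ht'P hA' hv₂
  have hcov : ∀ w ∈ N b, w = 1 ∨ w = c ∨ w = c' ∨ w = c * c' := by
    intro w hw
    have := cover (F.lett b) (h3 b) hpq hw
    rwa [← hcp, ← hcq] at this
  have hecc : M.e (c * c') j = M.e c j + M.e c' j := by rw [M.mul c hc c' hc', Pi.add_apply]
  -- all single factors are induced by `E b`
  have hX : ∀ A : Matrix.SpecialLinearGroup (Fin 2) K, ∃ g ∈ P, g ∈ E b ∧ ActsSL M.e V' D g (sg j A) := by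
    intro A
    have hA0 : A ∈ closure (Set.range up ∪ Set.range lo : Set (Matrix.SpecialLinearGroup (Fin 2) K)) := by
      rw [Cfsg.Agent.Omega.NOThreeL.RRed.Blk.SplitNat.closure_up_lo]; exact mem_top A
    refine closure_induction (p := fun A _ => ∃ g ∈ P, g ∈ E b ∧ ActsSL M.e V' D g (sg j A)) ?_ ?_ ?_ ?_ hA0
    · rintro _ (⟨x, rfl⟩ | ⟨x, rfl⟩)
      · rcases hK x with rfl | rfl
        · exact ⟨1, one_mem _, one_mem _, by rw [up_zero, sg_one]; exact Nb.acts_one⟩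
        · exact ⟨t, htP, htE, by rw [← hβ1]; exact hA⟩
      · rcases hK x with rfl | rfl
        · exact ⟨1, one_mem _, one_mem _, by rw [lo_zero, sg_one]; exact Nb.acts_one⟩
        · exact ⟨t', ht'P, ht'E, by rw [← hγ1]; exact hA'⟩
    · exact ⟨1, one_mem _, one_mem _, by rw [sg_one]; exact Nb.acts_one⟩
    · rintro x y - - ⟨g, hg, hgE, hgA⟩ ⟨g', hg', hgE', hgA'⟩
      exact ⟨g * g', mul_mem hg hg', mul_mem hgE hgE', by rw [sg_mul]; exact h.acts_mul hg' hgA hgA'⟩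
    · rintro x - ⟨g, hg, hgE, hgA⟩
      exact ⟨g⁻¹, inv_mem hg, inv_mem hgE, by rw [← inv_sg]; exact h.acts_inv hg hgA⟩
  have hblk : blk M j = N b := by
    apply le_antisymm
    · rw [blk, closure_le]
      rintro _ ⟨g, hg, A, hgA, v, hv, rfl⟩
      obtain ⟨g', hg', hgE', hgA'⟩ := hX A
      rw [h.same hg hg' hgA hgA' hv]
      obtain ⟨n, hn1, hn2⟩ := F.toDec.ex_comp b (hV' hv)
      have hm : g' * (n⁻¹ * v) * g'⁻¹ = n⁻¹ * v := Blk.cent (LeftThree.cent_Co F.toDec b hgE') hn2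
      have e : g' * v * g'⁻¹ * v⁻¹ = (g' * n * g'⁻¹) * (g' * (n⁻¹ * v) * g'⁻¹) * v⁻¹ := by group
      rw [e, hm]
      have e2 : g' * n * g'⁻¹ * (n⁻¹ * v) * v⁻¹ = (g' * n * g'⁻¹) * n⁻¹ := by group
      rw [e2]
      exact mul_mem (Blk.conj_of (F.EN b hgE') hn1) (inv_mem hn1)
    · intro w hw
      rcases hcov w hw with rfl | rfl | rfl | rfl
      · exact one_mem _
      · exact hcB
      · exact hc'B
      · exact mul_mem hcB hc'B
  refine ⟨b, hblk, ?_, htE, p, hcp, ?_⟩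
  · rw [eq_bot_iff]
    rintro w ⟨hw, hwD⟩
    have hw' : w ∈ N b := by rw [← hblk]; exact hw
    have hz : M.e w = 0 := (M.ker w (blk_le h j hw)).2 hwD
    rw [mem_bot]
    rcases hcov w hw' with rfl | rfl | rfl | rfl
    · rfl
    · exfalso; apply h2; rw [hz]; rfl
    · exfalso; apply h5; rw [hz]; rfl
    · exfalso
      rw [hz] at hecc
      have h6 := congrFun hecc 0
      rw [Pi.add_apply, h4, add_zero] at h6
      exact h2 h6.symm
  · apply le_antisymm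
    · rintro w ⟨hw, hw1⟩
      have hw' : w ∈ N b := by rw [← hblk]; exact hw
      rcases hcov w hw' with rfl | rfl | rfl | rfl
      · exact one_mem _
      · exact mem_zpowers _
      · exact absurd hw1 h5
      · exfalso
        rw [hecc, Pi.add_apply, h1, zero_add] at hw1
        exact h5 hw1
    · rw [zpowers_le]
      exact ⟨hcB, h1⟩

end nat

/-- a permutation of three letters with two fixed letters -/
theorem eq_one_of_two {Ω : Type u} [Fintype Ω] [DecidableEq Ω] (h3 : Fintype.card Ω = 3) {p r : Ω} (hpr : p ≠ r)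
    {σ : Equiv.Perm Ω} (hσp : σ p = p) (hσr : σ r = r) : σ = 1 := by
  ext x
  by_contra hx
  have hx' : σ x ≠ x := hx
  have hxp : x ≠ p := fun e => hx' (by rw [e]; exact hσp)
  have hxr : x ≠ r := fun e => hx' (by rw [e]; exact hσr)
  have h5 : ({p, r, x} : Finset Ω) = Finset.univ := by
    refine Finset.eq_univ_of_card _ ?_
    rw [h3, Finset.card_insert_of_notMem, Finset.card_pair (Ne.symm hxr)]
    simp only [Finset.mem_insert, Finset.mem_singleton, not_or]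
    exact ⟨hpr, Ne.symm hxp⟩
  have h6 : σ x ∈ ({p, r, x} : Finset Ω) := by rw [h5]; exact Finset.mem_univ _
  simp only [Finset.mem_insert, Finset.mem_singleton] at h6
  rcases h6 with h6 | h6 | h6
  · exact hxp (σ.injective (h6.trans hσp.symm))
  · exact hxr (σ.injective (h6.trans hσr.symm))
  · exact hx' h6

/-- an element of `E b` which is trivial on the letters centralises `V` -/
theorem cent_of_one (F : Full S L V N E R₀ Om phi) {b : I} {t : G} (ht : t ∈ E b) (hσ : Rel (phi b) t 1) :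
    t ∈ centralizer (V : Set G) := by
  have h5 := (F.lett b).cent_of_one hσ
  rw [mem_centralizer_iff]
  intro v hv
  obtain ⟨n, hn1, hn2⟩ := F.toDec.ex_comp b hv
  have h6 := mem_centralizer_iff.1 h5 n hn1
  have h7 := mem_centralizer_iff.1 (LeftThree.cent_Co F.toDec b ht) _ hn2
  have e : v = n * (n⁻¹ * v) := by group
  rw [e, mul_assoc, h7, ← mul_assoc, h6, mul_assoc]

/-- the letter fixed by a transposition of `S ⊓ E b` is fixed by `S ⊓ E b` -/
theorem fix_p [Finite G] (F : Full S L V N E R₀ Om phi) (h3 : ∀ b, Fintype.card (Om b) = 3) (hS : IsPGroup 2 S) {b : I} {t : G}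
    (htS : t ∈ S) (htE : t ∈ E b) (hn : t ∉ centralizer (V : Set G)) {p : Om b}
    (hc : t * phi b (Finset.univ.erase p) * t⁻¹ = phi b (Finset.univ.erase p)) :
    ∀ s ∈ S ⊓ E b, ∀ σ, Rel (phi b) s σ → σ p = p := by
  obtain ⟨p₀, hp₀⟩ := Blk.exists_fix (T := S ⊓ E b) (F.lett b) (F.three b) inf_le_right (hS.to_le inf_le_left)
  obtain ⟨σ, hσ⟩ := (F.lett b).act t htE
  have h1 : σ p = p := ((F.lett b).fix_iff hσ p).1 hc
  have h2 : σ p₀ = p₀ := hp₀ t (mem_inf.2 ⟨htS, htE⟩) σ hσ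
  have h4 : p₀ = p := by
    by_contra hne
    rw [eq_one_of_two (h3 b) hne h2 h1] at hσ
    exact hn (cent_of_one F htE hσ)
  rw [← h4]
  exact hp₀

/-- `C_{N b}(S ∩ E b) = ⟨Ω_b - {p}⟩` -/
theorem line_eq (F : Full S L V N E R₀ Om phi) (h3 : ∀ b, Fintype.card (Om b) = 3) {b : I} {t : G}
    (htS : t ∈ S) (htE : t ∈ E b) (hn : t ∉ centralizer (V : Set G)) {p : Om b}
    (hp : ∀ s ∈ S ⊓ E b, ∀ σ, Rel (phi b) s σ → σ p = p) :
    N b ⊓ centralizer ((S ⊓ E b : Subgroup G) : Set G) = zpowers (phi b (Finset.univ.erase p)) := by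
  have hN : phi b (Finset.univ.erase p) ∈ N b := ((F.lett b).mem _).2 ⟨_, (F.lett b).even_erase p, rfl⟩
  apply le_antisymm
  · rintro w ⟨hw, hwc⟩
    obtain ⟨s, hs, rfl⟩ := ((F.lett b).mem _).1 hw
    rcases even_three (h3 b) hs with rfl | ⟨r, rfl⟩
    · rw [(F.lett b).phi_empty]; exact one_mem _
    · obtain ⟨σ, hσ⟩ := (F.lett b).act t htE
      have h1 : σ p = p := hp t (mem_inf.2 ⟨htS, htE⟩) σ hσ
      have h2 : σ r = r := ((F.lett b).fix_iff hσ r).1 (by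
        rw [mem_centralizer_iff.1 hwc t (mem_inf.2 ⟨htS, htE⟩)]; group)
      by_cases hrp : r = p
      · rw [hrp]; exact mem_zpowers _
      · exfalso
        rw [eq_one_of_two (h3 b) hrp h2 h1] at hσ
        exact hn (cent_of_one F htE hσ)
  · rw [zpowers_le, mem_inf, mem_centralizer_iff]
    refine ⟨hN, fun s hs => ?_⟩
    obtain ⟨σ, hσ⟩ := (F.lett b).act s (mem_inf.1 hs).2
    have h1 := ((F.lett b).fix_iff hσ p).2 (hp s hs σ hσ)
    exact mul_inv_eq_iff_eq_mul.1 h1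

/-- three transvections: a path of commuting and non-commuting ones needs four letters -/
theorem no_path (F : Full S L V N E R₀ Om phi) (h3 : ∀ b, Fintype.card (Om b) = 3) {t₁ t₂ t₃ c₁ c₂ c₃ : G} (h1 : t₁ ∈ L)
    (h2 : t₂ ∈ L) (h3' : t₃ ∈ L) (hc1 : c₁ ∈ V) (hc2 : c₂ ∈ V) (hc3 : c₃ ∈ V) (T1 : TvV V c₁ t₁) (T2 : TvV V c₂ t₂)
    (T3 : TvV V c₃ t₃) (n1 : t₁ ∉ centralizer (V : Set G)) (n2 : t₂ ∉ centralizer (V : Set G))
    (n3 : t₃ ∉ centralizer (V : Set G)) (h12 : t₂ * c₁ * t₂⁻¹ ≠ c₁) (h23 : t₃ * c₂ * t₃⁻¹ ≠ c₂)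
    (h13 : t₁ * c₃ * t₁⁻¹ = c₃) (hne : c₁ ≠ c₃) : False := by
  obtain ⟨b, p, q, hpq, e1, e2, hp, hq, htc⟩ := same_blk F h3 h1 h2 hc1 hc2 T1 T2 n1 n2 h12
  obtain ⟨b', q', r, hqr, e2', e3, hq', hr, -⟩ := same_blk F h3 h2 h3' hc2 hc3 T2 T3 n2 n3 h23
  have hNb : c₂ ∈ N b := by
    rw [hq]; exact ((F.lett b).mem _).2 ⟨_, (F.lett b).even_erase q, rfl⟩
  have hNb' : c₂ ∈ N b' := by
    rw [hq']; exact ((F.lett b').mem _).2 ⟨_, (F.lett b').even_erase q', rfl⟩
  have hbb : b' = b := by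
    by_contra hbb
    have h4 : c₂ ∈ N b ⊓ Co N R₀ b := mem_inf.2 ⟨hNb, F.toDec.N_le_Co hbb hNb'⟩
    rw [show N b ⊓ Co N R₀ b = ⊥ from F.toDec.ind b, mem_bot] at h4
    have h5 := Blk.erase_ne_one (F.lett b) (F.three b) q
    exact h5 (by rw [← hq, h4])
  subst hbb
  have Lb := F.lett b'
  obtain ⟨σ, hσ⟩ := Lb.act t₁ e1
  have hσp : σ p = p := (Lb.fix_iff hσ p).1 (by rw [← hp]; exact htc)
  have hσr : σ r = r := (Lb.fix_iff hσ r).1 (by rw [← hr]; exact h13)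
  have hpr : p ≠ r := by
    rintro rfl
    exact hne (by rw [hp, hr])
  exact n1 (cent_of_one F e1 (by rw [eq_one_of_two (h3 b') hpr hσp hσr] at hσ; exact hσ))

section sym

variable {P V' D : Subgroup G} {k m : ℕ} {M : SymKM S P V' D k m} (h : Sb M)
include h

/-- **the symmetric type needs four letters** -/
theorem no_sym (F : Full S L V N E R₀ Om phi) (h3 : ∀ b, Fintype.card (Om b) = 3) (hV' : V' ≤ V) (hPL : P ≤ L) {t c : G}
    {i : Fin k} {x y : Fin (2 ^ m + 1)} (hxy : x ≠ y) (hA : Ac M t (pr i x y)) (htP : t ∈ P) (hc : c ∈ V')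
    (hT : TvV V c t) : False := by
  classical
  obtain ⟨z, w, hzw, hzx, hzy, -, hwx, hwy, -⟩ := h.exists_ne x y x
  have hsw : pr i x y i = Equiv.swap x y := sg_self i _
  -- the centre
  obtain ⟨v, hv, hve⟩ := Sb.exists_pair M i x z
  have h1 := Sb.e_pair hA.1 hv hve
  rw [hsw, Equiv.swap_apply_left, Equiv.swap_apply_of_ne_of_ne hzx hzy] at h1
  have hvne : t * v * t⁻¹ ≠ v := by
    intro h4
    rw [h4, hve] at h1
    have h5 := congrFun (congrFun h1 i) x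
    rw [Pi.add_apply, Pi.add_apply, Pi.add_apply, Pi.add_apply, dl_self, dl_ne i (Ne.symm hzx), dl_ne i hxy] at h5
    revert h5; decide
  have hvc := (hT v (hV' hv)).resolve_left hvne
  have hce : M.e c = dl i x + dl i y := by
    have h4 := M.mul v hv c hc
    rw [← hvc, h1, hve] at h4
    have h5 : M.e c = dl i x + dl i z + (dl i y + dl i z) := by
      rw [h4, ← add_assoc, add_self2, zero_add]
    rw [h5]
    have h6 : dl i x + dl i z + (dl i y + dl i z) = dl i x + dl i y + (dl i z + dl i z) := by abel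
    rw [h6, add_self2, add_zero]
  -- the conjugates
  have hcj : ∀ g ∈ P, ∀ τ, Ac M g τ → g * t * g⁻¹ ∈ P ∧ g * c * g⁻¹ ∈ V' ∧ TvV V (g * c * g⁻¹) (g * t * g⁻¹) ∧
      g * t * g⁻¹ ∉ centralizer (V : Set G) ∧ M.e (g * c * g⁻¹) = dl i (τ i x) + dl i (τ i y) ∧
        Ac M (g * t * g⁻¹) (pr i (τ i x) (τ i y)) := by
    intro g hg τ hτ
    refine ⟨mul_mem (mul_mem hg htP) (inv_mem hg), h.memV hg hc, ?_, ?_, Sb.e_pair hτ.1 hc hce, ?_⟩
    · intro u hu
      have hu' : g⁻¹ * u * g ∈ V := by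
        have := (mem_normalizer_iff.1 (inv_mem ((hPL.trans F.LU) hg)) u).1 hu
        rwa [inv_inv] at this
      have e2 : g * t * g⁻¹ * u * (g * t * g⁻¹)⁻¹ = g * (t * (g⁻¹ * u * g) * t⁻¹) * g⁻¹ := by group
      rcases hT _ hu' with h4 | h4
      · left; rw [e2, h4]; group
      · right; rw [e2, h4]; group
    · intro h4
      apply hvne
      have h5 := Blk.cent h4 (hV' (h.memV hg hv))
      have e2 : g * t * g⁻¹ * (g * v * g⁻¹) * (g * t * g⁻¹)⁻¹ = g * (t * v * t⁻¹) * g⁻¹ := by group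
      rw [e2] at h5
      exact mul_left_cancel (mul_right_cancel h5)
    · have h4 := h.ac_mul (inv_mem hg) (h.ac_mul htP hτ hA) (h.ac_inv hg hτ)
      have e2 : τ * pr i x y * τ⁻¹ = pr i (τ i x) (τ i y) := by
        funext l
        by_cases hl : l = i
        · subst hl
          rw [Pi.mul_apply, Pi.mul_apply, Pi.inv_apply, pr, pr, sg_self, sg_self, Equiv.swap_apply_apply]
        · rw [Pi.mul_apply, Pi.mul_apply, Pi.inv_apply, pr, pr, sg_ne hl, sg_ne hl, mul_one, mul_inv_cancel]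
      rw [e2] at h4
      exact h4
  obtain ⟨f, hf1, hf2⟩ := exists_perm hxy (Ne.symm hzy)
  obtain ⟨f', hf1', hf2'⟩ := exists_perm hxy hzw
  obtain ⟨g, hg, hgτ⟩ := M.lift (sg i f)
  obtain ⟨g', hg', hgτ'⟩ := M.lift (sg i f')
  obtain ⟨a1, a2, a3, a4, a5, a6⟩ := hcj g hg _ hgτ
  obtain ⟨b1, b2, b3, b4, b5, b6⟩ := hcj g' hg' _ hgτ'
  rw [sg_self, hf1, hf2] at a5 a6
  rw [sg_self, hf1', hf2'] at b5 b6
  have tn : t ∉ centralizer (V : Set G) := fun h4 => hvne (Blk.cent h4 (hV' hv))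
  have one_ne : (1 : ZMod 2) ≠ 0 := by decide
  refine no_path F h3 (hPL htP) (hPL a1) (hPL b1) (hV' hc) (hV' a2) (hV' b2) hT a3 b3 tn a4 b4 ?_ ?_ ?_ ?_
  · -- `(y z)` moves `{x, y}`
    intro h4
    have h5 := Sb.e_pair a6.1 hc hce
    rw [h4, hce, pr, sg_self, Equiv.swap_apply_of_ne_of_ne hxy (Ne.symm hzx), Equiv.swap_apply_left] at h5
    have h6 := congrFun (congrFun h5 i) z
    rw [Pi.add_apply, Pi.add_apply, Pi.add_apply, Pi.add_apply, dl_ne i hzx, dl_ne i hzy, dl_self, zero_add, zero_add] at h6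
    exact one_ne h6.symm
  · -- `(z w)` moves `{y, z}`
    intro h4
    have h5 := Sb.e_pair b6.1 a2 a5
    rw [h4, a5, pr, sg_self, Equiv.swap_apply_of_ne_of_ne (Ne.symm hzy) (Ne.symm hwy), Equiv.swap_apply_left] at h5
    have h6 := congrFun (congrFun h5 i) w
    rw [Pi.add_apply, Pi.add_apply, Pi.add_apply, Pi.add_apply, dl_ne i hwy, dl_ne i (Ne.symm hzw), dl_self, zero_add,
      zero_add] at h6
    exact one_ne h6.symm
  · -- `(x y)` fixes `{z, w}`
    rcases hT _ (hV' b2) with h4 | h4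
    · exact h4
    exfalso
    have h5 := Sb.e_pair hA.1 b2 b5
    rw [h4, M.mul _ b2 _ hc, b5, hce, pr, sg_self, Equiv.swap_apply_of_ne_of_ne hzx hzy,
      Equiv.swap_apply_of_ne_of_ne hwx hwy] at h5
    have h6 := congrFun (congrFun (add_eq_left.1 h5) i) x
    rw [Pi.add_apply, Pi.add_apply, dl_self, dl_ne i hxy, add_zero] at h6
    exact one_ne h6
  · intro h4
    rw [← h4, hce] at b5
    have h6 := congrFun (congrFun b5 i) x
    rw [Pi.add_apply, Pi.add_apply, Pi.add_apply, Pi.add_apply, dl_self, dl_ne i hxy, dl_ne i (Ne.symm hzx),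
      dl_ne i (Ne.symm hwx), add_zero, add_zero] at h6
    exact one_ne h6

end sym

section main

variable [Finite G] {S : Sylow 2 G} {L P : Subgroup G} {I : Type u} {N E : I → Subgroup G} {R₀ : Subgroup G}
    {Om : I → Type u} [∀ i, Fintype (Om i)] [∀ i, DecidableEq (Om i)] {phi : ∀ i, Finset (Om i) → G}

open Cfsg.Agent.Omega.NOThreeL.RRed.Blk.AsmCore (EP EE EP_cj)

/-- **A small active `P` and the blocks of three letters**: `P` is natural over `𝔽₂`, its blocks are blocks `N b`. -/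
theorem act_two (hG : IsCharacteristicTwoType G) (hL : IsLoc (S : Subgroup G) L) (hP : IsParS (S : Subgroup G) P)
    (hPL : P ≤ L) (no : NoOverM (zl (S : Subgroup G) L) L)
    (F : Full (S : Subgroup G) L (zl (S : Subgroup G) L) N E R₀ Om phi) (h3 : ∀ b, Fintype.card (Om b) = 3)
    (h2 : Two2 S P) (ne : (EP (S : Subgroup G) P (zl (S : Subgroup G) L)).Nonempty) :
    ∃ (K : Type) (_ : Field K) (_ : Finite K) (_ : CharP K 2) (k : ℕ) (_ : 0 < k)
      (M : NatKM K (S : Subgroup G) P (zl (S : Subgroup G) P) (cv (S : Subgroup G) P) k) (h : Nb M),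
      Nat.card K = 2 ∧ (∀ j, DD M j = ⊥) ∧ ∀ j, ∃ b, N b = blk M j ∧
        YY h j = N b ⊓ centralizer (((S : Subgroup G) ⊓ E b : Subgroup G) : Set G) ∧
        (∃ t ∈ (S : Subgroup G) ⊓ E b, t ∉ centralizer (zl (S : Subgroup G) L : Set G)) ∧
        ∃ p, (∀ s ∈ (S : Subgroup G) ⊓ E b, ∀ σ, Rel (phi b) s σ → σ p = p) ∧
          YY h j = zpowers (phi b (Finset.univ.erase p)) := by
  have hVU : zl (S : Subgroup G) P ≤ zl (S : Subgroup G) L := NOThreeL.Star.zl_mono _ hPL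
  have hU2 := FFThm.elem_zl hG S hL
  obtain ⟨A, hA⟩ := ne
  have hAL : A ≤ L := hA.1.1.trans (hP.le.trans hPL)
  have hTt := NS.tt_of_mx hA.1.2 no hAL
  rcases h2 with ⟨K, _, _, k, hK, hk, ⟨M⟩⟩ | ⟨k, m, hk, hm, ⟨M⟩⟩
  · have : Finite K := Nat.finite_of_card_ne_zero (by rw [hK]; norm_num)
    have h := Inst.nb hG hP M
    obtain ⟨i, O⟩ := hTt.one h hU2 hVU hA.1.1 hA.2
    have key : ∀ j, ∃ b, blk M j = N b ∧ DD M j = ⊥ ∧
        (∃ t ∈ (S : Subgroup G) ⊓ E b, t ∉ centralizer (zl (S : Subgroup G) L : Set G)) ∧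
        ∃ p, (∀ s ∈ (S : Subgroup G) ⊓ E b, ∀ σ, Rel (phi b) s σ → σ p = p) ∧
          YY h j = zpowers (phi b (Finset.univ.erase p)) := by
      intro j
      have hPU : P ≤ normalizer (zl (S : Subgroup G) L : Set G) := hPL.trans F.LU
      obtain ⟨s, hs, hsS, -, O'⟩ := NS.exists_cj h hU2 hVU hPU hA.1.1 hTt O j
      have hA' : ChoiceBase.cj s A ∈ EP (S : Subgroup G) P (zl (S : Subgroup G) L) := by
        have := EP_cj hP.le hs (hPU (hP.le hs)) hA
        rwa [NS.conj_eq_cj] at this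
      have g := AsmSmall.gone_of_EP hG hL hP hPL no hA'
      obtain ⟨t, ht, c, hc, hc1, hT, hn⟩ := g.tv hG (Or.inl ⟨K, inferInstance, inferInstance, k, hK, hk, ⟨M⟩⟩)
      obtain ⟨β, hβ⟩ := O'.act t ht
      have htS : t ∈ (S : Subgroup G) := hsS ht
      have hn' : ∃ v ∈ zl (S : Subgroup G) P, t * v * t⁻¹ ≠ v := by
        by_contra hcon
        push Not at hcon
        apply hn
        apply g.cent
        refine mem_inf.2 ⟨ht, mem_centralizer_iff.2 fun v hv => ?_⟩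
        exact (mul_inv_eq_iff_eq_mul.1 (hcon v hv)).symm
      obtain ⟨b, h4, h5, h6, p, h7, h8⟩ := nat_blk F h3 h (two_of_card hK) hVU hPL hβ (hP.le htS) hc hT hn'
      refine ⟨b, h4, h5, ⟨t, mem_inf.2 ⟨htS, h6⟩, hn⟩, p, ?_, by rw [h8, h7]⟩
      refine fix_p F h3 S.isPGroup' htS h6 hn ?_
      rw [← h7]
      rcases hT c (hVU hc) with h9 | h9
      · exact h9
      · exfalso
        apply hc1
        have h10 : c * c = 1 := by rw [← pow_two]; exact hU2.2 c (hVU hc)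
        rw [h10] at h9
        have h11 : t * c * t⁻¹ = t * 1 * t⁻¹ := by rw [h9]; group
        exact mul_left_cancel (mul_right_cancel h11)
    refine ⟨K, inferInstance, inferInstance, inferInstance, k, hk, M, h, hK, fun j => ?_, fun j => ?_⟩
    · obtain ⟨b, -, h5, -⟩ := key j
      exact h5
    · obtain ⟨b, h4, -, ⟨t, ht, hn⟩, p, hp, h8⟩ := key j
      refine ⟨b, h4.symm, ?_, ⟨t, ht, hn⟩, p, hp, h8⟩
      rw [h8, line_eq F h3 (mem_inf.1 ht).1 (mem_inf.1 ht).2 hn hp]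
  · exfalso
    have h := Inst.sb hG hP hm M
    obtain ⟨i, x, y, t, n0, O⟩ := NS.Tt.oneS h hTt hU2 hVU hA.1.1 hA.2
    have g := AsmSmall.gone_of_EP hG hL hP hPL no hA
    obtain ⟨t₀, ht₀, c, hc, hc1, hT, hn⟩ := g.tv hG (Or.inr ⟨k, m, hk, hm, ⟨M⟩⟩)
    have h4 : t⁻¹ * t₀ ∈ centralizer (zl (S : Subgroup G) L : Set G) := (O.act t₀ ht₀).resolve_left hn
    have hT' : TvV (zl (S : Subgroup G) L) c t := by
      intro w hw
      have h5 := Blk.cent h4 hw
      have h6 : t * w * t⁻¹ = t₀ * w * t₀⁻¹ := by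
        have e : t₀ * w * t₀⁻¹ = t * (t⁻¹ * t₀ * w * (t⁻¹ * t₀)⁻¹) * t⁻¹ := by group
        rw [e, h5]
      rw [h6]
      exact hT w hw
    exact no_sym h F h3 hVU hPL O.xy O.tt (hP.le (hA.1.1 O.tA)) hc hT'

end main

end Cfsg.Agent.Omega.NOThreeL.RRed.Blk.SrcTwo

end

end

-- merged: Cfsg.Agent.Mrg.Omega.NOThreeL.RRed.Blk.SrcMix
section

section


/-!
# NO-3L, box R: the structure `Src` in the mixed case

`FF₁ = RRs S (MZ S) Q` : the natural root groups of order at least 4; `FF₂ = AsmTwo.FF S E Q` : the blocks of three letters;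
the index type is `↥(FF₁ ∪ FF₂)`.

* `cov_two` : block, line and order of the members of `FF₂`;
* `two_or_big` : an active `P` is small, or some `A ∈ EP` has `|im Q A| ≥ 4`;
* **`src_mix`** : `Src`, from the fields `act`, `mov` for the letters.
-/

set_option autoImplicit false
set_option linter.unusedSectionVars false

namespace Cfsg.Agent.Omega.NOThreeL.RRed.Blk.SrcMix

open Subgroup Cfsg Cfsg.Agent.ZN Cfsg.Agent.Omega.MinPar
open Cfsg.Agent.Omega.FFThm (NatKM SymKM)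
open Cfsg.Agent.Omega.FrameFF (cv)
open Cfsg.Agent.Omega.NO3S.ThmB (Nb)
open Cfsg.Agent.Omega.NO3S.KeyRad (blk)
open Cfsg.Agent.Omega.NOThreeL.RSplit (Nrm)
open Cfsg.Agent.Omega.NOThreeL.RRed.NS (fxd brk mem_fxd un val_mem_un DD YY)
open Cfsg.Agent.Omega.NOThreeL.RRed.WideTree (Act MvAct Src)
open Cfsg.Agent.Omega.NOThreeL.RTree (RB)
open Cfsg.Agent.Omega.NOThreeL.Merge (MZ le_MZ isLoc_MZ)
open Cfsg.Agent.Omega.NOThreeL.RRed.TvFin (Full)
open Cfsg.Agent.Omega.NOThreeL.RRed.Blk (Dec Co)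
open Cfsg.Agent.Omega.NOThreeL.RRed.Blk.TypesNat (XH ph ph_smul XH_faith ph_eq ph_surj no_XH two_of)
open Cfsg.Agent.Omega.NOThreeL.RRed.Blk.Asm (GB NB Fam FFs NN CC uN uN_pos uN_neg)
open Cfsg.Agent.Omega.NOThreeL.RRed.Blk.AsmCore (EP KP)
open Cfsg.Agent.Omega.NOThreeL.RRed.Blk.AsmG (Inp RRs)
open Cfsg.Agent.Omega.NOThreeL.RRed.Blk.AsmTwo (NF_im)
open Cfsg.Agent.Omega.NOThreeL.RRed.Blk.AsmOneBlk (EB nat_fam)
open Cfsg.Agent.Omega.NOThreeL.RRed.Blk.SrcBox (Cov act_cov mov_cov)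
open scoped Pointwise

universe u

variable {G : Type u} [Group G] [Finite G] {S : Sylow 2 G} {I : Type u} {N E : I → Subgroup G} {R₀ : Subgroup G}
  {Om : I → Type u} [∀ i, Fintype (Om i)] [∀ i, DecidableEq (Om i)] {phi : ∀ i, Finset (Om i) → G}

section two

variable {M V : Subgroup G} (F : Full (S : Subgroup G) M V N E R₀ Om phi) (Q : Nrm M V)
include F

/-- block, line and order of the letters' root groups -/
theorem cov_two (h3 : ∀ b, Fintype.card (Om b) = 3) (h2 : ∀ v : Q.Mod, v + v = 0) (b : I) :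
    Cov Q (TypesNat.im Q ((S : Subgroup G) ⊓ E b)) (AsmTwo.NF S E Q N (TypesNat.im Q ((S : Subgroup G) ⊓ E b))) (N b)
      (N b ⊓ centralizer (((S : Subgroup G) ⊓ E b : Subgroup G) : Set G)) 2 := by
  have hNV : N b ≤ V := F.toDec.NU b
  have hM : (S : Subgroup G) ⊓ E b ≤ M := inf_le_right.trans (F.EL b)
  refine ⟨?_, ?_, (AsmTwo.card_im F Q (h3 b) h2).symm⟩
  · rw [NF_im F Q]
    exact (AsmUn.un_ad Q hNV).symm
  · rw [SrcBox.line_eq h2 (fun x hx => XH_faith Q x hx) (AsmTwo.nb F Q (h3 b)), TypesNat.fxd_im Q hM]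
    ext x
    constructor
    · rintro ⟨h4, h5⟩
      exact ⟨Q.of x (hNV h4), ⟨h4, h5⟩, rfl⟩
    · rintro ⟨m, ⟨h4, h5⟩, rfl⟩
      exact ⟨h4, h5⟩

end two

/-- an active `P` is small, or some `A ∈ EP` has `|im Q A| ≥ 4` -/
theorem two_or_big (B : RB S) (mv : MvAct (S : Subgroup G))
    (Q : Nrm (MZ (S : Subgroup G)) (zl (S : Subgroup G) (MZ (S : Subgroup G))))
    (no : FFThm.NoOverM (zl (S : Subgroup G) (MZ (S : Subgroup G))) (MZ (S : Subgroup G))) {P : Subgroup G}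
    (a : Act (S : Subgroup G) P) :
    Two2 S P ∨ ∃ A ∈ EP (S : Subgroup G) P (zl (S : Subgroup G) (MZ (S : Subgroup G))), 4 ≤ Nat.card (AsmCore.im Q A) := by
  have hc := B.ctx.char2
  have hL := isLoc_MZ B.ctx B.full B.data.noff
  have ne : (EP (S : Subgroup G) P (zl (S : Subgroup G) (MZ (S : Subgroup G)))).Nonempty := AsmMv.EP_ne B a
  rcases AsmInp.type_of hc hL no a.1 (le_MZ a.1) ne with h | ⟨F, i1, i2, i3, k, h4, hk, ⟨M⟩⟩
  · exact Or.inl h
  · obtain ⟨A, hA⟩ := ne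
    obtain ⟨h5, -⟩ := AsmAct.typ_of hc hL a.1 (le_MZ a.1) no M h4 (NS.act_inf_eq_bot B mv a M (by omega)) Q hA
    exact Or.inr ⟨A, hA, h5⟩

/-- the field `act` for the small active `P` (helper559) -/
theorem act_letters (B : RB S) (no : FFThm.NoOverM (zl (S : Subgroup G) (MZ (S : Subgroup G))) (MZ (S : Subgroup G)))
    (F : Full (S : Subgroup G) (MZ (S : Subgroup G)) (zl (S : Subgroup G) (MZ (S : Subgroup G))) N E R₀ Om phi)
    (h3 : ∀ b, Fintype.card (Om b) = 3) {P : Subgroup G} (a : Act (S : Subgroup G) P) (h2 : Two2 S P) :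
    ∃ (K : Type) (_ : Field K) (_ : Finite K) (_ : CharP K 2) (k : ℕ) (_ : 0 < k)
      (M : NatKM K (S : Subgroup G) P (zl (S : Subgroup G) P) (cv (S : Subgroup G) P) k) (h : Nb M),
      (∀ j, DD M j = ⊥) ∧ ∀ j, ∃ b, N b = blk M j ∧
        N b ⊓ centralizer (((S : Subgroup G) ⊓ E b : Subgroup G) : Set G) = YY h j ∧ 2 = Nat.card K := by
  have ne : (EP (S : Subgroup G) P (zl (S : Subgroup G) (MZ (S : Subgroup G)))).Nonempty := AsmMv.EP_ne B a
  obtain ⟨K, i1, i2, i3, k, hk, M, h, hK, hD, h5⟩ := SrcTwo.act_two B.ctx.char2 (isLoc_MZ B.ctx B.full B.data.noff) a.1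
    (le_MZ a.1) no F h3 h2 ne
  refine ⟨K, i1, i2, i3, k, hk, M, h, hD, fun j => ?_⟩
  obtain ⟨b, e1, e2, -⟩ := h5 j
  exact ⟨b, e1, e2.symm, hK.symm⟩

/-- **`Src`, mixed case**, from the field `mov` for the letters. -/
theorem src_mix (B : RB S) (mv : MvAct (S : Subgroup G))
    (Q : Nrm (MZ (S : Subgroup G)) (zl (S : Subgroup G) (MZ (S : Subgroup G))))
    (no : FFThm.NoOverM (zl (S : Subgroup G) (MZ (S : Subgroup G))) (MZ (S : Subgroup G)))
    (F : Full (S : Subgroup G) (MZ (S : Subgroup G)) (zl (S : Subgroup G) (MZ (S : Subgroup G))) N E R₀ Om phi)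
    (h3 : ∀ b, Fintype.card (Om b) = 3)
    (mov₂ : ∀ b : I, ∃ P, Act (S : Subgroup G) P ∧ ∃ (K : Type) (_ : Field K) (_ : Finite K) (_ : CharP K 2) (k : ℕ)
      (_ : 0 < k) (M : NatKM K (S : Subgroup G) P (zl (S : Subgroup G) P) (cv (S : Subgroup G) P) k) (h : Nb M),
      (∀ j, DD M j = ⊥) ∧
      (∃ j, N b = blk M j ∧ N b ⊓ centralizer (((S : Subgroup G) ⊓ E b : Subgroup G) : Set G) = YY h j ∧ 2 = Nat.card K) ∧
      ∀ j, ∃ c, N c = blk M j ∧
        N c ⊓ centralizer (((S : Subgroup G) ⊓ E c : Subgroup G) : Set G) = YY h j ∧ 2 = Nat.card K) :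
    Src (S : Subgroup G)
      (fun b : ↥(RRs S (MZ (S : Subgroup G)) Q ∪ AsmTwo.FF S E Q) =>
        un Q (uN (RRs S (MZ (S : Subgroup G)) Q) (NN (EB S Q) Q.Mod) (AsmTwo.NF S E Q N) (b : Subgroup (XH Q))))
      (fun b => un Q (brk Q.Mod (b : Subgroup (XH Q)))) (fun b => Nat.card (b : Subgroup (XH Q))) := by
  obtain ⟨hI, h4, hGB, hF, -⟩ := nat_fam B mv no Q
  have h2 : ∀ v : Q.Mod, v + v = 0 := hI.two
  -- the two kinds of indices
  have cov₁ : ∀ D ∈ RRs S (MZ (S : Subgroup G)) Q, ∃ b : ↥(RRs S (MZ (S : Subgroup G)) Q ∪ AsmTwo.FF S E Q),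
      Cov Q D (NN (EB S Q) Q.Mod D)
        (un Q (uN (RRs S (MZ (S : Subgroup G)) Q) (NN (EB S Q) Q.Mod) (AsmTwo.NF S E Q N) (b : Subgroup (XH Q))))
        (un Q (brk Q.Mod (b : Subgroup (XH Q)))) (Nat.card (b : Subgroup (XH Q))) := fun D hD =>
    ⟨⟨D, Or.inl hD⟩, by rw [uN_pos hD], rfl, rfl⟩
  have nm : ∀ b : I, TypesNat.im Q ((S : Subgroup G) ⊓ E b) ∉ RRs S (MZ (S : Subgroup G)) Q := fun b h5 => by
    have h6 := h4 _ h5
    rw [AsmTwo.card_im F Q (h3 b) h2] at h6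
    omega
  have cov₂ : ∀ b : I, ∃ b' : ↥(RRs S (MZ (S : Subgroup G)) Q ∪ AsmTwo.FF S E Q),
      (b' : Subgroup (XH Q)) = TypesNat.im Q ((S : Subgroup G) ⊓ E b) ∧
      un Q (uN (RRs S (MZ (S : Subgroup G)) Q) (NN (EB S Q) Q.Mod) (AsmTwo.NF S E Q N) (b' : Subgroup (XH Q))) = N b ∧
      un Q (brk Q.Mod (b' : Subgroup (XH Q))) = N b ⊓ centralizer (((S : Subgroup G) ⊓ E b : Subgroup G) : Set G) ∧
      Nat.card (b' : Subgroup (XH Q)) = 2 := fun b => by
    have hc := cov_two F Q h3 h2 b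
    exact ⟨⟨TypesNat.im Q ((S : Subgroup G) ⊓ E b), Or.inr ⟨b, rfl⟩⟩, rfl, by rw [uN_neg (nm b)]; exact hc.n.symm,
      hc.l.symm, hc.q.symm⟩
  have hGB' : ∀ D ∈ RRs S (MZ (S : Subgroup G)) Q, NB D (NN (EB S Q) Q.Mod D) (CC (EB S Q) Q.Mod D) :=
    fun D hD => (hGB D hD).nb
  refine ⟨fun P a => ?_, ?_⟩
  · rcases two_or_big B mv Q no a with h | ⟨A, hA, h5⟩
    · obtain ⟨K, i1, i2, i3, k, hk, M, h, hD, h6⟩ := act_letters B no F h3 a h
      refine ⟨K, i1, i2, i3, k, hk, M, h, hD, fun j => ?_⟩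
      obtain ⟨b, e1, e2, e3⟩ := h6 j
      obtain ⟨b', -, e4, e5, e6⟩ := cov₂ b
      exact ⟨b', e4.trans e1, e5.trans e2, e6.trans e3⟩
    · exact act_cov B mv Q hGB' h4 hF.sinv cov₁ a.1 hA ⟨h5, P, a.1, le_MZ a.1, A, hA, rfl⟩
  · rintro ⟨D, hD | ⟨b, rfl⟩⟩
    · exact mov_cov B mv Q hI hGB h4 hF.sinv AsmOneBlk.rrs_sub cov₁ hD ⟨congrArg (un Q) (uN_pos hD), rfl, rfl⟩
    · obtain ⟨P, a, K, i1, i2, i3, k, hk, M, h, hD, ⟨j, e1, e2, e3⟩, h6⟩ := mov₂ b
      refine ⟨P, a, K, i1, i2, i3, k, hk, M, h, hD, ⟨j, ?_, ?_, ?_⟩, fun j => ?_⟩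
      · rw [uN_neg (nm b)]
        exact (cov_two F Q h3 h2 b).n.symm.trans e1
      · exact (cov_two F Q h3 h2 b).l.symm.trans e2
      · exact (cov_two F Q h3 h2 b).q.symm.trans e3
      · obtain ⟨c, e1, e2, e3⟩ := h6 j
        obtain ⟨b', -, e4, e5, e6⟩ := cov₂ c
        exact ⟨b', e4.trans e1, e5.trans e2, e6.trans e3⟩

end Cfsg.Agent.Omega.NOThreeL.RRed.Blk.SrcMix

end

section


/-!
# NO-3L, box R: `Src` for the blocks of three letters, the field `mov` (helper559)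

`F : Full S L V N E R₀ Om phi`, `|Ω_b| = 3` for all `b`, `V = zl S L`.

* `cent_J` : the `P`-conjugates of the members of `EP` centralise the blocks of an `S`-invariant set `J`, if the members do;
* `exists_z` : `C_V(S)` meets `⨆_{b ∈ J} N b`;
* `big_cent` : a minimal exact group of an active `P` over `K`, `|K| ≥ 4`, centralises all blocks of letters;
* `ep_nat` : `P` small, `A ∈ EP` : `A ≤ E b` for one block `b`, a block of `P`;
* **`act_two'`**, **`exists_small`** : every block is a block of a small active `P`.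
-/

set_option autoImplicit false
set_option linter.unusedSectionVars false

namespace Cfsg.Agent.Omega.NOThreeL.RRed.Blk.SrcTwoM

open Subgroup Cfsg Cfsg.Agent.ZN Cfsg.Agent.Omega.MinPar
open Cfsg.Agent.Omega.FFThm Cfsg.Agent.Lib.SL2Mat Cfsg.Agent.Omega.NatPair
open Cfsg.Agent.Omega.FrameFF (cv)
open Cfsg.Agent.Omega.NO3S.ThmB Cfsg.Agent.Omega.NO3S.KeyRad
open Cfsg.Agent.Omega.NOThreeL.RRed.NS (DD YY mem_YY)
open Cfsg.Agent.Omega.NOThreeL.RRed.TvFin (Full TvV)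
open Cfsg.Agent.Omega.NOThreeL.RRed.Blk (Dec Co IsC)
open Cfsg.Agent.Omega.NOThreeL.RRed.Blk.SrcTwo
open Cfsg.Agent.Omega.NOThreeL.RRed.Blk.AsmCore (EP EE KP EP_cj)
open Cfsg.Agent.Omega.KL.TwoS (Rel Lett)
open scoped Pointwise

universe u

section perm

variable {G : Type u} [Group G] {S : Subgroup G} {L V : Subgroup G} {I : Type u} {N E : I → Subgroup G} {R₀ : Subgroup G}

/-- `N b ≤ ⨆_{c ∈ J} N c` only for `b ∈ J` -/
theorem mem_of_le (D : Dec S L V N E R₀) {J : Set I} {b : I} (h : N b ≤ ⨆ c : J, N c) : b ∈ J := by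
  by_contra hb
  apply D.ne b
  have h1 : (⨆ c : J, N c) ≤ (⨆ c : {c // c ≠ b}, N c) ⊔ R₀ := by
    refine iSup_le fun c => le_trans ?_ le_sup_left
    exact le_iSup (fun c : {c // c ≠ b} => N c) ⟨c, fun e => hb (e ▸ c.2)⟩
  have h2 : N b ≤ N b ⊓ ((⨆ c : {c // c ≠ b}, N c) ⊔ R₀) := le_inf le_rfl (h.trans h1)
  rw [D.ind b] at h2
  exact le_bot_iff.1 h2

theorem norm_iSup {J : Set I} {g : G} (h : ∀ b ∈ J, ∃ c ∈ J, MulAut.conj g • N b = N c)
    (h' : ∀ b ∈ J, ∃ c ∈ J, MulAut.conj g⁻¹ • N b = N c) : g ∈ normalizer ((⨆ c : J, N c : Subgroup G) : Set G) := by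
  have key : ∀ x : G, (∀ b ∈ J, ∃ c ∈ J, MulAut.conj x • N b = N c) →
      MulAut.conj x • (⨆ c : J, N c) ≤ ⨆ c : J, N c := by
    intro x hx
    rw [Subgroup.pointwise_smul_subset_iff]
    refine iSup_le fun b => ?_
    rw [← Subgroup.pointwise_smul_subset_iff]
    obtain ⟨c, hc, e⟩ := hx b b.2
    rw [e]
    exact le_iSup (fun c : J => N c) ⟨c, hc⟩
  rw [mem_normalizer_iff]
  intro y
  constructor
  · intro hy
    exact key g h (Subgroup.smul_mem_pointwise_smul y _ _ hy)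
  · intro hy
    have h1 := key g⁻¹ h' (Subgroup.smul_mem_pointwise_smul _ _ _ hy)
    have e : MulAut.conj g⁻¹ • (g * y * g⁻¹) = y := by
      rw [MulAut.smul_def, MulAut.conj_apply]; group
    rw [e] at h1
    exact h1

variable [Finite G] {S : Sylow 2 G} {P : Subgroup G}

/-- **conjugates of the members of `EP`** -/
theorem cent_J (hc : IsCharacteristicTwoType G) (D : Dec (S : Subgroup G) L V N E R₀) (hP : IsParS (S : Subgroup G) P)
    (hPL : P ≤ L) (ne : (EP (S : Subgroup G) P V).Nonempty) {J : Set I}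
    (hS : (S : Subgroup G) ≤ normalizer ((⨆ c : J, N c : Subgroup G) : Set G))
    (hn : ∀ A ∈ EP (S : Subgroup G) P V, ∀ b, A ≤ normalizer (N b : Set G))
    (hA : ∀ A ∈ EP (S : Subgroup G) P V, ∀ b ∈ J, A ≤ centralizer (N b : Set G)) :
    P ≤ centralizer ((⨆ c : J, N c : Subgroup G) ⊓ centralizer ((S : Subgroup G) : Set G) : Subgroup G) := by
  have hKn : KP (S : Subgroup G) P V ≤ normalizer ((⨆ c : J, N c : Subgroup G) : Set G) := by
    rw [KP, closure_le]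
    rintro _ ⟨p, hp, A, hAE, a, ha, rfl⟩
    have h1 : ∀ b, p * a * p⁻¹ ∈ normalizer (N b : Set G) := by
      intro b
      obtain ⟨c, hc1, -⟩ := D.perm p⁻¹ (hPL (inv_mem hp)) b
      have h2 : N b = MulAut.conj p • N c := by
        rw [← hc1, ← mul_smul, ← map_mul, mul_inv_cancel, map_one, one_smul]
      have h3 := hn A hAE c ha
      rw [mem_normalizer_iff] at h3 ⊢
      intro y
      have e1 : ∀ w, w ∈ N b ↔ p⁻¹ * w * p ∈ N c := by
        intro w
        rw [h2, Subgroup.mem_pointwise_smul_iff_inv_smul_mem, ← map_inv, MulAut.smul_def, MulAut.conj_apply, inv_inv]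
      rw [e1, e1]
      have e2 : p⁻¹ * (p * a * p⁻¹ * y * (p * a * p⁻¹)⁻¹) * p = a * (p⁻¹ * y * p) * a⁻¹ := by group
      rw [e2]
      exact h3 (p⁻¹ * y * p)
    have key : ∀ x : G, (∀ b, x ∈ normalizer (N b : Set G)) → x ∈ normalizer ((⨆ c : J, N c : Subgroup G) : Set G) := by
      intro x hx
      have h4 : ∀ g : G, (∀ b, g ∈ normalizer (N b : Set G)) → ∀ b, MulAut.conj g • N b = N b :=
        fun g hg b => by
          ext y
          rw [Subgroup.mem_pointwise_smul_iff_inv_smul_mem, ← map_inv, MulAut.smul_def, MulAut.conj_apply]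
          exact ((mem_normalizer_iff.1 (inv_mem (hg b))) y).symm
      exact norm_iSup (fun b hb => ⟨b, hb, h4 x hx b⟩) fun b hb => ⟨b, hb, h4 x⁻¹ (fun b => inv_mem (hx b)) b⟩
    exact key _ h1
  have hPn : P ≤ normalizer ((⨆ c : J, N c : Subgroup G) : Set G) :=
    (AsmCore.le_KP_sup hc hP ne).trans (sup_le hKn hS)
  have hKc : KP (S : Subgroup G) P V ≤ centralizer ((⨆ c : J, N c : Subgroup G) : Set G) := by
    rw [le_centralizer_iff]
    refine iSup_le fun c => ?_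
    rw [le_centralizer_iff, KP, closure_le]
    rintro _ ⟨p, hp, A, hAE, a, ha, rfl⟩
    obtain ⟨b, hb1, -⟩ := D.perm p⁻¹ (hPL (inv_mem hp)) c
    have h2 : b ∈ J := by
      refine mem_of_le D ?_
      rw [← hb1]
      intro y hy
      rw [Subgroup.mem_pointwise_smul_iff_inv_smul_mem, ← map_inv, inv_inv, MulAut.smul_def, MulAut.conj_apply] at hy
      have h3 := le_iSup (fun c : J => N c) c hy
      exact (mem_normalizer_iff.1 (hPn hp) y).2 h3
    have h3 := hA A hAE b h2 ha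
    rw [SetLike.mem_coe, mem_centralizer_iff]
    intro n hn'
    have h4 : p⁻¹ * n * p ∈ N b := by
      rw [← hb1, Subgroup.mem_pointwise_smul_iff_inv_smul_mem, ← map_inv, inv_inv, MulAut.smul_def, MulAut.conj_apply]
      have e : p * (p⁻¹ * n * p) * p⁻¹ = n := by group
      rw [e]
      exact hn'
    have h5 := mem_centralizer_iff.1 h3 _ h4
    calc n * (p * a * p⁻¹) = p * (p⁻¹ * n * p * a) * p⁻¹ := by group
      _ = p * (a * (p⁻¹ * n * p)) * p⁻¹ := by rw [h5]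
      _ = _ := by group
  refine (AsmCore.le_KP_sup hc hP ne).trans (sup_le (hKc.trans ?_) ?_)
  · exact centralizer_le inf_le_left
  · rw [le_centralizer_iff]
    exact inf_le_right

/-- a fixed vector of `S` -/
theorem exists_z (hV2 : IsElementaryAbelian 2 V) (hVS : V ≤ (S : Subgroup G)) {B : Subgroup G} (hB : B ≤ V) (h1 : B ≠ ⊥)
    (hS : (S : Subgroup G) ≤ normalizer (B : Set G)) :
    ∃ z ∈ zc (S : Subgroup G), z ≠ 1 ∧ z ∈ B ⊓ centralizer ((S : Subgroup G) : Set G) := by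
  have hf2 : Fact (Nat.Prime 2) := ⟨Nat.prime_two⟩
  have h5 := PLocal.OffenderStep.inf_centralizer_ne_bot _ (S : Subgroup G) (S.isPGroup'.to_le (hB.trans hVS))
    S.isPGroup' hS h1
  obtain ⟨z, hz1⟩ := Subgroup.ne_bot_iff_exists_ne_one.1 h5
  exact ⟨z, ChoiceBase.mem_zc.2 ⟨hVS (hB z.2.1), hV2.2 _ (hB z.2.1), fun y hy => mem_centralizer_iff.1 z.2.2 y hy⟩,
    fun h => hz1 (Subtype.ext h), z.2⟩

end perm

section comp

variable {G : Type u} [Group G] {S : Subgroup G} {L V : Subgroup G} {I : Type u} {N E : I → Subgroup G} {R₀ : Subgroup G}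

/-- the component is unique -/
theorem comp_eq (D : Dec S L V N E R₀) {b : I} {m m' n n' : G} (hm : m ∈ N b) (hm' : m' ∈ N b) (hn : n ∈ Co N R₀ b)
    (hn' : n' ∈ Co N R₀ b) (e : m * n = m' * n') : m = m' := by
  have h1 : m'⁻¹ * m = n' * n⁻¹ := by
    rw [inv_mul_eq_iff_eq_mul, ← mul_assoc, ← e]; group
  have h2 : m'⁻¹ * m ∈ N b ⊓ Co N R₀ b := mem_inf.2 ⟨mul_mem (inv_mem hm') hm, h1 ▸ mul_mem hn' (inv_mem hn)⟩
  rw [show N b ⊓ Co N R₀ b = ⊥ from D.ind b, mem_bot, inv_mul_eq_one] at h2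
  exact h2.symm

end comp

section nat

variable {G : Type u} [Group G] {S L V : Subgroup G} {I : Type u} {N E : I → Subgroup G} {R₀ : Subgroup G} {Om : I → Type u}
    [∀ i, Fintype (Om i)] [∀ i, DecidableEq (Om i)] {phi : ∀ i, Finset (Om i) → G}

variable {K : Type} [Field K] [CharP K 2] {P V' D A : Subgroup G} {k : ℕ} {M : NatKM K S P V' D k} {j : Fin k}

theorem cent_of_zero (h : Nb M) (O : NO3S.ThmB.One M V A j) (hAP : A ≤ P) {a : G} (ha : a ∈ A)
    (hA : ActsSL M.e V' D a (sg j (up (0 : K)))) : a ∈ centralizer (V : Set G) := by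
  rw [mem_centralizer_iff]
  intro v hv
  obtain ⟨w, hw, -, c, -, hc, rfl⟩ := O.full v hv
  rw [up_zero, sg_one] at hA
  have h1 : a * w * a⁻¹ = w := by
    have := h.comm_of_one (hAP ha) hA hw
    rw [this]; group
  have h2 := mul_inv_eq_iff_eq_mul.1 h1
  calc w * c * a = w * (c * a) := by group
    _ = w * (a * c) := by rw [hc a ha]
    _ = w * a * c := by group
    _ = a * w * c := by rw [h2]
    _ = _ := by group

theorem zero_of_cent (hV' : V' ≤ V) {a : G} {β : K} (hA : ActsSL M.e V' D a (sg j (up β)))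
    (ha : a ∈ centralizer (V : Set G)) : β = 0 := by
  obtain ⟨w, hw, hwj, -⟩ := Nb.exists_single M j ![0, 1]
  have h1 := congrFun (hA.1 w hw j) 0
  rw [Blk.cent ha (hV' hw), sg_self, ap_up_0, hwj] at h1
  have h2 : 0 = β := by simpa using h1
  exact h2.symm

/-- `C_V(a) = C_V(A)` -/
theorem cent_all (h : Nb M) (O : NO3S.ThmB.One M V A j) (hAP : A ≤ P) {a : G} (ha : a ∈ A)
    (hn : a ∉ centralizer (V : Set G)) {v : G} (hv : v ∈ V) (hav : a * v * a⁻¹ = v) : ∀ x ∈ A, x * v * x⁻¹ = v := by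
  obtain ⟨β, hβ⟩ := O.act a ha
  have hβ0 : β ≠ 0 := by
    rintro rfl
    exact hn (cent_of_zero h O hAP ha hβ)
  obtain ⟨w, hw, -, c, -, hc, rfl⟩ := O.full v hv
  have e1 : ∀ x ∈ A, x * (w * c) * x⁻¹ = x * w * x⁻¹ * c := by
    intro x hx
    have h1 : x * c * x⁻¹ = c := by rw [hc x hx]; group
    calc x * (w * c) * x⁻¹ = (x * w * x⁻¹) * (x * c * x⁻¹) := by group
      _ = _ := by rw [h1]
  rw [e1 a ha] at hav
  have h2 : a * w * a⁻¹ = w := mul_right_cancel hav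
  have h3 := congrFun (hβ.1 w hw j) 0
  rw [h2, sg_self, ap_up_0] at h3
  have h4 : β * M.e w j 1 = 0 := by simpa using h3
  have h5 : M.e w j 1 = 0 := (mul_eq_zero.1 h4).resolve_left hβ0
  intro x hx
  rw [e1 x hx, (O.cen w hw).2 h5 x hx]
  group

/-- `A` is quadratic -/
theorem quad (h : Nb M) (O : NO3S.ThmB.One M V A j) (hAP : A ≤ P) {a x : G} (ha : a ∈ A) (hx : x ∈ A) {v : G} (hv : v ∈ V) :
    x * (a * v * a⁻¹ * v⁻¹) * x⁻¹ = a * v * a⁻¹ * v⁻¹ := by
  obtain ⟨β, hβ⟩ := O.act a ha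
  obtain ⟨w, hw, -, c, -, hc, rfl⟩ := O.full v hv
  have h1 : a * c * a⁻¹ = c := by rw [hc a ha]; group
  have e1 : a * (w * c) * a⁻¹ * (w * c)⁻¹ = a * w * a⁻¹ * w⁻¹ := by
    calc a * (w * c) * a⁻¹ * (w * c)⁻¹ = (a * w * a⁻¹) * (a * c * a⁻¹) * c⁻¹ * w⁻¹ := by group
      _ = _ := by rw [h1]; group
  have h3 : M.e (a * w * a⁻¹ * w⁻¹) j 1 = 0 := by
    have h4 : M.e (a * w * a⁻¹ * w⁻¹ * w) = M.e (a * w * a⁻¹ * w⁻¹) + M.e w :=
      M.mul _ (mul_mem (h.memV (hAP ha) hw) (inv_mem hw)) _ hw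
    have h5 : a * w * a⁻¹ * w⁻¹ * w = a * w * a⁻¹ := by group
    rw [h5] at h4
    have h6 := congrFun (hβ.1 w hw j) 1
    rw [sg_self, ap_up_1, h4] at h6
    exact add_eq_right.1 h6
  rw [e1, (O.cen _ (mul_mem (h.memV (hAP ha) hw) (inv_mem hw))).2 h3 x hx]
  group

/-- two images only -/
theorem two_orb (F : Full S L V N E R₀ Om phi) (h3 : ∀ b, Fintype.card (Om b) = 3) (hV2 : IsElementaryAbelian 2 V) (h : Nb M)
    (O : NO3S.ThmB.One M V A j) (hAP : A ≤ P) (hPL : P ≤ L) {a v : G} {b : I} (ha : a ∈ A) (hv : v ∈ N b)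
    (hav : a * v * a⁻¹ ≠ v) : ∀ x ∈ A, x * v * x⁻¹ = v ∨ x * v * x⁻¹ = a * v * a⁻¹ := by
  have D := F.toDec
  have hNV : ∀ c, N c ≤ V := fun c => by
    rw [← D.sup]
    exact (le_iSup N c).trans le_sup_left
  have hcj : ∀ {g : G} {c d : I}, MulAut.conj g • N c = N d → ∀ {y : G}, y ∈ N c → g * y * g⁻¹ ∈ N d := by
    intro g c d e y hy
    rw [← e]
    exact Subgroup.smul_mem_pointwise_smul y _ _ hy
  have hsq : ∀ y ∈ V, y * y = 1 := fun y hy => by rw [← pow_two]; exact hV2.2 y hy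
  have hinv : ∀ y ∈ V, y⁻¹ = y := fun y hy => inv_eq_of_mul_eq_one_left (hsq y hy)
  have hab : ∀ y ∈ V, ∀ z ∈ V, y * z = z * y := fun y hy z hz => mem_centralizer_iff.1 (D.ab hz) y hy
  have hv1 : v ≠ 1 := by
    rintro rfl
    apply hav; group
  intro x hx
  obtain ⟨c, hc, -⟩ := D.perm a (hPL (hAP ha)) b
  obtain ⟨d, hd, -⟩ := D.perm x (hPL (hAP hx)) b
  obtain ⟨d', hd', -⟩ := D.perm x (hPL (hAP hx)) c
  have m1 := hcj hc hv
  have m2 := hcj hd hv
  have m3 := hcj hd' m1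
  have hw := quad h O hAP ha hx (hNV b hv)
  have e1 : (x * v * x⁻¹) * (x * (a * v * a⁻¹) * x⁻¹) = v * (a * v * a⁻¹) := by
    have h4 : x * (a * v * a⁻¹ * v⁻¹) * x⁻¹ = (x * (a * v * a⁻¹) * x⁻¹) * (x * v * x⁻¹)⁻¹ := by group
    rw [h4, hinv _ (hNV _ m2), hinv _ (hNV _ hv)] at hw
    rw [hab _ (hNV _ m2) _ (hNV _ m3), hw, hab _ (hNV _ m1) _ (hNV _ hv)]
  have n2 : x * v * x⁻¹ ≠ 1 := by
    intro h4
    apply hv1
    have h5 : x * v * x⁻¹ = x * 1 * x⁻¹ := by rw [h4]; group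
    exact mul_left_cancel (mul_right_cancel h5)
  by_cases hbc : c = b
  · subst hbc
    have hdd : d' = d := D.Ninj (by rw [← hd', ← hd])
    subst hdd
    -- `x` fixes `v * a v`, so it fixes the block
    have hdc : d' = c := by
      by_contra hne
      have h4 : v * (a * v * a⁻¹) ∈ N d' := by rw [← e1]; exact mul_mem m2 m3
      have h5 := D.N_le_Co hne h4
      have h6 : v * (a * v * a⁻¹) ∈ N c ⊓ Co N R₀ c := mem_inf.2 ⟨mul_mem hv m1, h5⟩
      rw [show N c ⊓ Co N R₀ c = ⊥ from D.ind c, mem_bot] at h6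
      apply hav
      exact (eq_inv_of_mul_eq_one_right h6).trans (hinv v (hNV _ hv))
    subst hdc
    have Lb := F.lett d'
    obtain ⟨s, hs, hs'⟩ := (Lb.mem _).1 hv
    obtain ⟨s', hs1, hs1'⟩ := (Lb.mem _).1 m1
    have n1 : a * v * a⁻¹ ≠ 1 := by
      intro h4
      apply hv1
      have h5 : a * v * a⁻¹ = a * 1 * a⁻¹ := by rw [h4]; group
      exact mul_left_cancel (mul_right_cancel h5)
    rcases even_three (h3 d') hs with rfl | ⟨p, rfl⟩
    · exact absurd (hs'.symm.trans Lb.phi_empty) hv1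
    rcases even_three (h3 d') hs1 with rfl | ⟨q, rfl⟩
    · exact absurd (hs1'.symm.trans Lb.phi_empty) n1
    have hpq : p ≠ q := by
      rintro rfl
      exact hav (hs1'.symm.trans hs')
    have h4 := cover Lb (h3 d') hpq m2
    rw [hs', hs1'] at h4
    rcases h4 with h4 | h4 | h4 | h4
    · exact absurd h4 n2
    · exact Or.inl h4
    · exact Or.inr h4
    · exfalso
      rw [h4] at e1
      have h5 : x * (a * v * a⁻¹) * x⁻¹ = 1 := mul_eq_left.1 e1
      apply n1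
      have h6 : x * (a * v * a⁻¹) * x⁻¹ = x * 1 * x⁻¹ := by rw [h5]; group
      exact mul_left_cancel (mul_right_cancel h6)
  · have hdd : d ≠ d' := by
      intro h4
      apply hbc
      have h5 : MulAut.conj x • N b = MulAut.conj x • N c := by rw [hd, hd', h4]
      exact (D.Ninj ((MulAction.injective (MulAut.conj x)) h5)).symm
    have m3' := D.N_le_Co (Ne.symm hdd) m3
    by_cases hdb : d = b
    · subst hdb
      exact Or.inl (comp_eq D m2 hv m3' (D.N_le_Co hbc m1) e1)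
    by_cases hdc : d = c
    · subst hdc
      rw [hab _ (hNV _ hv) _ (hNV _ m1)] at e1
      exact Or.inr (comp_eq D m2 m1 m3' (D.N_le_Co (Ne.symm hdb) hv) e1)
    · exfalso
      apply n2
      refine comp_eq D m2 (one_mem _) m3' (mul_mem (D.N_le_Co (Ne.symm hdb) hv) (D.N_le_Co (Ne.symm hdc) m1)) ?_
      rw [e1, one_mul]

/-- **`A` over `K`, `|K| ≥ 4`, centralises all blocks of three letters** -/
theorem big_cent [Finite K] (F : Full S L V N E R₀ Om phi) (h3 : ∀ b, Fintype.card (Om b) = 3)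
    (hV2 : IsElementaryAbelian 2 V) (h : Nb M) (hK : 4 ≤ Nat.card K) (O : NO3S.ThmB.One M V A j) (hAP : A ≤ P) (hPL : P ≤ L)
    (hV' : V' ≤ V) (b : I) : A ≤ centralizer (N b : Set G) := by
  have hNV : ∀ c, N c ≤ V := fun c => by
    rw [← F.toDec.sup]
    exact (le_iSup N c).trans le_sup_left
  intro a ha
  by_contra hcon
  obtain ⟨v, hv, hav⟩ : ∃ v ∈ N b, a * v * a⁻¹ ≠ v := by
    by_contra h4
    push Not at h4
    exact hcon (mem_centralizer_iff.2 fun v hv => (mul_inv_eq_iff_eq_mul.1 (h4 v hv)).symm)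
  have key : ∀ x ∈ A, x ∈ centralizer (V : Set G) ∨ a⁻¹ * x ∈ centralizer (V : Set G) := by
    intro x hx
    rcases two_orb F h3 hV2 h O hAP hPL ha hv hav x hx with h4 | h4
    · left
      by_contra hn
      exact hav (cent_all h O hAP hx hn (hNV b hv) h4 a ha)
    · right
      by_contra hn
      have h5 : a⁻¹ * x * v * (a⁻¹ * x)⁻¹ = v := by
        have e : a⁻¹ * x * v * (a⁻¹ * x)⁻¹ = a⁻¹ * (x * v * x⁻¹) * a := by group
        rw [e, h4]; group
      exact hav (cent_all h O hAP (mul_mem (inv_mem ha) hx) hn (hNV b hv) h5 a ha)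
  obtain ⟨β, hβ⟩ := O.act a ha
  obtain ⟨γ, hγ0, hγ1⟩ : ∃ γ : K, γ ≠ 0 ∧ γ ≠ β := by
    by_contra h4
    push Not at h4
    have h5 : (Set.univ : Set K) ⊆ {0, β} := by
      intro x _
      rcases eq_or_ne x 0 with h6 | h6
      · exact Or.inl h6
      · exact Or.inr (h4 x h6)
    have h6 := Set.ncard_le_ncard h5 (Set.toFinite _)
    rw [Set.ncard_univ] at h6
    have h7 := h6.trans (Set.ncard_insert_le _ _)
    rw [Set.ncard_singleton] at h7
    omega
  obtain ⟨x, hx, hxγ⟩ := O.all γ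
  rcases key x hx with h4 | h4
  · exact hγ0 (zero_of_cent hV' hxγ h4)
  · have h5 := h.acts_mul (hAP hx) (h.acts_inv (hAP ha) hβ) hxγ
    rw [inv_sg, ← sg_mul] at h5
    have e1 : (up β)⁻¹ * up γ = up (γ - β) := by
      rw [inv_mul_eq_iff_eq_mul, up_mul]
      congr 1; ring
    rw [e1] at h5
    exact hγ1 (sub_eq_zero.1 (zero_of_cent hV' h5 h4))

end nat

section main

variable {G : Type u} [Group G] [Finite G] {S : Sylow 2 G} {L P : Subgroup G} {I : Type u} {N E : I → Subgroup G}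
    {R₀ : Subgroup G} {Om : I → Type u} [∀ i, Fintype (Om i)] [∀ i, DecidableEq (Om i)] {phi : ∀ i, Finset (Om i) → G}

/-- `A` belongs to the block `b` -/
def At (S : Sylow 2 G) (L : Subgroup G) (E : I → Subgroup G) (A : Subgroup G) (b : I) : Prop :=
  A ≤ E b ∧ ∃ t ∈ A, t ∉ centralizer (zl (S : Subgroup G) L : Set G)

/-- one block only -/
theorem At.uniq (F : Full (S : Subgroup G) L (zl (S : Subgroup G) L) N E R₀ Om phi) {A : Subgroup G} {b c : I}
    (h : At S L E A b) (h' : A ≤ E c) : b = c := by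
  by_contra hbc
  obtain ⟨h1, t, ht, hn⟩ := h
  apply hn
  rw [mem_centralizer_iff]
  intro v hv
  obtain ⟨n, hn1, hn2⟩ := F.toDec.ex_comp b hv
  have h3 := mem_centralizer_iff.1 (F.EC c b (Ne.symm hbc) (h' ht)) _ hn1
  have h4 := mem_centralizer_iff.1 (LeftThree.cent_Co F.toDec b (h1 ht)) _ hn2
  have e : v = n * (n⁻¹ * v) := by group
  rw [e]
  calc n * (n⁻¹ * v) * t = n * ((n⁻¹ * v) * t) := by group
    _ = n * (t * (n⁻¹ * v)) := by rw [h4]
    _ = n * t * (n⁻¹ * v) := by group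
    _ = t * n * (n⁻¹ * v) := by rw [h3]
    _ = _ := by group

/-- what `P` does -/
def BlkAt (S : Sylow 2 G) (L : Subgroup G) (N E : I → Subgroup G) (phi : ∀ i, Finset (Om i) → G) {K : Type} [Field K]
    [CharP K 2] {P V' D : Subgroup G} {k : ℕ} {M : NatKM K (S : Subgroup G) P V' D k} (h : Nb M) (j : Fin k) (b : I) : Prop :=
  N b = blk M j ∧ YY h j = N b ⊓ centralizer (((S : Subgroup G) ⊓ E b : Subgroup G) : Set G) ∧
    (∃ t ∈ (S : Subgroup G) ⊓ E b, t ∉ centralizer (zl (S : Subgroup G) L : Set G)) ∧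
    ∃ p, (∀ s ∈ (S : Subgroup G) ⊓ E b, ∀ σ, Rel (phi b) s σ → σ p = p) ∧
      YY h j = zpowers (phi b (Finset.univ.erase p))

/-- **the members of `EP` for a small natural `P`** -/
theorem ep_nat (hG : IsCharacteristicTwoType G) (hL : IsLoc (S : Subgroup G) L) (hP : IsParS (S : Subgroup G) P)
    (hPL : P ≤ L) (no : NoOverM (zl (S : Subgroup G) L) L)
    (F : Full (S : Subgroup G) L (zl (S : Subgroup G) L) N E R₀ Om phi) (h3 : ∀ b, Fintype.card (Om b) = 3)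
    {K : Type} [Field K] [Finite K] [CharP K 2] {k : ℕ} (hK : Nat.card K = 2) (hk : 0 < k)
    (M : NatKM K (S : Subgroup G) P (zl (S : Subgroup G) P) (cv (S : Subgroup G) P) k) (h : Nb M) {A : Subgroup G}
    (hA : A ∈ EP (S : Subgroup G) P (zl (S : Subgroup G) L)) {j : Fin k}
    (O : NO3S.ThmB.One M (zl (S : Subgroup G) L) A j) :
    DD M j = ⊥ ∧ ∃ b, At S L E A b ∧ BlkAt S L N E phi h j b := by
  have hVU : zl (S : Subgroup G) P ≤ zl (S : Subgroup G) L := NOThreeL.Star.zl_mono _ hPL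
  have hU2 := FFThm.elem_zl hG S hL
  have g := AsmSmall.gone_of_EP hG hL hP hPL no hA
  obtain ⟨t, ht, c, hc, hc1, hT, hn⟩ := g.tv hG (Or.inl ⟨K, inferInstance, inferInstance, k, hK, hk, ⟨M⟩⟩)
  obtain ⟨β, hβ⟩ := O.act t ht
  have htS : t ∈ (S : Subgroup G) := hA.1.1 ht
  have hAP : A ≤ P := hA.1.1.trans hP.le
  have hn' : ∃ v ∈ zl (S : Subgroup G) P, t * v * t⁻¹ ≠ v := by
    by_contra hcon
    push Not at hcon
    apply hn
    apply g.cent
    refine mem_inf.2 ⟨ht, mem_centralizer_iff.2 fun v hv => ?_⟩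
    exact (mul_inv_eq_iff_eq_mul.1 (hcon v hv)).symm
  obtain ⟨b, h4, h5, h6, p, h7, h8⟩ := nat_blk F h3 h (two_of_card hK) hVU hPL hβ (hP.le htS) hc hT hn'
  have htc : t * c * t⁻¹ = c := by
    rcases hT c (hVU hc) with h9 | h9
    · exact h9
    · exfalso
      apply hc1
      have h10 : c * c = 1 := by rw [← pow_two]; exact hU2.2 c (hVU hc)
      rw [h10] at h9
      have h11 : t * c * t⁻¹ = t * 1 * t⁻¹ := by rw [h9]; group
      exact mul_left_cancel (mul_right_cancel h11)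
  have hp := fix_p F h3 S.isPGroup' htS h6 hn (p := p) (by rw [← h7]; exact htc)
  have hβ0 : β ≠ 0 := by
    rintro rfl
    exact hn (cent_of_zero h O hAP ht hβ)
  have hβ1 : β = 1 := (two_of_card hK β).resolve_left hβ0
  refine ⟨h5, b, ⟨fun a ha => ?_, t, ht, hn⟩, h4.symm, ?_, ⟨t, mem_inf.2 ⟨htS, h6⟩, hn⟩, p, hp, by rw [h8, h7]⟩
  · obtain ⟨γ, hγ⟩ := O.act a ha
    rcases two_of_card hK γ with rfl | rfl
    · exact F.CE b (mem_inf.2 ⟨hPL (hAP ha), cent_of_zero h O hAP ha hγ⟩)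
    · have h9 := h.acts_mul (hAP ha) (h.acts_inv (hAP ht) hβ) hγ
      rw [hβ1, inv_sg, ← sg_mul, inv_mul_cancel] at h9
      have h10 : t⁻¹ * a ∈ centralizer (zl (S : Subgroup G) L : Set G) :=
        cent_of_zero h O hAP (mul_mem (inv_mem ht) ha) (by rw [up_zero]; exact h9)
      have h11 : t⁻¹ * a ∈ E b := F.CE b (mem_inf.2 ⟨hPL (hAP (mul_mem (inv_mem ht) ha)), h10⟩)
      have e : a = t * (t⁻¹ * a) := by group
      rw [e]
      exact mul_mem h6 h11
  · rw [h8, h7, line_eq F h3 htS h6 hn hp]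

/-- **A small active `P`.** -/
theorem act_two' (hG : IsCharacteristicTwoType G) (hL : IsLoc (S : Subgroup G) L) (hP : IsParS (S : Subgroup G) P)
    (hPL : P ≤ L) (no : NoOverM (zl (S : Subgroup G) L) L)
    (F : Full (S : Subgroup G) L (zl (S : Subgroup G) L) N E R₀ Om phi) (h3 : ∀ b, Fintype.card (Om b) = 3)
    (h2 : Two2 S P) (ne : (EP (S : Subgroup G) P (zl (S : Subgroup G) L)).Nonempty) :
    ∃ (K : Type) (_ : Field K) (_ : Finite K) (_ : CharP K 2) (k : ℕ) (_ : 0 < k)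
      (M : NatKM K (S : Subgroup G) P (zl (S : Subgroup G) P) (cv (S : Subgroup G) P) k) (h : Nb M),
      Nat.card K = 2 ∧ (∀ j, DD M j = ⊥) ∧ (∀ j, ∃ b, BlkAt S L N E phi h j b) ∧
      (∀ A ∈ EP (S : Subgroup G) P (zl (S : Subgroup G) L), ∃ b, At S L E A b) ∧
        ∀ A ∈ EP (S : Subgroup G) P (zl (S : Subgroup G) L), ∀ b, At S L E A b → ∃ j, BlkAt S L N E phi h j b := by
  have hVU : zl (S : Subgroup G) P ≤ zl (S : Subgroup G) L := NOThreeL.Star.zl_mono _ hPL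
  have hU2 := FFThm.elem_zl hG S hL
  obtain ⟨K, i1, i2, i3, k, hk, M, h, hK, -⟩ := act_two hG hL hP hPL no F h3 h2 ne
  have one : ∀ A ∈ EP (S : Subgroup G) P (zl (S : Subgroup G) L), NS.Tt (zl (S : Subgroup G) L) A ∧
      ∃ j, NO3S.ThmB.One M (zl (S : Subgroup G) L) A j := fun A hA => by
    have hAL : A ≤ L := hA.1.1.trans (hP.le.trans hPL)
    have t := NS.tt_of_mx hA.1.2 no hAL
    exact ⟨t, t.one h hU2 hVU hA.1.1 hA.2⟩
  have hPU : P ≤ normalizer (zl (S : Subgroup G) L : Set G) := hPL.trans F.LU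
  have all : ∀ j, ∃ A ∈ EP (S : Subgroup G) P (zl (S : Subgroup G) L), NO3S.ThmB.One M (zl (S : Subgroup G) L) A j := by
    intro j
    obtain ⟨A, hA⟩ := ne
    obtain ⟨t, i, O⟩ := one A hA
    obtain ⟨s, hs, -, -, O'⟩ := NS.exists_cj h hU2 hVU hPU hA.1.1 t O j
    have h4 := EP_cj hP.le hs (hPU (hP.le hs)) hA
    rw [NS.conj_eq_cj] at h4
    exact ⟨_, h4, O'⟩
  refine ⟨K, i1, i2, i3, k, hk, M, h, hK, fun j => ?_, fun j => ?_, fun A hA => ?_, fun A hA b hb => ?_⟩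
  · obtain ⟨A, hA, O⟩ := all j
    exact (ep_nat hG hL hP hPL no F h3 hK hk M h hA O).1
  · obtain ⟨A, hA, O⟩ := all j
    obtain ⟨-, b, -, hb⟩ := ep_nat hG hL hP hPL no F h3 hK hk M h hA O
    exact ⟨b, hb⟩
  · obtain ⟨-, j, O⟩ := one A hA
    obtain ⟨-, b, hb, -⟩ := ep_nat hG hL hP hPL no F h3 hK hk M h hA O
    exact ⟨b, hb⟩
  · obtain ⟨-, j, O⟩ := one A hA
    obtain ⟨-, c, hc, hc'⟩ := ep_nat hG hL hP hPL no F h3 hK hk M h hA O
    have e : b = c := hb.uniq F hc.1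
    subst e
    exact ⟨j, hc'⟩

/-- the blocks of the orbit of `b` -/
theorem norm_orb (F : Full (S : Subgroup G) L (zl (S : Subgroup G) L) N E R₀ Om phi) (b : I) :
    (S : Subgroup G) ≤ normalizer ((⨆ c : {c | ∃ s ∈ (S : Subgroup G), MulAut.conj s • N b = N c}, N c : Subgroup G) :
      Set G) := by
  have key : ∀ g ∈ (S : Subgroup G), ∀ c ∈ {c | ∃ s ∈ (S : Subgroup G), MulAut.conj s • N b = N c},
      ∃ d ∈ {c | ∃ s ∈ (S : Subgroup G), MulAut.conj s • N b = N c}, MulAut.conj g • N c = N d := by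
    rintro g hg c ⟨s, hs, e⟩
    obtain ⟨d, hd, -⟩ := F.toDec.perm g (F.SL hg) c
    refine ⟨d, ⟨g * s, mul_mem hg hs, ?_⟩, hd⟩
    rw [map_mul, mul_smul, e, hd]
  exact fun g hg => norm_iSup (key g hg) (key g⁻¹ (inv_mem hg))

/-- **Every block of three letters is a block of a small active `P`.** -/
theorem exists_small (hG : IsCharacteristicTwoType G) (hL : IsLoc (S : Subgroup G) L)
    (no : NoOverM (zl (S : Subgroup G) L) L)
    (F : Full (S : Subgroup G) L (zl (S : Subgroup G) L) N E R₀ Om phi) (h3 : ∀ b, Fintype.card (Om b) = 3)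
    (mv : ∀ z ∈ zc (S : Subgroup G), z ≠ 1 → ∃ P, IsParS (S : Subgroup G) P ∧ P ≤ L ∧
      (EP (S : Subgroup G) P (zl (S : Subgroup G) L)).Nonempty ∧ ¬ P ≤ centralizer ({z} : Set G)) (b : I) :
    ∃ P, IsParS (S : Subgroup G) P ∧ P ≤ L ∧ Two2 S P ∧
      ∃ A ∈ EP (S : Subgroup G) P (zl (S : Subgroup G) L), At S L E A b := by
  have hU2 := FFThm.elem_zl hG S hL
  have hVS : zl (S : Subgroup G) L ≤ (S : Subgroup G) :=
    ((hL.zl_le S hG).trans (MinSimple.VModule.zc_le _)).trans (hL.o2_le S)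
  have D := F.toDec
  set J : Set I := {c | ∃ s ∈ (S : Subgroup G), MulAut.conj s • N b = N c} with hJ
  have hbJ : b ∈ J := ⟨1, one_mem _, by rw [map_one, one_smul]⟩
  have hBV : (⨆ c : J, N c) ≤ zl (S : Subgroup G) L := by
    rw [← D.sup]
    exact (iSup_le fun c : J => le_iSup N c.1 : (⨆ c : J, N c) ≤ ⨆ b, N b).trans le_sup_left
  have hB1 : (⨆ c : J, N c) ≠ ⊥ := by
    intro h4
    apply D.ne b
    rw [eq_bot_iff, ← h4]
    exact le_iSup (fun c : J => N c) ⟨b, hbJ⟩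
  have hSJ : (S : Subgroup G) ≤ normalizer ((⨆ c : J, N c : Subgroup G) : Set G) := norm_orb F b
  obtain ⟨z, hz, hz1, hzB⟩ := exists_z hU2 hVS hBV hB1 hSJ
  obtain ⟨P, hP, hPL, ne, hPz⟩ := mv z hz hz1
  have hVU : zl (S : Subgroup G) P ≤ zl (S : Subgroup G) L := NOThreeL.Star.zl_mono _ hPL
  have fin : ∀ (_ : ∀ A ∈ EP (S : Subgroup G) P (zl (S : Subgroup G) L), ∀ b, A ≤ normalizer (N b : Set G))
      (_ : ∀ A ∈ EP (S : Subgroup G) P (zl (S : Subgroup G) L), ∀ b ∈ J, A ≤ centralizer (N b : Set G)), False := by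
    intro h4 h5
    apply hPz
    refine (cent_J hG D hP hPL ne hSJ h4 h5).trans (centralizer_le ?_)
    rintro _ rfl
    exact hzB
  rcases AsmInp.type_of hG hL no hP hPL ne with h2 | ⟨K, i1, i2, i3, k, hK, hk, ⟨M⟩⟩
  · refine ⟨P, hP, hPL, h2, ?_⟩
    obtain ⟨K, i1, i2, i3, k, hk, M, h, hK, -, -, h4, -⟩ := act_two' hG hL hP hPL no F h3 h2 ne
    obtain ⟨A, hA, c, hc, hcJ⟩ : ∃ A ∈ EP (S : Subgroup G) P (zl (S : Subgroup G) L), ∃ c, At S L E A c ∧ c ∈ J := by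
      by_contra hcon
      push Not at hcon
      refine fin (fun A hA b => ?_) fun A hA b hb => ?_
      · obtain ⟨c, hc⟩ := h4 A hA
        by_cases hbc : c = b
        · subst hbc
          exact hc.1.trans (F.EN c)
        · exact (hc.1.trans (F.EC c b hbc)).trans (centralizer_le_normalizer _)
      · obtain ⟨c, hc⟩ := h4 A hA
        exact hc.1.trans (F.EC c b fun e => hcon A hA c hc (e ▸ hb))
    obtain ⟨s, hs, e⟩ := hcJ
    have hPU : P ≤ normalizer (zl (S : Subgroup G) L : Set G) := hPL.trans F.LU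
    have h5 := EP_cj hP.le (inv_mem hs) (hPU (hP.le (inv_mem hs))) hA
    refine ⟨_, h5, ?_, ?_⟩
    · obtain ⟨d, hd1, hd2⟩ := D.perm s⁻¹ (F.SL (inv_mem hs)) c
      have hdb : d = b := by
        apply D.Ninj
        rw [← hd1, ← e, ← mul_smul, ← map_mul, inv_mul_cancel, map_one, one_smul]
      rw [hdb] at hd2
      rw [← hd2]
      exact Subgroup.pointwise_smul_le_pointwise_smul_iff.2 hc.1
    · obtain ⟨-, t, ht, hn⟩ := hc
      refine ⟨s⁻¹ * t * s⁻¹⁻¹, Subgroup.smul_mem_pointwise_smul t _ _ ht, fun h6 => hn ?_⟩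
      rw [mem_centralizer_iff] at h6 ⊢
      intro v hv
      have h7 : s⁻¹ * v * s ∈ zl (S : Subgroup G) L := by
        have := (mem_normalizer_iff.1 (hPU (hP.le (inv_mem hs))) v).1 hv
        rwa [inv_inv] at this
      have h8 := h6 _ h7
      have h9 : s * (s⁻¹ * v * s * (s⁻¹ * t * s⁻¹⁻¹)) * s⁻¹ = s * (s⁻¹ * t * s⁻¹⁻¹ * (s⁻¹ * v * s)) * s⁻¹ := by rw [h8]
      have e1 : s * (s⁻¹ * v * s * (s⁻¹ * t * s⁻¹⁻¹)) * s⁻¹ = v * t := by group
      have e2 : s * (s⁻¹ * t * s⁻¹⁻¹ * (s⁻¹ * v * s)) * s⁻¹ = t * v := by group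
      rwa [e1, e2] at h9
  · exfalso
    have h := Inst.nb hG hP M
    have h6 : ∀ A ∈ EP (S : Subgroup G) P (zl (S : Subgroup G) L), ∀ b, A ≤ centralizer (N b : Set G) := by
      intro A hA b
      obtain ⟨j, O⟩ := AsmAct.one_of hG hL hP hPL no M hA
      exact big_cent F h3 hU2 h hK O (hA.1.1.trans hP.le) hPL hVU b
    exact fin (fun A hA b => (h6 A hA b).trans (centralizer_le_normalizer _)) fun A hA b _ => h6 A hA b

end main

section cov

open Cfsg.Agent.Omega.NOThreeL.RSplit (Nrm)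
open Cfsg.Agent.Omega.NOThreeL.RRed.NS (un fxd brk val_mem_un mem_fxd)
open Cfsg.Agent.Omega.NOThreeL.RRed.Blk.TypesNat (XH ph ph_smul)
open Cfsg.Agent.Omega.NOThreeL.RRed.Blk.AsmCore (im mem_im ph_mem_im)

variable {G : Type u} [Group G] [Finite G] {S : Sylow 2 G} {L V : Subgroup G} {I : Type u} {N E : I → Subgroup G}
    {R₀ : Subgroup G} {Om : I → Type u} [∀ i, Fintype (Om i)] [∀ i, DecidableEq (Om i)] {phi : ∀ i, Finset (Om i) → G}

/-- the line in the module -/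
theorem line_un (D : Dec (S : Subgroup G) L V N E R₀) (Q : Nrm L V) (b : I) :
    N b ⊓ centralizer (((S : Subgroup G) ⊓ E b : Subgroup G) : Set G) =
      un Q (Q.ad (N b) ⊓ (fxd (im Q ((S : Subgroup G) ⊓ E b)) : AddSubgroup Q.Mod)) := by
  have hNV : N b ≤ V := by
    rw [← D.sup]
    exact (le_iSup N b).trans le_sup_left
  ext x
  constructor
  · rintro ⟨hx, hx'⟩
    refine ⟨Q.of x (hNV hx), ⟨hx, ?_⟩, rfl⟩
    rintro a ⟨y, hy, rfl⟩
    rw [ph_smul]
    refine (NS.smul_eq_iff Q _ _).2 ?_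
    have h1 := mem_centralizer_iff.1 hx' _ hy
    exact mul_inv_eq_iff_eq_mul.2 h1
  · rintro ⟨m, ⟨hm, hm'⟩, rfl⟩
    refine ⟨hm, mem_centralizer_iff.2 fun y hy => ?_⟩
    have hyL : y ∈ L := D.EL b hy.2
    have h1 := hm' (ph Q ⟨y, hyL⟩) (ph_mem_im Q (a := ⟨y, hyL⟩) hy)
    rw [ph_smul] at h1
    exact mul_inv_eq_iff_eq_mul.1 ((NS.smul_eq_iff Q _ _).1 h1)

/-- **The letters' blocks in the form of `SrcBox`.** -/
theorem cov_let (F : Full (S : Subgroup G) L V N E R₀ Om phi) (Q : Nrm L V) (hV2 : ∀ v : Q.Mod, v + v = 0) {b : I}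
    (hc : Fintype.card (Om b) = 3) :
    SrcBox.Cov Q (im Q ((S : Subgroup G) ⊓ E b)) (AsmTwo.NF S E Q N (im Q ((S : Subgroup G) ⊓ E b))) (N b)
      (N b ⊓ centralizer (((S : Subgroup G) ⊓ E b : Subgroup G) : Set G)) 2 := by
  have hNV : N b ≤ V := by
    rw [← F.toDec.sup]
    exact (le_iSup N b).trans le_sup_left
  have h1 := AsmTwo.nb F Q hc
  have e : AsmTwo.NF S E Q N (im Q ((S : Subgroup G) ⊓ E b)) = Q.ad (N b) := AsmTwo.NF_im F Q N b
  rw [e]
  exact SrcBox.cov_of hV2 h1 (AsmMv.un_ad Q hNV).symm (line_un F.toDec Q b) (AsmTwo.card_im F Q hc hV2).symm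

end cov

end Cfsg.Agent.Omega.NOThreeL.RRed.Blk.SrcTwoM

end

section


/-!
# NO-3L, box R: the structure `Src` in the mixed case, final form

* `mov_letters` : the field `mov` for the letters (from helper559's `exists_small`, `act_two'`);
* **`src_mixed`** : `Src` for the index type `↥(RRs ∪ FF₂)`, no hypothesis left.
-/

set_option autoImplicit false
set_option linter.unusedSectionVars false

namespace Cfsg.Agent.Omega.NOThreeL.RRed.Blk.SrcMix

open Subgroup Cfsg Cfsg.Agent.ZN Cfsg.Agent.Omega.MinPar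
open Cfsg.Agent.Omega.FFThm (NatKM SymKM)
open Cfsg.Agent.Omega.FrameFF (cv)
open Cfsg.Agent.Omega.NO3S.ThmB (Nb)
open Cfsg.Agent.Omega.NO3S.KeyRad (blk)
open Cfsg.Agent.Omega.NOThreeL.RSplit (Nrm)
open Cfsg.Agent.Omega.NOThreeL.RRed.NS (fxd brk mem_fxd un val_mem_un DD YY)
open Cfsg.Agent.Omega.NOThreeL.RRed.WideTree (Act MvAct Src)
open Cfsg.Agent.Omega.NOThreeL.RTree (RB)
open Cfsg.Agent.Omega.NOThreeL.Merge (MZ le_MZ isLoc_MZ)
open Cfsg.Agent.Omega.NOThreeL.RRed.TvFin (Full)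
open Cfsg.Agent.Omega.NOThreeL.RRed.Blk (Dec Co)
open Cfsg.Agent.Omega.NOThreeL.RRed.Blk.TypesNat (XH)
open Cfsg.Agent.Omega.NOThreeL.RRed.Blk.Asm (NN CC uN)
open Cfsg.Agent.Omega.NOThreeL.RRed.Blk.AsmG (RRs)
open Cfsg.Agent.Omega.NOThreeL.RRed.Blk.AsmOneBlk (EB)
open scoped Pointwise

universe u

variable {G : Type u} [Group G] [Finite G] {S : Sylow 2 G} {I : Type u} {N E : I → Subgroup G} {R₀ : Subgroup G}
  {Om : I → Type u} [∀ i, Fintype (Om i)] [∀ i, DecidableEq (Om i)] {phi : ∀ i, Finset (Om i) → G}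

/-- the field `mov` for the letters -/
theorem mov_letters (B : RB S) (mv : MvAct (S : Subgroup G))
    (no : FFThm.NoOverM (zl (S : Subgroup G) (MZ (S : Subgroup G))) (MZ (S : Subgroup G)))
    (F : Full (S : Subgroup G) (MZ (S : Subgroup G)) (zl (S : Subgroup G) (MZ (S : Subgroup G))) N E R₀ Om phi)
    (h3 : ∀ b, Fintype.card (Om b) = 3) (b : I) :
    ∃ P, Act (S : Subgroup G) P ∧ ∃ (K : Type) (_ : Field K) (_ : Finite K) (_ : CharP K 2) (k : ℕ)
      (_ : 0 < k) (M : NatKM K (S : Subgroup G) P (zl (S : Subgroup G) P) (cv (S : Subgroup G) P) k) (h : Nb M),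
      (∀ j, DD M j = ⊥) ∧
      (∃ j, N b = blk M j ∧ N b ⊓ centralizer (((S : Subgroup G) ⊓ E b : Subgroup G) : Set G) = YY h j ∧ 2 = Nat.card K) ∧
      ∀ j, ∃ c, N c = blk M j ∧
        N c ⊓ centralizer (((S : Subgroup G) ⊓ E c : Subgroup G) : Set G) = YY h j ∧ 2 = Nat.card K := by
  have hc := B.ctx.char2
  have hL := isLoc_MZ B.ctx B.full B.data.noff
  obtain ⟨P, hP, hPL, h2, A, hA, hAt⟩ := SrcTwoM.exists_small hc hL no F h3 (fun z hz hz1 => by
    obtain ⟨P, a, hPz⟩ := mv z hz hz1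
    exact ⟨P, a.1, le_MZ a.1, AsmMv.EP_ne B a, hPz⟩) b
  have a : Act (S : Subgroup G) P := AsmMv.act_of_EP B hP hA
  obtain ⟨K, i1, i2, i3, k, hk, M, h, hK, hD, h4, h5, h6⟩ := SrcTwoM.act_two' hc hL hP hPL no F h3 h2 ⟨A, hA⟩
  obtain ⟨j, hj⟩ := h6 A hA b hAt
  refine ⟨P, a, K, i1, i2, i3, k, hk, M, h, hD, ⟨j, hj.1, hj.2.1.symm, hK.symm⟩, fun j => ?_⟩
  obtain ⟨c, hc'⟩ := h4 j
  exact ⟨c, hc'.1, hc'.2.1.symm, hK.symm⟩

/-- **`Src`, mixed case.** -/
theorem src_mixed (B : RB S) (mv : MvAct (S : Subgroup G))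
    (Q : Nrm (MZ (S : Subgroup G)) (zl (S : Subgroup G) (MZ (S : Subgroup G))))
    (no : FFThm.NoOverM (zl (S : Subgroup G) (MZ (S : Subgroup G))) (MZ (S : Subgroup G)))
    (F : Full (S : Subgroup G) (MZ (S : Subgroup G)) (zl (S : Subgroup G) (MZ (S : Subgroup G))) N E R₀ Om phi)
    (h3 : ∀ b, Fintype.card (Om b) = 3) :
    Src (S : Subgroup G)
      (fun b : ↥(RRs S (MZ (S : Subgroup G)) Q ∪ AsmTwo.FF S E Q) =>
        un Q (uN (RRs S (MZ (S : Subgroup G)) Q) (NN (EB S Q) Q.Mod) (AsmTwo.NF S E Q N) (b : Subgroup (XH Q))))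
      (fun b => un Q (brk Q.Mod (b : Subgroup (XH Q)))) (fun b => Nat.card (b : Subgroup (XH Q))) :=
  src_mix B mv Q no F h3 fun b => mov_letters B mv no F h3 b

end Cfsg.Agent.Omega.NOThreeL.RRed.Blk.SrcMix

end

end

-- merged: Cfsg.Agent.Mrg.Omega.NOThreeL.RRed.Blk.AsmLeftB
section

section


/-!
# NO-3L, box R, the left case: the blocks (helper283)

* **`fin`** : if the blocks of letters have three letters: `NBs`, `Src`, `Fits` for the mixed family.
-/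

set_option autoImplicit false
set_option linter.unusedSectionVars false

namespace Cfsg.Agent.Omega.NOThreeL.RRed.Blk.AsmLeftB

open Subgroup Cfsg Cfsg.Agent.ZN Cfsg.Agent.Omega.MinPar
open Cfsg.Agent.Omega.FFThm (NatKM SymKM NoOverM)
open Cfsg.Agent.Omega.FrameFF (cv)
open Cfsg.Agent.Omega.NO3S.ThmB (Nb)
open Cfsg.Agent.Omega.NO3S.KeyRad (blk)
open Cfsg.Agent.Omega.NOThreeL.RSplit (Nrm)
open Cfsg.Agent.Omega.NOThreeL.RRed.NS (fxd brk mem_fxd un val_mem_un DD YY)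
open Cfsg.Agent.Omega.NOThreeL.RRed.WideTree (Act MvAct Src NBs Fits CM)
open Cfsg.Agent.Omega.NOThreeL.RTree (RB)
open Cfsg.Agent.Omega.NOThreeL.Merge (MZ le_MZ isLoc_MZ)
open Cfsg.Agent.Omega.NOThreeL.RRed.TvFin (Full)
open Cfsg.Agent.Omega.NOThreeL.RRed.Blk (Dec Co)
open Cfsg.Agent.Omega.NOThreeL.RRed.Blk.TypesNat (XH ph ph_smul XH_faith ph_eq ph_surj no_XH)
open Cfsg.Agent.Omega.NOThreeL.RRed.Blk.Asm
open Cfsg.Agent.Omega.NOThreeL.RRed.Blk.AsmCore (EP KP im)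
open Cfsg.Agent.Omega.NOThreeL.RRed.Blk.AsmG (Inp RRs)
open Cfsg.Agent.Omega.NOThreeL.RRed.Blk.AsmTwo (NF_im NF)
open Cfsg.Agent.Omega.NOThreeL.RRed.Blk.AsmOneBlk (EB nat_fam rrs_sub)
open Cfsg.Agent.Omega.NOThreeL.RRed.Blk.AsmCls
open Cfsg.Agent.Omega.NOThreeL.RRed.Blk.AsmCov (Sml cover atom_of)
open scoped Pointwise

universe u

variable {G : Type u} [Group G] [Finite G] {S : Sylow 2 G} {ι : Type u} {W : ι → Subgroup G}
  {I : Type u} [Finite I] {N E : I → Subgroup G} {R₀ : Subgroup G} {Om : I → Type u} [∀ i, Fintype (Om i)]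
  [∀ i, DecidableEq (Om i)] {phi : ∀ i, Finset (Om i) → G}

/-- the image of a transposition -/
theorem im_atom (Q : Nrm (MZ (S : Subgroup G)) (Wd (S : Subgroup G)))
    (F : Full (S : Subgroup G) (MZ (S : Subgroup G)) (Wd (S : Subgroup G)) N E R₀ Om phi)
    (h3 : ∀ b, Fintype.card (Om b) = 3) (h2 : ∀ v : Q.Mod, v + v = 0) {b : I} {s : G}
    (hs : s ∈ (S : Subgroup G) ⊓ E b) (hc : Nat.card (im Q (zpowers s)) = 2) :
    im Q (zpowers s) = im Q ((S : Subgroup G) ⊓ E b) := by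
  refine Subgroup.eq_of_le_of_card_ge (AsmCore.im_mono Q (zpowers_le.2 hs)) ?_
  rw [hc]
  exact (AsmTwo.card_im F Q (h3 b) h2).le

/-- **The blocks in the left case, three letters.** -/
theorem fin (B : RB S) (mv : MvAct (S : Subgroup G)) (h : CM (S : Subgroup G) W)
    (no : NoOverM (zl (S : Subgroup G) (MZ (S : Subgroup G))) (MZ (S : Subgroup G)))
    (Q : Nrm (MZ (S : Subgroup G)) (zl (S : Subgroup G) (MZ (S : Subgroup G))))
    (F : Full (S : Subgroup G) (MZ (S : Subgroup G)) (Wd (S : Subgroup G)) N E R₀ Om phi)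
    (sm : Sml (S : Subgroup G) Q N E) (h3 : ∀ b, Fintype.card (Om b) = 3) :
    ∃ (κ : Type u) (_ : Finite κ) (N' E' D' l : κ → Subgroup G) (q : κ → ℕ) (side : κ → ι),
      NBs (S : Subgroup G) N' E' D' l q ∧ Src (S : Subgroup G) N' l q ∧ Fits N' W side := by
  have hSL : (S : Subgroup G) ≤ MZ (S : Subgroup G) := (isLoc_MZ B.ctx B.full B.data.noff).le
  obtain ⟨hI, h4, hGB, hF, hTD⟩ := nat_fam B mv no Q
  have h2 : ∀ v : Q.Mod, v + v = 0 := hI.two
  have hf : ∀ x : XH Q, (∀ v : Q.Mod, x • v = v) → x = 1 := hI.hf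
  have hC : Cls (XH Q) (fun i => Q.ad (W i)) := cls_of (irr_of h) Q
  have h₂ : Fam (im Q (S : Subgroup G)) (AsmTwo.FF S E Q) (NF S E Q N) (NF S E Q (Co N R₀)) := AsmTwo.fam F Q h3 h2
  have c2 : ∀ D ∈ AsmTwo.FF S E Q, Nat.card D = 2 := by
    rintro _ ⟨b, rfl⟩
    exact AsmTwo.card_im F Q (h3 b) h2
  have e2 : AsmTwo.FF S E Q ⊆ EB S Q := by
    rintro _ ⟨b, rfl⟩
    obtain ⟨i, hi⟩ := ClsBlk.exists_le (irr_of h) F b
    obtain ⟨s, hs, h5, h6, -⟩ := atom_of h Q F sm hi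
    exact ⟨zpowers s, h5, im_atom Q F h3 h2 hs h6⟩
  have hc₁ : ∀ D ∈ RRs S (MZ (S : Subgroup G)) Q, ∃ i, Cl (fun i => Q.ad (W i)) D i :=
    fun D hD => cl_EE h Q D (rrs_sub hD)
  have hc₂ : ∀ D ∈ AsmTwo.FF S E Q, ∃ i, Cl (fun i => Q.ad (W i)) D i := fun D hD => cl_EE h Q D (e2 hD)
  have c3 : ∀ D ∈ AsmTwo.FF S E Q, Nat.card D < 4 := fun D hD => by rw [c2 D hD]; omega
  obtain ⟨mF, mC, mT⟩ := Cls.mix (W := fun i => Q.ad (W i)) hC h2 hf hF hGB h4 h₂ e2 c3 hc₁ hc₂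
  have hne : ∀ i, ∃ D ∈ RRs S (MZ (S : Subgroup G)) Q ∪ AsmTwo.FF S E Q, Cl (fun i => Q.ad (W i)) D i := by
    intro i
    rcases cover B mv h Q F sm i with ⟨D, hD, hi⟩ | ⟨b, hb⟩
    · exact ⟨D, Or.inl hD, hi⟩
    · obtain ⟨s, hs, h5, h6, h7⟩ := atom_of h Q F sm hb
      rw [im_atom Q F h3 h2 hs h6] at h7
      exact ⟨_, Or.inr ⟨b, rfl⟩, h7⟩
  have hsup := mT hne
  have hTor : AsmT.Tor (im Q (S : Subgroup G)) (RRs S (MZ (S : Subgroup G)) Q ∪ AsmTwo.FF S E Q)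
      (uN (RRs S (MZ (S : Subgroup G)) Q) (NN (EB S Q) Q.Mod) (NF S E Q N))
      (uN (RRs S (MZ (S : Subgroup G)) Q) (CC (EB S Q) Q.Mod) (NF S E Q (Co N R₀))) := by
    rintro D (hD | hD) h5
    · exact ⟨D, Or.inl hD, 1, by rw [map_one, one_smul], by rw [uN_pos hD, uN_pos hD]; exact hTD D hD⟩
    · rw [c2 D hD] at h5
      omega
  obtain ⟨E', D', hNB⟩ := AsmNBs.nbs_of_fam Q hSL h2 hI.hno mF hsup hTor
    (fun g hg D hD => MixLn.hn_mix F hSL Q h2 h3 hg hD) (fun g D hD => MixLn.hln_mix B mv no Q mF hsup c2 g hD)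
  have hcl : ∀ b : ↥(RRs S (MZ (S : Subgroup G)) Q ∪ AsmTwo.FF S E Q), ∃ i, Cl (fun i => Q.ad (W i)) (b : Subgroup (XH Q)) i := by
    rintro ⟨D, hD | hD⟩
    · exact hc₁ D hD
    · exact hc₂ D hD
  choose side hside using hcl
  refine ⟨↥(RRs S (MZ (S : Subgroup G)) Q ∪ AsmTwo.FF S E Q), inferInstance, _, E', D', _, _, side, hNB,
    SrcMix.src_mixed B mv Q no F h3, fun i => ?_⟩
  have h5 := congrArg (un Q) (mC i (hne i))
  rw [AsmUn.un_ad Q ((irr_of h).le i), AsmUn.un_iSup₂] at h5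
  rw [← h5]
  apply le_antisymm
  · refine iSup₂_le fun D hD => ?_
    have h0 : D ≠ ⊥ := fun h0 => (mF.nb D hD.1).move fun d hd m _ => by
      rw [h0, Subgroup.mem_bot] at hd
      rw [hd, one_smul]
    have h6 : side ⟨D, hD.1⟩ = i := hC.uniq hf (hside ⟨D, hD.1⟩) hD.2 h0
    exact le_iSup (fun b : {b : ↥(RRs S (MZ (S : Subgroup G)) Q ∪ AsmTwo.FF S E Q) // side b = i} =>
      un Q (uN (RRs S (MZ (S : Subgroup G)) Q) (NN (EB S Q) Q.Mod) (NF S E Q N) (b.1 : Subgroup (XH Q)))) ⟨⟨D, hD.1⟩, h6⟩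
  · refine iSup_le ?_
    rintro ⟨b, hb⟩
    have h7 : Cl (fun i => Q.ad (W i)) (b : Subgroup (XH Q)) i := by rw [← hb]; exact hside b
    exact le_iSup₂ (f := fun (D : Subgroup (XH Q)) (_ : D ∈ {D | D ∈ RRs S (MZ (S : Subgroup G)) Q ∪ AsmTwo.FF S E Q ∧
      Cl (fun i => Q.ad (W i)) D i}) => un Q (uN (RRs S (MZ (S : Subgroup G)) Q) (NN (EB S Q) Q.Mod) (NF S E Q N) D))
      (b : Subgroup (XH Q)) ⟨b.2, h7⟩

end Cfsg.Agent.Omega.NOThreeL.RRed.Blk.AsmLeftB

end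

section


/-!
# NO-3L, box R: the field `nat` of `NBs` from `NBT`

`Q : Nrm H U`, `S ≤ H` a 2-group, `D ≤ im Q S` the root group of the natural block `N` of `Q.Mod`, `T = clo up lo`.

* `pre Q T` : the preimage of `T ≤ XH Q` in `G`;
* **`natBlk_of`** : `NatBlk S (pre Q T) (un Q N) (un Q [V, D]) F e`, `|F| = |D|`.
-/

set_option autoImplicit false
set_option linter.unusedSectionVars false

namespace Cfsg.Agent.Omega.NOThreeL.RRed.Blk.AsmNatBlk

open Subgroup Cfsg Cfsg.Agent.ZN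
open Cfsg.Agent.Omega.NOThreeL.RSplit (Nrm)
open Cfsg.Agent.Omega.NOThreeL.RRed.NS (fxd brk un val_mem_un)
open Cfsg.Agent.Omega.NOThreeL.RRed.WideTree (NatBlk)
open Cfsg.Agent.Omega.NOThreeL.RRed.Blk.TypesGam (Bk rt up_mem)
open Cfsg.Agent.Omega.NOThreeL.RRed.Blk.TypesClo (clo)
open Cfsg.Agent.Omega.NOThreeL.RRed.Blk.TypesNat (XH ph ph_smul XH_faith ph_surj two_of)
open Cfsg.Agent.Omega.NOThreeL.RRed.Blk.AsmSL
open Cfsg.Agent.Omega.NOThreeL.RRed.Blk.AsmT (NBT TD)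

open scoped Pointwise

universe u

variable {G : Type u} [Group G] {H U : Subgroup G}

/-- the preimage in `G` -/
def pre (Q : Nrm H U) (T : Subgroup (XH Q)) : Subgroup G := (T.comap (ph Q)).map H.subtype

theorem mem_pre {Q : Nrm H U} {T : Subgroup (XH Q)} {x : G} : x ∈ pre Q T ↔ ∃ hx : x ∈ H, ph Q ⟨x, hx⟩ ∈ T := by
  constructor
  · rintro ⟨y, hy, rfl⟩
    exact ⟨y.2, hy⟩
  · rintro ⟨hx, h⟩
    exact ⟨⟨x, hx⟩, h, rfl⟩

/-- **The field `nat`.** -/
theorem natBlk_of [Finite G] (Q : Nrm H U) (hU2 : IsElementaryAbelian 2 U) {S : Subgroup G} (hSH : S ≤ H)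
    (hS2 : IsPGroup 2 S) {D T : Subgroup (XH Q)} {N C : AddSubgroup Q.Mod} (h : NBT D T N C)
    (hD : D ≤ AsmCore.im Q S) :
    ∃ (F : Type) (_ : Field F) (_ : Finite F) (_ : CharP F 2) (e : G → Fin 2 → F),
      Nat.card F = Nat.card D ∧ NatBlk S (pre Q T) (un Q N) (un Q (brk Q.Mod D)) F e := by
  classical
  obtain ⟨F, i1, i2, e, f, up, lo, hB, rfl, rfl, rfl⟩ := h.ex
  have h2 : ∀ v : Q.Mod, v + v = 0 := two_of Q hU2
  have hf : ∀ x : XH Q, (∀ v : Q.Mod, x • v = v) → x = 1 := fun x hx => XH_faith Q x hx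
  have hch : CharP F 2 := by
    refine CharTwo.of_one_ne_zero_of_two_eq_zero one_ne_zero ?_
    have := hB.two h2 1
    rwa [one_add_one_eq_two] at this
  -- vectors
  let m : (Fin 2 → F) → Q.Mod := fun w => e (w 0) + f (w 1)
  have hm : ∀ w, m w = e (w 0) + f (w 1) := fun _ => rfl
  have m_inj : ∀ w w', m w = m w' → w = w' := fun w w' h1 => by
    obtain ⟨h3, h4⟩ := vec_uniq hB h1
    funext i
    fin_cases i
    · exact h3
    · exact h4
  have m_add : ∀ w w', m w + m w' = m (w + w') := fun w w' => by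
    rw [hm, hm, hm, Pi.add_apply, Pi.add_apply, map_add, map_add]
    abel
  let cd : G → Fin 2 → F := fun v => if h : ∃ w, Q.val (m w) = v then h.choose else 0
  have hcd : ∀ w, cd (Q.val (m w)) = w := fun w => by
    have hex : ∃ w', Q.val (m w') = Q.val (m w) := ⟨w, rfl⟩
    have h1 : cd (Q.val (m w)) = hex.choose := dif_pos hex
    rw [h1]
    exact m_inj _ _ (Nrm.ext hex.choose_spec)
  have hN : ∀ v, v ∈ un Q (e.range ⊔ f.range) ↔ ∃ w, Q.val (m w) = v := fun v => by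
    constructor
    · rintro ⟨n, hn, rfl⟩
      obtain ⟨_, ⟨a, rfl⟩, _, ⟨b, rfl⟩, rfl⟩ := AddSubgroup.mem_sup.1 hn
      exact ⟨![a, b], rfl⟩
    · rintro ⟨w, rfl⟩
      exact (val_mem_un Q).2 (add_mem (AddSubgroup.mem_sup_left ⟨_, rfl⟩) (AddSubgroup.mem_sup_right ⟨_, rfl⟩))
  have hcj : ∀ (g : H) (w : Fin 2 → F), (g : G) * Q.val (m w) * (g : G)⁻¹ = Q.val (ph Q g • m w) := fun g w => by
    rw [ph_smul, Nrm.val_smul]
  have hact : ∀ (g : H) (B : Matrix.SpecialLinearGroup (Fin 2) F), SLA e f C (ph Q g) B → ∀ w,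
      (g : G) * Q.val (m w) * (g : G)⁻¹ = Q.val (m (B.1.mulVec w)) := fun g B hgB w => by
    rw [hcj, hm, hgB.act]
  have hl : ∀ v, v ∈ un Q (brk Q.Mod (rt up)) ↔ ∃ a, Q.val (e a) = v := fun v => by
    rw [Types.Bk.brk_rt hB h2 hf]
    constructor
    · rintro ⟨_, ⟨a, rfl⟩, rfl⟩
      exact ⟨a, rfl⟩
    · rintro ⟨a, rfl⟩
      exact ⟨_, ⟨a, rfl⟩, rfl⟩
  -- a vector fixed by `S ∩ T`
  obtain ⟨a₀, ha₀, hfix⟩ : ∃ a₀ : F, a₀ ≠ 0 ∧ ∀ (s : H), (s : G) ∈ S → ph Q s ∈ clo up lo → ph Q s • e a₀ = e a₀ := by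
    have hf2 : Fact (Nat.Prime 2) := ⟨Nat.prime_two⟩
    have hU : un Q (e.range ⊔ f.range) ≤ U := by
      rintro _ ⟨n, -, rfl⟩
      exact Q.val_mem n
    have hUp : IsPGroup 2 (un Q (e.range ⊔ f.range)) := fun x => ⟨1, Subtype.ext (by
      rw [pow_one]; exact hU2.2 _ (hU x.2))⟩
    have hcj' : ∀ x ∈ S ⊓ pre Q (clo up lo), ∀ v ∈ un Q (e.range ⊔ f.range), x * v * x⁻¹ ∈ un Q (e.range ⊔ f.range) := by
      rintro x ⟨-, hx⟩ v hv
      obtain ⟨hxH, hx1⟩ := mem_pre.1 hx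
      obtain ⟨w, rfl⟩ := (hN v).1 hv
      obtain ⟨B, hxB⟩ := sla_of_clo hB hx1
      exact (hN _).2 ⟨_, (hact ⟨x, hxH⟩ B hxB w).symm⟩
    have hnorm : S ⊓ pre Q (clo up lo) ≤ normalizer (un Q (e.range ⊔ f.range) : Set G) := fun x hx => by
      refine mem_normalizer_iff.2 fun v => ⟨hcj' x hx v, fun hv => ?_⟩
      have h5 := hcj' x⁻¹ (inv_mem hx) _ hv
      have e1 : x⁻¹ * (x * v * x⁻¹) * x⁻¹⁻¹ = v := by group
      rwa [e1] at h5
    have hne : un Q (e.range ⊔ f.range) ≠ ⊥ := fun h5 => by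
      have h6 : Q.val (e 1) ∈ un Q (e.range ⊔ f.range) := (val_mem_un Q).2 (AddSubgroup.mem_sup_left ⟨1, rfl⟩)
      rw [h5, Subgroup.mem_bot] at h6
      have h7 : e 1 = 0 := Nrm.eq_zero_iff.2 h6
      have h8 : e 1 + f 0 = e 0 + f 0 := by rw [h7, map_zero, map_zero]
      exact one_ne_zero (vec_uniq hB h8).1
    have h5 := PLocal.OffenderStep.inf_centralizer_ne_bot _ (S ⊓ pre Q (clo up lo)) hUp (hS2.to_le inf_le_left) hnorm hne
    obtain ⟨⟨z, hz, hzc⟩, hz1⟩ := Subgroup.ne_bot_iff_exists_ne_one.1 h5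
    obtain ⟨w, rfl⟩ := (hN z).1 hz
    have hfx : ∀ s : H, (s : G) ∈ S → ph Q s ∈ clo up lo → ph Q s • m w = m w := fun s hs hsT => by
      refine Nrm.ext ?_
      rw [← hcj, mul_inv_eq_iff_eq_mul]
      exact mem_centralizer_iff.1 hzc _ ⟨hs, mem_pre.2 ⟨s.2, hsT⟩⟩
    -- the second coordinate vanishes
    have hw1 : w 1 = 0 := by
      obtain ⟨s, hs, h6⟩ := hD (up_mem 1)
      have h7 := hfx s hs (by rw [h6]; exact TypesClo.up_mem_clo up lo 1)
      rw [h6, hm, smul_add, hB.up_e, hB.up_f, one_mul] at h7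
      have h8 : e (w 0 + w 1) + f (w 1) = e (w 0) + f (w 1) := by
        rw [map_add, ← h7]
        conv_rhs => rw [h7]
        rw [← h7]
        abel
      have h9 := (vec_uniq hB h8).1
      exact left_eq_add.1 h9.symm
    have hmw : m w = e (w 0) := by rw [hm, hw1, map_zero, add_zero]
    refine ⟨w 0, fun h6 => hz1 (Subtype.ext ?_), fun s hs hsT => ?_⟩
    · change Q.val (m w) = 1
      rw [hmw, h6, map_zero, Nrm.val_zero]
    · have h6 := hfx s hs hsT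
      rwa [hmw] at h6
  refine ⟨F, i1, i2, hch, cd, (hB.card_rt h2 hf).symm, ?_⟩
  refine
    { mul := ?_
      inj := ?_
      sur := ?_
      act := ?_
      full := ?_
      line := ?_
      root := ?_
      sylow := ?_ }
  · intro v hv v' hv'
    obtain ⟨w, rfl⟩ := (hN v).1 hv
    obtain ⟨w', rfl⟩ := (hN v').1 hv'
    rw [← Nrm.val_add, m_add, hcd, hcd, hcd]
  · intro v hv h1
    obtain ⟨w, rfl⟩ := (hN v).1 hv
    rw [hcd] at h1
    rw [h1, hm, Pi.zero_apply, Pi.zero_apply, map_zero, map_zero, add_zero, Nrm.val_zero]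
  · exact fun x => ⟨Q.val (m x), (hN _).2 ⟨x, rfl⟩, hcd x⟩
  · intro g hg
    obtain ⟨hgH, hg1⟩ := mem_pre.1 hg
    obtain ⟨B, hgB⟩ := sla_of_clo hB hg1
    refine ⟨B, fun v hv => ?_⟩
    obtain ⟨w, rfl⟩ := (hN v).1 hv
    rw [hact ⟨g, hgH⟩ B hgB w, hcd, hcd]
  · intro B
    obtain ⟨x, hx, hxB⟩ := exists_sla hB B
    obtain ⟨g, rfl⟩ := ph_surj Q x
    refine ⟨g, mem_pre.2 ⟨g.2, hx⟩, fun v hv => ?_⟩
    obtain ⟨w, rfl⟩ := (hN v).1 hv
    rw [hact g B hxB w, hcd, hcd]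
  · intro v
    rw [hl]
    constructor
    · rintro ⟨a, rfl⟩
      have h1 : e a = m ![a, 0] := by
        rw [hm]
        change e a = e a + f 0
        rw [map_zero, add_zero]
      rw [h1]
      exact ⟨(hN _).2 ⟨_, rfl⟩, by rw [hcd]; rfl⟩
    · rintro ⟨hv, hv1⟩
      obtain ⟨w, rfl⟩ := (hN v).1 hv
      rw [hcd] at hv1
      exact ⟨w 0, by rw [hm, hv1, map_zero, add_zero]⟩
  · rintro s ⟨hs, hsT⟩
    obtain ⟨hsH, hs1⟩ := mem_pre.1 hsT
    obtain ⟨B, hsB⟩ := sla_of_clo hB hs1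
    have h1 := hfix ⟨s, hsH⟩ hs hs1
    have h3 := hsB.act ![a₀, 0]
    simp only [Matrix.cons_val_zero, Matrix.cons_val_one, map_zero, add_zero] at h3
    rw [h1] at h3
    have h4 : e a₀ + f 0 = e (B.1.mulVec ![a₀, 0] 0) + f (B.1.mulVec ![a₀, 0] 1) := by
      rw [map_zero, add_zero]; exact h3
    obtain ⟨h5, h6⟩ := vec_uniq hB h4
    simp [Matrix.mulVec, dotProduct, Fin.sum_univ_two] at h5 h6
    have h10 : B.1 1 0 = 0 := by
      rcases h6 with h7 | h7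
      · exact h7
      · exact absurd h7 ha₀
    have h00 : B.1 0 0 = 1 := by
      have h8 : B.1 0 0 * a₀ = 1 * a₀ := by rw [one_mul]; exact h5.symm
      exact mul_right_cancel₀ ha₀ h8
    have h11 : B.1 1 1 = 1 := by
      have h7 := B.2
      rw [Matrix.det_fin_two, h10, h00, mul_zero, sub_zero, one_mul] at h7
      exact h7
    have hBe : B = Cfsg.Agent.Lib.SL2Mat.up (B.1 0 1) := by
      refine Cfsg.Agent.Lib.SL2Mat.ext_ent ?_ ?_ ?_ ?_
      · exact h00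
      · rfl
      · exact h10
      · exact h11
    refine ⟨B.1 0 1, fun v hv => ?_⟩
    obtain ⟨w, rfl⟩ := (hN v).1 hv
    rw [hact ⟨s, hsH⟩ B hsB w, hcd, hcd, hBe, up_vec]
    rfl
  · intro c
    obtain ⟨s, hs, h6⟩ := hD (up_mem c)
    have h7 : ph Q s ∈ clo up lo := by
      rw [h6]
      exact TypesClo.up_mem_clo up lo c
    refine ⟨s, ⟨hs, mem_pre.2 ⟨s.2, h7⟩⟩, fun v hv => ?_⟩
    obtain ⟨w, rfl⟩ := (hN v).1 hv
    have h8 : SLA e f C (ph Q s) (Cfsg.Agent.Lib.SL2Mat.up c) := by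
      rw [h6]
      exact sla_up hB c
    rw [hact s _ h8 w, hcd, hcd, up_vec]

end Cfsg.Agent.Omega.NOThreeL.RRed.Blk.AsmNatBlk

end

end
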