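import Cfsg.Agent.Mrg.Omega.NOThreeL.RRed.Blk.AsmSL
import Cfsg.Agent.Mrg.Omega.NOThreeL.RRed.Blk.AsmPair
import Cfsg.Agent.Mrg.Omega.NOThreeL.RRed.Blk.AsmLn

-- merged: Cfsg.Agent.Mrg.Omega.NOThreeL.RRed.Blk.AsmFour
section

/-!
# NO-3L, box R: `T = clo up lo` is unique up to a swap (`|F| = 4`)

* `exists_red` : two blocks with the same root group, `4 ≤ |F|`: the second one is `Bk e (f + e α) C up lo₁`, `α` additive;
* `swap` : `α x = δ x²`, `x⁴ = x`: `y = w w₁ w` normalises the root group and swaps `clo up lo` and `clo up lo₁`;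
* **`exists_swap`** : two blocks with the same root group: `clo up lo = clo up' lo'` or some `y ∈ ⟨clo up lo, clo up' lo'⟩` swaps
  them and normalises the root group;
* `clo_two` : `|F| = 2`: `clo up lo` is determined by `N` and `C`;
* **`NBT.uniq`** : if a subgroup `R` of odd index of `C_X(C)` normalises `T` and `T'`, then `T = T'`.
-/

set_option autoImplicit false
set_option linter.unusedSectionVars false

namespace Cfsg.Agent.Omega.NOThreeL.RRed.Blk.AsmT

open Matrix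
open Cfsg.Agent.Omega.NOThreeL.RRed.NS (fxd mem_fxd)
open Cfsg.Agent.Omega.NOThreeL.RRed.Blk.TypesGam
open Cfsg.Agent.Omega.NOThreeL.RRed.Blk.TypesEq
open Cfsg.Agent.Omega.NOThreeL.RRed.Blk.TypesClo
open Cfsg.Agent.Omega.NOThreeL.RRed.Blk.Asm
open Cfsg.Agent.Omega.NOThreeL.RRed.Blk.AsmSL
open scoped Pointwise

universe u v w w'

variable {X : Type u} {V : Type v} [Group X] [AddCommGroup V] [DistribMulAction X V]
variable {F : Type w} [Field F] {e f : F →+ V} {C : AddSubgroup V} {up lo : F → X}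
variable {F' : Type w'} [Field F'] {e' f' : F' →+ V} {C' : AddSubgroup V} {up' lo' : F' → X}

/-- `lo` is determined by `e, f, C` -/
theorem lo_uniq (h : Bk e f C up lo) (hf : ∀ x : X, (∀ v : V, x • v = v) → x = 1) {x : X} {t : F}
    (he : ∀ z, x • e z = e z + f (t * z)) (hff : ∀ z, x • f z = f z) (hc : ∀ c ∈ C, x • c = c) : x = lo t :=
  h.ext hf (fun z => by rw [he, h.lo_e]) (fun z => by rw [hff, h.lo_f]) fun c hcc => by rw [hc c hcc, h.lo_c t c hcc]

theorem up_uniq (h : Bk e f C up lo) (hf : ∀ x : X, (∀ v : V, x • v = v) → x = 1) {x : X} {t : F}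
    (he : ∀ z, x • e z = e z) (hff : ∀ z, x • f z = f z + e (t * z)) (hc : ∀ c ∈ C, x • c = c) : x = up t :=
  h.ext hf (fun z => by rw [he, h.up_e]) (fun z => by rw [hff, h.up_f]) fun c hcc => by rw [hc c hcc, h.up_c t c hcc]

/-- `Bk` with another complement of `e(F)` -/
theorem bk_shift (h : Bk e f C up lo) (h2 : ∀ v : V, v + v = 0) {f₁ : F →+ V} {lo₁ : F → X} {α : F → F}
    (hα : ∀ x, f₁ x = f x + e (α x)) (l1 : ∀ t x, lo₁ t • e x = e x + f₁ (t * x)) (l2 : ∀ t x, lo₁ t • f₁ x = f₁ x)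
    (l3 : ∀ t, ∀ c ∈ C, lo₁ t • c = c) : Bk e f₁ C up lo₁ where
  dec v := by
    obtain ⟨x, y, c, hc, rfl⟩ := h.dec v
    refine ⟨x + α y, y, c, hc, ?_⟩
    have e1 : e (x + α y) + f₁ y + c = e x + f y + c + (e (α y) + e (α y)) := by rw [hα, map_add]; abel
    rw [e1, h2, add_zero]
  ind x y hxy := by
    have e1 : e x + f₁ y = e (x + α y) + f y := by rw [hα, map_add]; abel
    rw [e1] at hxy
    obtain ⟨e2, e3⟩ := h.ind _ _ hxy
    have e4 : e (α y) = 0 := by
      have := hα y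
      rw [e3, map_zero, map_zero, zero_add] at this
      rw [e3]; exact this.symm
    have e5 : α y = 0 := (h.ind (α y) 0 (by rw [e4, map_zero, add_zero]; exact C.zero_mem)).1
    rw [e5, add_zero] at e2
    exact ⟨e2, e3⟩
  up_e := h.up_e
  up_f t x := by rw [hα, smul_add, h.up_f, h.up_e]; abel
  up_c := h.up_c
  lo_e := l1
  lo_f := l2
  lo_c := l3

/-- the standard form of a second block with the same root group -/
theorem exists_red [Finite F] [Finite V] [Finite X] (h : Bk e f C up lo) (h' : Bk e' f' C' up' lo')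
    (h2 : ∀ v : V, v + v = 0) (hf : ∀ x : X, (∀ v : V, x • v = v) → x = 1) (hno : NO X V) (h4 : 4 ≤ Nat.card F)
    (hrt : rt up = rt up') :
    ∃ (α : F →+ F) (f₁ : F →+ V) (lo₁ : F → X), (∀ x, f₁ x = f x + e (α x)) ∧ Bk e f₁ C up lo₁ ∧
      clo up lo₁ = clo up' lo' := by
  obtain ⟨hC, -, hN⟩ := h.eq h' h2 hf hno h4 hrt
  obtain ⟨θ, a, b, ha, hb, hbij, hup, he, hff⟩ := exists_cmp h h' h2 hf hrt
  let φ : F' ≃+* F := RingEquiv.ofBijective θ hbij
  have hφ : ∀ x, θ (φ.symm x) = x := fun x => φ.apply_symm_apply x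
  let f₁ : F →+ V := f'.comp ((φ.symm : F →+* F').toAddMonoidHom.comp (AddMonoidHom.mulLeft b⁻¹))
  have hf₁ : ∀ y, f₁ y = f' (φ.symm (b⁻¹ * y)) := fun y => rfl
  have k1 : ∀ y, ∃ x, f₁ y = f y + e x := by
    intro y
    obtain ⟨x, c, hc, e1⟩ := hff (φ.symm (b⁻¹ * y))
    refine ⟨x, ?_⟩
    rw [hφ] at e1
    have e0 : b⁻¹ * y * b = y := by rw [mul_comm, mul_inv_cancel_left₀ hb]
    rw [e0] at e1
    have e2 : f₁ y ∈ e.range ⊔ f.range := by
      rw [hN]; exact AddSubgroup.mem_sup_right ⟨_, rfl⟩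
    obtain ⟨_, ⟨x1, rfl⟩, _, ⟨y1, rfl⟩, e3⟩ := AddSubgroup.mem_sup.1 e2
    have e4 : e x + f y + c = e x1 + f y1 + 0 := by rw [← e1, ← hf₁, ← e3, add_zero]
    have e5 := (h.uniq hc C.zero_mem e4).2.2
    rw [hf₁, e1, e5, add_zero, add_comm]
  choose α hα using k1
  have αadd : ∀ x y, α (x + y) = α x + α y := by
    intro x y
    have e1 : e (α (x + y)) + f (x + y) + 0 = e (α x + α y) + f (x + y) + 0 := by
      have e2 : f (x + y) + e (α (x + y)) = f (x + y) + e (α x + α y) := by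
        rw [← hα, map_add f₁, hα x, hα y, map_add e, map_add f]; abel
      rw [add_left_cancel e2]
    exact (h.uniq C.zero_mem C.zero_mem e1).1
  refine ⟨AddMonoidHom.mk' α αadd, f₁, fun t => lo' (φ.symm (a * t)), hα, ?_, ?_⟩
  · refine bk_shift h h2 hα (fun t x => ?_) (fun t x => h'.lo_f _ _) fun t c hc => h'.lo_c _ c (hC ▸ hc)
    have e1 : e x = e' (φ.symm (a⁻¹ * x * b⁻¹)) := by
      rw [he, hφ]
      congr 1
      field_simp
    rw [e1, h'.lo_e, hf₁, ← map_mul]
    congr 3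
    field_simp
  · rw [clo, clo]
    congr 1
    refine congrArg₂ _ ?_ ?_
    · ext x
      constructor
      · rintro ⟨t, rfl⟩
        exact ⟨φ.symm (a⁻¹ * t), by rw [← hup, hφ, mul_inv_cancel_left₀ ha]⟩
      · rintro ⟨t, rfl⟩
        exact ⟨_, hup t⟩
    · ext x
      constructor
      · rintro ⟨t, rfl⟩
        exact ⟨_, rfl⟩
      · rintro ⟨t, rfl⟩
        refine ⟨a⁻¹ * θ t, ?_⟩
        change lo' (φ.symm (a * (a⁻¹ * θ t))) = lo' t
        rw [mul_inv_cancel_left₀ ha]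
        congr 1
        exact φ.symm_apply_apply t

/-- `|F| = 4`: additive maps -/
theorem add_four (two : ∀ x : F, x + x = 0) (h4 : Nat.card F = 4) (α : F →+ F) :
    ∃ g d : F, ∀ x, α x = g * x + d * x ^ 2 := by
  have : Finite F := Nat.finite_of_card_ne_zero (by omega)
  have hc : ∃ c : F, c ≠ 0 ∧ c ≠ 1 := exists_ne h4.ge
  obtain ⟨c, hc0, hc1⟩ := hc
  have k0 : c + 1 ≠ 0 := fun h => hc1 (add_right_cancel (h.trans (two 1).symm))
  have k1 : c + 1 ≠ 1 := fun h => hc0 (add_eq_right.1 h)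
  have k2 : c + 1 ≠ c := fun h => one_ne_zero (add_eq_left.1 h)
  have hall : ∀ x : F, x = 0 ∨ x = 1 ∨ x = c ∨ x = c + 1 := by
    classical
    intro x
    by_contra hx
    push Not at hx
    have := Fintype.ofFinite F
    have h5 : ({x, 0, 1, c, c + 1} : Finset F).card = 5 := by
      rw [Finset.card_insert_of_notMem, Finset.card_insert_of_notMem, Finset.card_insert_of_notMem,
        Finset.card_insert_of_notMem, Finset.card_singleton]
      · rw [Finset.mem_singleton]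
        exact fun h => k2 h.symm
      · simp only [Finset.mem_insert, Finset.mem_singleton, not_or]
        exact ⟨fun h => hc1 h.symm, fun h => k1 h.symm⟩
      · simp only [Finset.mem_insert, Finset.mem_singleton, not_or]
        exact ⟨zero_ne_one, fun h => hc0 h.symm, fun h => k0 h.symm⟩
      · simp only [Finset.mem_insert, Finset.mem_singleton, not_or]
        exact ⟨hx.1, hx.2.1, hx.2.2.1, hx.2.2.2⟩
    have h6 := Finset.card_le_univ ({x, 0, 1, c, c + 1} : Finset F)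
    rw [h5, ← Nat.card_eq_fintype_card, h4] at h6
    omega
  have hcc : c ^ 2 = c + 1 := by
    rcases hall (c ^ 2) with h | h | h | h
    · exact absurd (pow_eq_zero_iff (by norm_num) |>.1 h) hc0
    · exfalso
      have e1 : (c + 1) * (c + 1) = c ^ 2 + 1 + (c + c) := by ring
      rw [h, two, two, add_zero] at e1
      exact k0 (mul_self_eq_zero.1 e1)
    · exfalso
      apply hc1
      have e1 : c * c = c * 1 := by rw [mul_one, ← pow_two, h]
      exact mul_left_cancel₀ hc0 e1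
    · exact h
  refine ⟨α 1 + (α c + c * α 1), α c + c * α 1, fun x => ?_⟩
  have e1 : α 1 = (α 1 + (α c + c * α 1)) * 1 + (α c + c * α 1) * 1 ^ 2 := by
    have : (α 1 + (α c + c * α 1)) * 1 + (α c + c * α 1) * 1 ^ 2 =
      α 1 + ((α c + α c) + (c * α 1 + c * α 1)) := by ring
    rw [this, two, two, add_zero, add_zero]
  have e2 : α c = (α 1 + (α c + c * α 1)) * c + (α c + c * α 1) * c ^ 2 := by
    rw [hcc]
    have : (α 1 + (α c + c * α 1)) * c + (α c + c * α 1) * (c + 1) =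
      α c + (c * α 1 + c * α 1) + (c * α c + c * α c) + (c ^ 2 * α 1 + c ^ 2 * α 1) := by ring
    rw [this, two, two, two, add_zero, add_zero, add_zero]
  rcases hall x with rfl | rfl | rfl | rfl
  · rw [map_zero]; ring
  · exact e1
  · exact e2
  · rw [map_add]
    have : (α 1 + (α c + c * α 1)) * (c + 1) + (α c + c * α 1) * (c + 1) ^ 2 =
      ((α 1 + (α c + c * α 1)) * c + (α c + c * α 1) * c ^ 2) +
        ((α 1 + (α c + c * α 1)) * 1 + (α c + c * α 1) * 1 ^ 2) +
        ((α c + c * α 1) * c + (α c + c * α 1) * c) := by ring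
    rw [this, ← e1, ← e2, two, add_zero]

/-- **the swap** -/
theorem swap (h : Bk e f C up lo) (h2 : ∀ v : V, v + v = 0) (hf : ∀ x : X, (∀ v : V, x • v = v) → x = 1)
    {f₁ : F →+ V} {lo₁ : F → X} (h₁ : Bk e f₁ C up lo₁) {d : F} (hd : d ≠ 0) (hα : ∀ x, f₁ x = f x + e (d * x ^ 2))
    (hF : ∀ x : F, x ^ 4 = x) :
    ∃ y ∈ clo up lo ⊔ clo up lo₁, MulAut.conj y • clo up lo = clo up lo₁ ∧
      MulAut.conj y • clo up lo₁ = clo up lo := by
  have hd3 : d ^ 3 = 1 := by
    have := hF d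
    have e1 : d ^ 3 * d = 1 * d := by rw [one_mul, ← pow_succ]; exact this
    exact mul_right_cancel₀ hd e1
  -- `δ (δ x²)² = x`
  have hdd : ∀ x : F, d * (d * x ^ 2) ^ 2 = x := fun x => by
    have e1 : d * (d * x ^ 2) ^ 2 = d ^ 3 * x ^ 4 := by ring
    rw [e1, hd3, hF, one_mul]
  set w := wt up lo 1 with hw
  set w₁ := wt up lo₁ 1 with hw₁
  have we : ∀ x, w • e x = f x := fun x => by rw [hw, h.wt_e h2 one_ne_zero, inv_one, one_mul]
  have wf : ∀ x, w • f x = e x := fun x => by rw [hw, h.wt_f h2 one_ne_zero, one_mul]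
  have w1e : ∀ x, w₁ • e x = f₁ x := fun x => by rw [hw₁, h₁.wt_e h2 one_ne_zero, inv_one, one_mul]
  have w1f : ∀ x, w₁ • f₁ x = e x := fun x => by rw [hw₁, h₁.wt_f h2 one_ne_zero, one_mul]
  have hff : ∀ x, f x = f₁ x + e (d * x ^ 2) := fun x => by rw [hα, add_assoc, h2, add_zero]
  set y := w * w₁ * w with hy
  have ye : ∀ x, y • e x = e (d * x ^ 2) := by
    intro x
    rw [hy, mul_smul, mul_smul, we, hff, smul_add, w1f, w1e, hα, hdd, smul_add, smul_add, we, wf]
    have e1 : f x + (e (d * x ^ 2) + f x) = e (d * x ^ 2) + (f x + f x) := by abel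
    rw [e1, h2, add_zero]
  have yf : ∀ x, y • f x = f₁ (d * x ^ 2) := by
    intro x
    rw [hy, mul_smul, mul_smul, wf, w1e, hα, smul_add, wf, we, hα, hdd, add_comm]
  have yc : ∀ c ∈ C, y • c = c := by
    intro c hc
    rw [hy, mul_smul, mul_smul, hw, hw₁, h.wt_c _ hc, h₁.wt_c _ hc, h.wt_c _ hc]
  have yf1 : ∀ x, y • f₁ x = f (d * x ^ 2) := by
    intro x
    rw [hα, smul_add, yf, ye, hdd, hα, hdd, add_assoc, h2, add_zero]
  have yy : y * y = 1 := by
    have := h.ext hf (x := y * y) (y := 1) (fun z => by rw [mul_smul, ye, ye, hdd, one_smul])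
      (fun z => by rw [mul_smul, yf, yf1, hdd, one_smul]) fun c hc => by rw [mul_smul, yc c hc, yc c hc, one_smul]
    exact this
  have yi : y⁻¹ = y := inv_eq_of_mul_eq_one_right yy
  have yup : ∀ t, y * up t * y = up (t ^ 2) := by
    intro t
    refine up_uniq h₁ hf (fun z => ?_) (fun z => ?_) fun c hc => ?_
    · rw [mul_smul, mul_smul, ye, h.up_e, ye, hdd]
    · rw [mul_smul, mul_smul, yf1, h.up_f, smul_add, yf, ye, hdd]
      congr 2
      have e1 : d * (t * (d * z ^ 2)) ^ 2 = t ^ 2 * (d * (d * z ^ 2) ^ 2) := by ring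
      rw [e1, hdd]
    · rw [mul_smul, mul_smul, yc c hc, h.up_c t c hc, yc c hc]
  have ylo : ∀ t, y * lo t * y = lo₁ (t ^ 2) := by
    intro t
    refine lo_uniq h₁ hf (fun z => ?_) (fun z => ?_) fun c hc => ?_
    · rw [mul_smul, mul_smul, ye, h.lo_e, smul_add, ye, yf, hdd]
      congr 2
      have e1 : d * (t * (d * z ^ 2)) ^ 2 = t ^ 2 * (d * (d * z ^ 2) ^ 2) := by ring
      rw [e1, hdd]
    · rw [mul_smul, mul_smul, yf1, h.lo_f, yf, hdd]
    · rw [mul_smul, mul_smul, yc c hc, h.lo_c t c hc, yc c hc]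
  have yy' : ∀ x : X, y * (y * x * y) * y = x := by
    intro x
    calc y * (y * x * y) * y = (y * y) * x * (y * y) := by group
      _ = x := by rw [yy]; group
  have hsq : ∀ t : F, (t ^ 2) ^ 2 = t := fun t => by rw [← pow_mul]; exact hF t
  have l1 : MulAut.conj y • clo up lo ≤ clo up lo₁ := by
    rw [clo, Subgroup.smul_closure, Subgroup.closure_le]
    rintro _ ⟨x, hx | hx, rfl⟩
    · obtain ⟨t, rfl⟩ := hx
      change y * up t * y⁻¹ ∈ clo up lo₁
      rw [yi, yup]; exact up_mem_clo _ _ _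
    · obtain ⟨t, rfl⟩ := hx
      change y * lo t * y⁻¹ ∈ clo up lo₁
      rw [yi, ylo]; exact lo_mem_clo _ _ _
  have l2 : MulAut.conj y • clo up lo₁ ≤ clo up lo := by
    rw [clo, Subgroup.smul_closure, Subgroup.closure_le]
    rintro _ ⟨x, hx | hx, rfl⟩
    · obtain ⟨t, rfl⟩ := hx
      change y * up t * y⁻¹ ∈ clo up lo
      rw [yi, yup]; exact up_mem_clo _ _ _
    · obtain ⟨t, rfl⟩ := hx
      change y * lo₁ t * y⁻¹ ∈ clo up lo
      rw [yi, ← hsq t, ← ylo, yy']; exact lo_mem_clo _ _ _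
  have l3 : ∀ A B : Subgroup X, MulAut.conj y • A ≤ B → MulAut.conj y • B ≤ A → MulAut.conj y • A = B := by
    intro A B hA hB
    refine le_antisymm hA ?_
    have e1 : MulAut.conj y • MulAut.conj y • B = B := by
      rw [← mul_smul, ← map_mul, yy, map_one, one_smul]
    calc B = MulAut.conj y • MulAut.conj y • B := e1.symm
      _ ≤ MulAut.conj y • A := Subgroup.pointwise_smul_le_pointwise_smul_iff.2 hB
  refine ⟨y, ?_, l3 _ _ l1 l2, l3 _ _ l2 l1⟩
  have m1 : ∀ {lo : F → X} (t : F), wt up lo t ∈ clo up lo := fun {lo} t =>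
    mul_mem (mul_mem (up_mem_clo _ _ _) (lo_mem_clo _ _ _)) (up_mem_clo _ _ _)
  exact mul_mem (mul_mem (Subgroup.mem_sup_left (m1 1)) (Subgroup.mem_sup_right (m1 1))) (Subgroup.mem_sup_left (m1 1))

/-- **two blocks with the same root group of order 4** -/
theorem exists_swap [Finite F] [Finite V] [Finite X] (h : Bk e f C up lo) (h' : Bk e' f' C' up' lo')
    (h2 : ∀ v : V, v + v = 0) (hf : ∀ x : X, (∀ v : V, x • v = v) → x = 1) (hno : NO X V) (h4 : Nat.card F = 4)
    (hrt : rt up = rt up') : clo up lo = clo up' lo' ∨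
      ∃ y ∈ clo up lo ⊔ clo up' lo', MulAut.conj y • clo up lo = clo up' lo' ∧
        MulAut.conj y • clo up' lo' = clo up lo := by
  obtain ⟨α, f₁, lo₁, hα, h₁, hcl⟩ := exists_red h h' h2 hf hno h4.ge hrt
  have two := h.two h2
  obtain ⟨g, d, hgd⟩ := add_four two h4 α
  rw [← hcl]
  have hF : ∀ x : F, x ^ 4 = x := by
    have := Fintype.ofFinite F
    intro x
    have := FiniteField.pow_card x
    rwa [← Nat.card_eq_fintype_card, h4] at this
  -- the linear part
  let f₀ : F →+ V := f + e.comp (AddMonoidHom.mulLeft g)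
  have hf0 : ∀ x, f₀ x = f x + e (g * x) := fun x => rfl
  have hf0' : ∀ x, f₀ x = up g • f x := fun x => by rw [hf0, h.up_f]
  let lo₀ : F → X := fun t => up g * lo t * (up g)⁻¹
  have uie : ∀ x, (up g)⁻¹ • e x = e x := fun x => by rw [inv_smul_eq_iff, h.up_e]
  have h0 : Bk e f₀ C up lo₀ := by
    refine bk_shift h h2 hf0 (fun t x => ?_) (fun t x => ?_) fun t c hc => ?_
    · change (up g * lo t * (up g)⁻¹) • e x = _
      rw [mul_smul, mul_smul, uie, h.lo_e, smul_add, h.up_e, hf0']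
    · change (up g * lo t * (up g)⁻¹) • f₀ x = _
      rw [mul_smul, mul_smul, hf0', inv_smul_smul, h.lo_f]
    · change (up g * lo t * (up g)⁻¹) • c = _
      have : (up g)⁻¹ • c = c := by rw [inv_smul_eq_iff, h.up_c g c hc]
      rw [mul_smul, mul_smul, this, h.lo_c t c hc, h.up_c g c hc]
  have hcl0 : clo up lo₀ = clo up lo := by
    apply le_antisymm
    · refine (Subgroup.closure_le _).2 ?_
      rintro x (⟨t, rfl⟩ | ⟨t, rfl⟩)
      · exact up_mem_clo _ _ _
      · exact mul_mem (mul_mem (up_mem_clo _ _ _) (lo_mem_clo _ _ _)) (inv_mem (up_mem_clo _ _ _))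
    · refine (Subgroup.closure_le _).2 ?_
      rintro x (⟨t, rfl⟩ | ⟨t, rfl⟩)
      · exact up_mem_clo _ _ _
      · have e1 : lo t = (up g)⁻¹ * lo₀ t * up g := by
          change lo t = (up g)⁻¹ * (up g * lo t * (up g)⁻¹) * up g
          group
        change lo t ∈ clo up lo₀
        rw [e1]
        exact mul_mem (mul_mem (inv_mem (up_mem_clo _ _ _)) (lo_mem_clo _ _ _)) (up_mem_clo _ _ _)
  have hα0 : ∀ x, f₁ x = f₀ x + e (d * x ^ 2) := fun x => by rw [hα, hgd, hf0, map_add]; abel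
  rw [← hcl0]
  by_cases hd : d = 0
  · left
    have e1 : f₁ = f₀ := by
      ext x
      rw [hα0, hd, zero_mul, map_zero, add_zero]
    subst e1
    congr 1
    funext t
    exact (lo_uniq h0 hf (h₁.lo_e t) (h₁.lo_f t) (h₁.lo_c t)).symm
  · right
    exact swap h0 h2 hf h₁ hd hα0 hF

theorem det_two {a b c d : F} (hall : ∀ z : F, z = 0 ∨ z = 1) (two : (1 : F) + 1 = 0) (n1 : ¬ (a = 0 ∧ b = 0))
    (n2 : ¬ (c = 0 ∧ d = 0)) (n3 : ¬ (a = c ∧ b = d)) : a * d - c * b = 1 := by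
  have h1 : (-1 : F) = 1 := by rw [neg_eq_iff_add_eq_zero, two]
  rcases hall a with rfl | rfl <;> rcases hall b with rfl | rfl <;> rcases hall c with rfl | rfl <;>
    rcases hall d with rfl | rfl <;>
    first
      | exact absurd (And.intro rfl rfl) n1
      | exact absurd (And.intro rfl rfl) n2
      | exact absurd (And.intro rfl rfl) n3
      | (simp only [mul_one, mul_zero, sub_zero, zero_sub]; done)
      | (simp only [mul_one, mul_zero, sub_zero, zero_sub]; exact h1)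

/-- `|F| = 2` : `clo up lo` is the group of all elements which centralise `C` and normalise `N` -/
theorem clo_two (h : Bk e f C up lo) (hf : ∀ x : X, (∀ v : V, x • v = v) → x = 1) (h2 : ∀ v : V, v + v = 0)
    (hF : Nat.card F = 2) {x : X} (hC : ∀ c ∈ C, x • c = c)
    (hN : ∀ n ∈ e.range ⊔ f.range, x • n ∈ e.range ⊔ f.range) : x ∈ clo up lo := by
  classical
  have hall : ∀ z : F, z = 0 ∨ z = 1 := by
    intro z
    by_contra hz
    push Not at hz
    have : Finite F := Nat.finite_of_card_ne_zero (by omega)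
    have := Fintype.ofFinite F
    have h5 : ({z, 0, 1} : Finset F).card = 3 := by
      rw [Finset.card_insert_of_notMem, Finset.card_insert_of_notMem, Finset.card_singleton]
      · rw [Finset.mem_singleton]
        exact zero_ne_one
      · simp only [Finset.mem_insert, Finset.mem_singleton, not_or]
        exact hz
    have h6 := Finset.card_le_univ ({z, 0, 1} : Finset F)
    rw [h5, ← Nat.card_eq_fintype_card, hF] at h6
    omega
  have two := h.two h2
  have hex : ∀ n ∈ e.range ⊔ f.range, ∃ a b, n = e a + f b := by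
    intro n hn
    obtain ⟨_, ⟨a, rfl⟩, _, ⟨b, rfl⟩, e1⟩ := AddSubgroup.mem_sup.1 hn
    exact ⟨a, b, e1.symm⟩
  obtain ⟨a, b, hab⟩ := hex _ (hN (e 1) (AddSubgroup.mem_sup_left ⟨1, rfl⟩))
  obtain ⟨c, d, hcd⟩ := hex _ (hN (f 1) (AddSubgroup.mem_sup_right ⟨1, rfl⟩))
  have inj : ∀ p q : F, x • (e p + f q) = 0 → p = 0 ∧ q = 0 := by
    intro p q h0
    have e1 : e p + f q = 0 := by
      rw [← inv_smul_smul x (e p + f q), h0, smul_zero]
    exact h.ind p q (e1 ▸ C.zero_mem)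
  have n1 : ¬ (a = 0 ∧ b = 0) := fun h0 => one_ne_zero (inj 1 0 (by
    rw [map_zero, add_zero, hab, h0.1, h0.2, map_zero, map_zero, add_zero])).1
  have n2 : ¬ (c = 0 ∧ d = 0) := fun h0 => one_ne_zero (inj 0 1 (by
    rw [map_zero, zero_add, hcd, h0.1, h0.2, map_zero, map_zero, add_zero])).2
  have n3 : ¬ (a = c ∧ b = d) := fun h0 => one_ne_zero (inj 1 1 (by
    rw [smul_add, hab, hcd, h0.1, h0.2, h2])).1
  have hdet : (!![a, c; b, d] : Matrix (Fin 2) (Fin 2) F).det = 1 := by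
    rw [Matrix.det_fin_two_of]
    exact det_two hall (two 1) n1 n2 n3
  refine mem_clo h hf (B := ⟨!![a, c; b, d], hdet⟩) ⟨fun w => ?_, hC⟩
  have e0 : (!![a, c; b, d] : Matrix (Fin 2) (Fin 2) F).mulVec w = ![a * w 0 + c * w 1, b * w 0 + d * w 1] := by
    funext i
    fin_cases i <;> simp [Matrix.mulVec, dotProduct, Fin.sum_univ_two]
  change _ = e ((!![a, c; b, d] : Matrix (Fin 2) (Fin 2) F).mulVec w 0) +
    f ((!![a, c; b, d] : Matrix (Fin 2) (Fin 2) F).mulVec w 1)
  rw [e0]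
  rcases hall (w 0) with h0 | h0 <;> rcases hall (w 1) with h1 | h1 <;>
    simp only [h0, h1, Matrix.cons_val_zero, Matrix.cons_val_one, map_zero, add_zero, zero_add, mul_zero, mul_one,
      smul_zero, smul_add, hab, hcd, map_add]
  abel

end Cfsg.Agent.Omega.NOThreeL.RRed.Blk.AsmT

end

-- merged: Cfsg.Agent.Mrg.Omega.NOThreeL.RRed.Blk.AsmTD
section

/-!
# NO-3L, box R: `S` permutes the groups `T = clo up lo` of a family of natural blocks (`NBs.sD`)

* **`NBT.uniq`** : if a subgroup `R` of odd index of `C_X(C)` normalises `T` and `T'`, then `T = T'`;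
* `Fam.C_iff`, `Fam.cj_N`, `Fam.cj_C` : the complements;
* **`Fam.exists_T`** : `Fam`, `⨆ N D = ⊤`, `Tor`: there are `T D` with `NBT D (T D) (N D) (C D)` and `(T D)^s = T (D^s)`, `s ∈ S`.
-/

set_option autoImplicit false
set_option linter.unusedSectionVars false

namespace Cfsg.Agent.Omega.NOThreeL.RRed.Blk.AsmT

open Matrix
open Cfsg.Agent.Omega.NOThreeL.RRed.NS (fxd mem_fxd)
open Cfsg.Agent.Omega.NOThreeL.RRed.Blk.TypesGam
open Cfsg.Agent.Omega.NOThreeL.RRed.Blk.TypesEq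
open Cfsg.Agent.Omega.NOThreeL.RRed.Blk.TypesClo
open Cfsg.Agent.Omega.NOThreeL.RRed.Blk.Asm
open Cfsg.Agent.Omega.NOThreeL.RRed.Blk.AsmSL
open scoped Pointwise

universe u v w w'

/-! ### index lemmas -/

section index

variable {X : Type u} [Group X] [Finite X]

theorem relIndex_normal (S K : Subgroup X) [K.Normal] : S.relIndex K ∣ S.index := by
  refine dvd_trans (dvd_of_eq ?_) (Subgroup.relIndex_dvd_index_of_le (le_sup_left : S ≤ S ⊔ K))
  have c : ∀ A B : Subgroup X, A ≤ B → Nat.card A * A.relIndex B = Nat.card B := fun A B h => by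
    have h1 := Subgroup.relIndex_mul_relIndex (⊥ : Subgroup X) A B bot_le h
    rwa [Subgroup.relIndex_bot_left, Subgroup.relIndex_bot_left] at h1
  have h1 := c (S ⊓ K) S inf_le_left
  have h2 := c (S ⊓ K) K inf_le_right
  have h3 := c K (S ⊔ K) le_sup_right
  have h4 := c S (S ⊔ K) le_sup_left
  rw [Subgroup.relIndex_sup_right] at h3
  rw [Subgroup.inf_relIndex_right] at h2
  rw [inf_comm, Subgroup.inf_relIndex_right] at h1
  rw [inf_comm] at h2
  have p : 0 < Nat.card ↥(K ⊓ S) := Nat.card_pos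
  have p2 : 0 < K.relIndex S := Nat.pos_of_ne_zero (Subgroup.index_ne_zero_of_finite (H := K.subgroupOf S))
  have h5 : Nat.card ↥(K ⊓ S) * K.relIndex S * S.relIndex K = Nat.card ↥(K ⊓ S) * K.relIndex S * S.relIndex (S ⊔ K) := by
    calc _ = Nat.card ↥(K ⊓ S) * S.relIndex K * K.relIndex S := by ring
      _ = Nat.card K * K.relIndex S := by rw [h2]
      _ = Nat.card S * S.relIndex (S ⊔ K) := by rw [h3, h4]
      _ = _ := by rw [h1]
  exact Nat.eq_of_mul_eq_mul_left (Nat.mul_pos p p2) h5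

theorem relIndex_sub (S : Subgroup X) {K E : Subgroup X} (hEK : E ≤ K) (hn : ∀ k ∈ K, ∀ x ∈ E, k * x * k⁻¹ ∈ E) :
    S.relIndex E ∣ S.relIndex K := by
  have : (E.subgroupOf K).Normal := ⟨fun x hx k => hn k k.2 x hx⟩
  have h1 := relIndex_normal (S.subgroupOf K) (E.subgroupOf K)
  rwa [Subgroup.relIndex_subgroupOf hEK] at h1

/-- two Sylow subgroups of `W` are conjugate in `W` -/
theorem exists_cj {W P Q : Subgroup X} (hP : P ≤ W) (hQ : Q ≤ W) (hP2 : IsPGroup 2 P) (hQ2 : IsPGroup 2 Q)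
    (iP : ¬ 2 ∣ P.relIndex W) (iQ : ¬ 2 ∣ Q.relIndex W) : ∃ y ∈ W, MulAut.conj y • P = Q := by
  have : Fact (Nat.Prime 2) := ⟨Nat.prime_two⟩
  have a1 : IsPGroup 2 ↥(P.subgroupOf W) := hP2.of_equiv (Subgroup.subgroupOfEquivOfLe hP).symm
  have a2 : IsPGroup 2 ↥(Q.subgroupOf W) := hQ2.of_equiv (Subgroup.subgroupOfEquivOfLe hQ).symm
  obtain ⟨y, hy⟩ := MulAction.exists_smul_eq W (a1.toSylow iP) (a2.toSylow iQ)
  refine ⟨y, y.2, ?_⟩
  have h1 : ((y • a1.toSylow iP : Sylow 2 W) : Subgroup W) = Q.subgroupOf W := by rw [hy]; rfl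
  have h2 : MulAut.conj y • (P.subgroupOf W) = Q.subgroupOf W := h1
  ext x
  rw [Subgroup.mem_pointwise_smul_iff_inv_smul_mem, ← map_inv, MulAut.smul_def, MulAut.conj_apply, inv_inv]
  constructor
  · intro hx
    have hxW : x ∈ W := by
      have e : x = y * ((y : X)⁻¹ * x * y) * (y : X)⁻¹ := by group
      rw [e]
      exact mul_mem (mul_mem y.2 (hP hx)) (inv_mem y.2)
    have h3 : (⟨x, hxW⟩ : W) ∈ MulAut.conj y • (P.subgroupOf W) := by
      rw [Subgroup.mem_pointwise_smul_iff_inv_smul_mem, ← map_inv, MulAut.smul_def, MulAut.conj_apply, inv_inv]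
      exact hx
    rw [h2] at h3
    exact h3
  · intro hx
    have h3 : (⟨x, hQ hx⟩ : W) ∈ MulAut.conj y • (P.subgroupOf W) := by rw [h2]; exact hx
    rw [Subgroup.mem_pointwise_smul_iff_inv_smul_mem, ← map_inv, MulAut.smul_def, MulAut.conj_apply, inv_inv] at h3
    exact h3

theorem relIndex_cj (g : X) (A B : Subgroup X) : (MulAut.conj g • A).relIndex (MulAut.conj g • B) = A.relIndex B :=
  Subgroup.relIndex_pointwise_smul _ _ _

end index

variable {X : Type u} {V : Type v} [Group X] [AddCommGroup V] [DistribMulAction X V]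

/-- the pointwise stabiliser of `C` -/
def fx (X : Type u) {V : Type v} [Group X] [AddCommGroup V] [DistribMulAction X V] (C : AddSubgroup V) : Subgroup X where
  carrier := {x | ∀ c ∈ C, x • c = c}
  one_mem' := fun c _ => one_smul _ _
  mul_mem' := fun {a b} ha hb c hc => by rw [mul_smul, hb c hc, ha c hc]
  inv_mem' := fun {a} ha c hc => by rw [inv_smul_eq_iff, ha c hc]

theorem mem_fx {C : AddSubgroup V} {x : X} : x ∈ fx X C ↔ ∀ c ∈ C, x • c = c := Iff.rfl

theorem NBT.le_fx {D T : Subgroup X} {N C : AddSubgroup V} (h : NBT D T N C) : T ≤ fx X C := fun _ hx _ hc => h.cent hx hc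

/-- `T` normalises `N` -/
theorem NBT.norm {D T : Subgroup X} {N C : AddSubgroup V} (h : NBT D T N C) {x : X} (hx : x ∈ T) {n : V} (hn : n ∈ N) :
    x • n ∈ N := by
  obtain ⟨F, i1, i2, e, f, up, lo, h1, h2, h3, h4⟩ := h.ex
  obtain ⟨B, hB⟩ := sla_of_clo h1 (h3.symm ▸ hx)
  rw [← h4] at hn ⊢
  obtain ⟨_, ⟨a, rfl⟩, _, ⟨b, rfl⟩, rfl⟩ := AddSubgroup.mem_sup.1 hn
  have h5 := hB.act ![a, b]
  simp only [Matrix.cons_val_zero, Matrix.cons_val_one] at h5
  rw [h5]
  exact add_mem (AddSubgroup.mem_sup_left ⟨_, rfl⟩) (AddSubgroup.mem_sup_right ⟨_, rfl⟩)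

theorem two_dvd_card {F : Type w} [Field F] [Finite F] (two : ∀ x : F, x + x = 0) : 2 ∣ Nat.card F := by
  have : Fact (Nat.Prime 2) := ⟨Nat.prime_two⟩
  have h1 : addOrderOf (1 : F) = 2 := addOrderOf_eq_prime (by rw [two_nsmul, two]) one_ne_zero
  rw [← h1]
  exact addOrderOf_dvd_natCard _

/-- **uniqueness of `T`** -/
theorem NBT.uniq [Finite X] [Finite V] (h2 : ∀ v : V, v + v = 0) (hf : ∀ x : X, (∀ v : V, x • v = v) → x = 1)
    (hno : NO X V) {D T T' : Subgroup X} {N C : AddSubgroup V} (h : NBT D T N C) (h' : NBT D T' N C) {R : Subgroup X}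
    (hR : R ≤ fx X C) (hodd : ¬ 2 ∣ R.relIndex (fx X C)) (n : Nat.card D = 4 → ∀ x ∈ R, MulAut.conj x • T = T)
    (n' : Nat.card D = 4 → ∀ x ∈ R, MulAut.conj x • T' = T') : T = T' := by
  obtain ⟨F, i1, i2, e, f, up, lo, a1, a2, a3, a4⟩ := h.ex
  obtain ⟨F', i1', i2', e', f', up', lo', b1, b2, b3, b4⟩ := h'.ex
  have hcF : Nat.card D = Nat.card F := by rw [← a2]; exact a1.card_rt h2 hf
  have hcF' : Nat.card D = Nat.card F' := by rw [← b2]; exact b1.card_rt h2 hf
  have hrt : rt up = rt up' := a2.trans b2.symm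
  have hdv := two_dvd_card (a1.two h2)
  have h1F : 1 < Nat.card F := Finite.one_lt_card
  rcases (by omega : Nat.card F = 2 ∨ Nat.card F = 4 ∨ 4 < Nat.card F) with hF | hF | hF
  · -- `|F| = 2`
    apply le_antisymm
    · intro x hx
      rw [← b3]
      exact clo_two b1 hf h2 (by rw [← hcF', hcF, hF]) (fun c hc => h.cent hx hc) fun m hm => by
        rw [b4] at hm ⊢
        exact h.norm hx hm
    · intro x hx
      rw [← a3]
      exact clo_two a1 hf h2 hF (fun c hc => h'.cent hx hc) fun m hm => by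
        rw [a4] at hm ⊢
        exact h'.norm hx hm
  · -- `|F| = 4`
    have hD4 : Nat.card D = 4 := hcF.trans hF
    rcases exists_swap a1 b1 h2 hf hno hF hrt with h5 | ⟨y, hy, y1, y2⟩
    · rw [← a3, ← b3, h5]
    · by_contra hne
      rw [a3, b3] at hy y1 y2
      -- the stabiliser of `{T, T'}`
      let K : Subgroup X :=
        { carrier := {x | x ∈ fx X C ∧ MulAut.conj x • T = T ∧ MulAut.conj x • T' = T'}
          one_mem' := ⟨one_mem _, by rw [map_one, one_smul], by rw [map_one, one_smul]⟩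
          mul_mem' := by
            rintro a b ⟨p1, p2, p3⟩ ⟨q1, q2, q3⟩
            exact ⟨mul_mem p1 q1, by rw [map_mul, mul_smul, q2, p2], by rw [map_mul, mul_smul, q3, p3]⟩
          inv_mem' := by
            rintro a ⟨p1, p2, p3⟩
            exact ⟨inv_mem p1, by rw [map_inv, inv_smul_eq_iff, p2], by rw [map_inv, inv_smul_eq_iff, p3]⟩ }
      let W : Subgroup X :=
        { carrier := {x | x ∈ fx X C ∧ ((MulAut.conj x • T = T ∧ MulAut.conj x • T' = T') ∨
            (MulAut.conj x • T = T' ∧ MulAut.conj x • T' = T))}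
          one_mem' := ⟨one_mem _, Or.inl ⟨by rw [map_one, one_smul], by rw [map_one, one_smul]⟩⟩
          mul_mem' := by
            rintro a b ⟨p1, p2⟩ ⟨q1, q2⟩
            refine ⟨mul_mem p1 q1, ?_⟩
            rw [map_mul, mul_smul, mul_smul]
            rcases p2 with ⟨p2, p3⟩ | ⟨p2, p3⟩ <;> rcases q2 with ⟨q2, q3⟩ | ⟨q2, q3⟩ <;> rw [q2, q3]
            · exact Or.inl ⟨p2, p3⟩
            · exact Or.inr ⟨p3, p2⟩
            · exact Or.inr ⟨p2, p3⟩
            · exact Or.inl ⟨p3, p2⟩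
          inv_mem' := by
            rintro a ⟨p1, p2⟩
            refine ⟨inv_mem p1, ?_⟩
            rw [map_inv, inv_smul_eq_iff, inv_smul_eq_iff, inv_smul_eq_iff, inv_smul_eq_iff]
            rcases p2 with ⟨p2, p3⟩ | ⟨p2, p3⟩
            · exact Or.inl ⟨p2.symm, p3.symm⟩
            · exact Or.inr ⟨p3.symm, p2.symm⟩ }
      have hKW : K ≤ W := fun x hx => ⟨hx.1, Or.inl hx.2⟩
      have hWE : W ≤ fx X C := fun x hx => hx.1
      have hRK : R ≤ K := fun x hx => ⟨hR hx, n hD4 x hx, n' hD4 x hx⟩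
      have hyW : y ∈ W := ⟨sup_le h.le_fx h'.le_fx hy, Or.inr ⟨y1, y2⟩⟩
      have hind : K.relIndex W = 2 := by
        rw [Subgroup.relIndex, Subgroup.index_eq_two_iff]
        refine ⟨⟨y, hyW⟩, fun b => ?_⟩
        obtain ⟨b, hb1, hb2⟩ := b
        have e1 : ∀ hb, ((⟨b, hb⟩ * ⟨y, hyW⟩ : W) ∈ K.subgroupOf W) ↔ b * y ∈ K := fun hb => Iff.rfl
        have e2 : ∀ hb, ((⟨b, hb⟩ : W) ∈ K.subgroupOf W) ↔ b ∈ K := fun hb => Iff.rfl
        rw [e1, e2]
        rcases hb2 with ⟨p2, p3⟩ | ⟨p2, p3⟩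
        · refine Or.inr ⟨⟨hb1, p2, p3⟩, fun h5 => ?_⟩
          have h6 := h5.2.1
          rw [map_mul, mul_smul, y1, p3] at h6
          exact hne h6.symm
        · refine Or.inl ⟨⟨mul_mem hb1 hyW.1, ?_, ?_⟩, fun h5 => ?_⟩
          · rw [map_mul, mul_smul, y1, p3]
          · rw [map_mul, mul_smul, y2, p2]
          · have h6 := h5.2.1
            rw [p2] at h6
            exact hne h6.symm
      apply hodd
      rw [← Subgroup.relIndex_mul_relIndex R K (fx X C) hRK (hKW.trans hWE),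
        ← Subgroup.relIndex_mul_relIndex K W (fx X C) hKW hWE, hind]
      exact Dvd.dvd.mul_left (Dvd.intro _ rfl) _
  · rw [← a3, ← b3]
    exact a1.clo_eq b1 h2 hf hno hF hrt

/-! ### families -/

section fam

variable {S : Subgroup X} {FF : Set (Subgroup X)} {N C : Subgroup X → AddSubgroup V}

/-- the product of the other blocks -/
def Co (FF : Set (Subgroup X)) (N : Subgroup X → AddSubgroup V) (D : Subgroup X) : AddSubgroup V :=
  ⨆ D' : {D' // D' ∈ FF ∧ D' ≠ D}, N D'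

theorem le_Co {D D' : Subgroup X} (hD' : D' ∈ FF) (hne : D' ≠ D) : N D' ≤ Co FF N D :=
  le_iSup (fun D' : {D' // D' ∈ FF ∧ D' ≠ D} => N D') ⟨D', hD', hne⟩

variable (H : Fam S FF N C) (hsup : ⨆ D ∈ FF, N D = ⊤)
include H

theorem Co_le {D : Subgroup X} (hD : D ∈ FF) : Co FF N D ≤ C D :=
  iSup_le fun D' => H.ind D hD D' D'.2.1 D'.2.2

include hsup

theorem C_eq {D : Subgroup X} (hD : D ∈ FF) : C D = Co FF N D := by
  refine le_antisymm (fun c hc => ?_) (Co_le H hD)
  have h1 : (⊤ : AddSubgroup V) ≤ N D ⊔ Co FF N D := by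
    rw [← hsup]
    refine iSup₂_le fun D' hD' => ?_
    by_cases h : D' = D
    · rw [h]; exact le_sup_left
    · exact (le_Co hD' h).trans le_sup_right
  obtain ⟨n, hn, c', hc', h3⟩ := AddSubgroup.mem_sup.1 (h1 (AddSubgroup.mem_top c))
  have h4 : n ∈ C D := by
    have e : n = c - c' := by rw [← h3]; abel
    rw [e]; exact sub_mem hc (Co_le H hD hc')
  have h5 := (H.nb D hD).inf_bot hn h4
  rw [h5, zero_add] at h3
  rw [← h3]; exact hc'

theorem perm_C {D D' : Subgroup X} (hD : D ∈ FF) (hD' : D' ∈ FF) {g : X} (h : ∀ m, m ∈ N D ↔ g • m ∈ N D') :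
    ∀ m, m ∈ C D ↔ g • m ∈ C D' := by
  have key : ∀ {D D' : Subgroup X}, D ∈ FF → D' ∈ FF → ∀ {g : X}, (∀ m, m ∈ N D ↔ g • m ∈ N D') →
      ∀ m ∈ C D, g • m ∈ C D' := by
    intro D D' hD hD' g h m hm
    rw [C_eq H hsup hD] at hm
    have h1 : Co FF N D ≤ (C D').comap (DistribSMul.toAddMonoidHom V g) := by
      refine iSup_le fun D2 x hx => ?_
      obtain ⟨D3, hD3, -, h3⟩ := H.perm g D2 D2.2.1
      refine H.ind D' hD' D3 hD3 (fun e => D2.2.2 ?_) ((h3 x).1 hx)
      refine H.inj D2.2.1 hD ?_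
      ext n
      rw [h3 n, h n, e]
    exact h1 hm
  intro m
  refine ⟨key hD hD' h m, fun hm => ?_⟩
  have h1 := key hD' hD (g := g⁻¹) (fun n => by rw [h (g⁻¹ • n), smul_inv_smul]) _ hm
  rwa [inv_smul_smul] at h1

theorem EX_eq {D : Subgroup X} (hD : D ∈ FF) : EX FF N D = fx X (C D) := by
  ext x
  constructor
  · intro hx c hc
    rw [C_eq H hsup hD] at hc
    have h1 : Co FF N D ≤ (fxd (Subgroup.zpowers x) : AddSubgroup V) := by
      refine iSup_le fun D2 n hn => mem_fxd.2 fun y hy => ?_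
      have h2 : Subgroup.zpowers x ≤ MulAction.stabilizer X n :=
        (Subgroup.zpowers_le).2 (MulAction.mem_stabilizer_iff.2 (hx D2 D2.2.1 D2.2.2 n hn))
      exact MulAction.mem_stabilizer_iff.1 (h2 hy)
    exact mem_fxd.1 (h1 hc) x (Subgroup.mem_zpowers x)
  · intro hx D' hD' hne m hm
    exact hx m (H.ind D hD D' hD' hne hm)

omit hsup in
/-- the block of `D^g` -/
theorem cj_N {D : Subgroup X} (hD : D ∈ FF) {g : X} (hg : MulAut.conj g • D ∈ FF) (m : V) :
    m ∈ N D ↔ g • m ∈ N (MulAut.conj g • D) := by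
  obtain ⟨D', hD', -, h1⟩ := H.perm g D hD
  have e : D' = MulAut.conj g • D := by
    by_contra hne
    obtain ⟨d, hd, n, hn, hdn⟩ := (H.nb D hD).moves
    have h3 := H.ind _ hg D' hD' hne ((h1 n).1 hn)
    have h4 : g * d * g⁻¹ ∈ MulAut.conj g • D := ⟨d, hd, rfl⟩
    have h5 := mem_fxd.1 ((H.nb _ hg).C_le h3) _ h4
    rw [mul_smul, mul_smul, inv_smul_smul] at h5
    exact hdn (smul_left_cancel _ h5)
  rw [← e]
  exact h1 m

theorem cj_C {D : Subgroup X} (hD : D ∈ FF) {g : X} (hg : MulAut.conj g • D ∈ FF) (m : V) :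
    m ∈ C D ↔ g • m ∈ C (MulAut.conj g • D) :=
  perm_C H hsup hD hg (cj_N H hD hg) m

theorem nbt_cj {D T : Subgroup X} (hD : D ∈ FF) (h : NBT D T (N D) (C D)) {g : X} (hg : MulAut.conj g • D ∈ FF) :
    NBT (MulAut.conj g • D) (MulAut.conj g • T) (N (MulAut.conj g • D)) (C (MulAut.conj g • D)) := by
  have h1 := h.conj g
  have e1 : (N D).map (DistribSMul.toAddMonoidHom V g) = N (MulAut.conj g • D) := by
    ext m
    rw [Asm.mem_map, cj_N H hD hg, smul_inv_smul]
  have e2 : (C D).map (DistribSMul.toAddMonoidHom V g) = C (MulAut.conj g • D) := by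
    ext m
    rw [Asm.mem_map, cj_C H hsup hD hg, smul_inv_smul]
  rwa [e1, e2] at h1

theorem fx_cj {D : Subgroup X} (hD : D ∈ FF) {g : X} (hg : MulAut.conj g • D ∈ FF) :
    MulAut.conj g • fx X (C D) = fx X (C (MulAut.conj g • D)) := by
  ext x
  rw [Types.mem_cj]
  constructor
  · intro hx c hc
    have h1 : g⁻¹ • c ∈ C D := by rw [cj_C H hsup hD hg, smul_inv_smul]; exact hc
    have h3 := hx _ h1
    rw [mul_smul, mul_smul, smul_inv_smul] at h3
    exact smul_left_cancel _ h3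
  · intro hx c hc
    have h1 := hx _ ((cj_C H hsup hD hg c).1 hc)
    rw [mul_smul, mul_smul, h1, inv_smul_smul]

/-- `S ∩ E_D` normalises `D` -/
theorem cj_self {D : Subgroup X} (hD : D ∈ FF) {x : X} (hx : x ∈ S) (hx1 : x ∈ fx X (C D)) : MulAut.conj x • D = D := by
  have h1 := H.sinv x hx D hD
  refine H.inj h1 hD ?_
  have h3 : x ∈ EO FF N := H.EX_le hD (by rw [EX_eq H hsup hD]; exact hx1)
  ext m
  have h4 := cj_N H hD h1 (x⁻¹ • m)
  rw [smul_inv_smul] at h4
  rw [← h4, h3 D hD, smul_inv_smul]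

variable [Finite X] [Finite V]

theorem odd_E (hS : ¬ 2 ∣ S.index) {D : Subgroup X} (hD : D ∈ FF) : ¬ 2 ∣ S.relIndex (fx X (C D)) := by
  intro h
  apply hS
  rw [← EX_eq H hsup hD] at h
  have : (EO FF N).Normal := ⟨fun x hx g => H.EO_norm g hx⟩
  exact h.trans ((relIndex_sub S (H.EX_le hD) fun k hk x hx => H.EX_norm hk hx).trans (relIndex_normal S (EO FF N)))

/-- the condition on `T` -/
def Good (S : Subgroup X) (N C : Subgroup X → AddSubgroup V) (D T : Subgroup X) : Prop :=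
  NBT D T (N D) (C D) ∧ (Nat.card D = 4 → ∀ x ∈ S ⊓ fx X (C D), MulAut.conj x • T = T)

theorem good_uniq (h2 : ∀ v : V, v + v = 0) (hf : ∀ x : X, (∀ v : V, x • v = v) → x = 1) (hno : NO X V)
    (hS : ¬ 2 ∣ S.index) {D T T' : Subgroup X} (hD : D ∈ FF) (h : Good S N C D T) (h' : Good S N C D T') : T = T' := by
  refine h.1.uniq h2 hf hno h'.1 (R := S ⊓ fx X (C D)) inf_le_right ?_ h.2 h'.2
  rw [Subgroup.inf_relIndex_right]
  exact odd_E H hsup hS hD

theorem good_exists (hS2 : IsPGroup 2 S) (hS : ¬ 2 ∣ S.index) (hT : Tor S FF N C) {D : Subgroup X} (hD : D ∈ FF) :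
    ∃ T, Good S N C D T := by
  by_cases h4 : Nat.card D = 4
  swap
  · obtain ⟨T, hT⟩ := NB.exists_nbt (H.nb D hD)
    exact ⟨T, hT, fun h => absurd h h4⟩
  obtain ⟨A, hA, m, hm, T, hT1, hT2⟩ := hT D hD h4
  have hmF : MulAut.conj m • A ∈ FF := by rw [hm]; exact hD
  -- two Sylow subgroups of `E_D ∩ N(D)`
  let W : Subgroup X :=
    { carrier := {x | x ∈ fx X (C D) ∧ MulAut.conj x • D = D}
      one_mem' := ⟨one_mem _, by rw [map_one, one_smul]⟩
      mul_mem' := by
        rintro a b ⟨p1, p2⟩ ⟨q1, q2⟩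
        exact ⟨mul_mem p1 q1, by rw [map_mul, mul_smul, q2, p2]⟩
      inv_mem' := by
        rintro a ⟨p1, p2⟩
        exact ⟨inv_mem p1, by rw [map_inv, inv_smul_eq_iff, p2]⟩ }
  have hWE : W ≤ fx X (C D) := fun x hx => hx.1
  have hE : MulAut.conj m • fx X (C A) = fx X (C D) := by rw [fx_cj H hsup hA hmF, hm]
  set P := MulAut.conj m • (S ⊓ fx X (C A)) with hP
  set Q := S ⊓ fx X (C D) with hQ
  have hPW : P ≤ W := by
    rintro _ ⟨x, hx, rfl⟩
    change MulAut.conj m x ∈ W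
    refine ⟨by rw [← hE]; exact ⟨x, hx.2, rfl⟩, ?_⟩
    have h5 := cj_self H hsup hA hx.1 hx.2
    have e : MulAut.conj (MulAut.conj m x) • D = MulAut.conj m • MulAut.conj x • MulAut.conj m⁻¹ • D := by
      rw [← mul_smul, ← mul_smul, ← map_mul, ← map_mul]
      have e0 : MulAut.conj m x = m * x * m⁻¹ := rfl
      rw [e0]
    have e2 : MulAut.conj m⁻¹ • D = A := by rw [← hm, map_inv, inv_smul_smul]
    rw [e, e2, h5, hm]
  have hQW : Q ≤ W := fun x hx => ⟨hx.2, cj_self H hsup hD hx.1 hx.2⟩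
  have hP2 : IsPGroup 2 P := (hS2.to_le inf_le_left).of_equiv (Subgroup.equivSMul (MulAut.conj m) (S ⊓ fx X (C A)))
  have hQ2 : IsPGroup 2 Q := hS2.to_le inf_le_left
  have iP : ¬ 2 ∣ P.relIndex W := by
    intro h
    have h5 : P.relIndex W ∣ P.relIndex (fx X (C D)) := by
      rw [← Subgroup.relIndex_mul_relIndex P W _ hPW hWE]
      exact Dvd.intro _ rfl
    have h6 : P.relIndex (fx X (C D)) = S.relIndex (fx X (C A)) := by
      rw [← hE, hP, relIndex_cj, Subgroup.inf_relIndex_right]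
    exact odd_E H hsup hS hA (h6 ▸ h.trans h5)
  have iQ : ¬ 2 ∣ Q.relIndex W := by
    intro h
    have h5 : Q.relIndex W ∣ Q.relIndex (fx X (C D)) := by
      rw [← Subgroup.relIndex_mul_relIndex Q W _ hQW hWE]
      exact Dvd.intro _ rfl
    have h6 : Q.relIndex (fx X (C D)) = S.relIndex (fx X (C D)) := by
      rw [hQ, Subgroup.inf_relIndex_right]
    exact odd_E H hsup hS hD (h6 ▸ h.trans h5)
  obtain ⟨y, hy, hyP⟩ := exists_cj hPW hQW hP2 hQ2 iP iQ
  have e3 : MulAut.conj (y * m) • A = D := by rw [map_mul, mul_smul, hm, hy.2]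
  refine ⟨MulAut.conj (y * m) • T, ?_, fun _ x hx => ?_⟩
  · have h5 := nbt_cj H hsup hA hT1 (g := y * m) (by rw [e3]; exact hD)
    rwa [e3] at h5
  · have hx' : x ∈ MulAut.conj y • P := by rw [hyP]; exact hx
    obtain ⟨_, ⟨z, hz, rfl⟩, rfl⟩ := hx'
    change MulAut.conj (MulAut.conj y (MulAut.conj m z)) • MulAut.conj (y * m) • T = MulAut.conj (y * m) • T
    have hz1 : MulAut.conj z • T = T := hT2 z hz.1 (cj_self H hsup hA hz.1 hz.2)
    have e4 : MulAut.conj (MulAut.conj y (MulAut.conj m z)) • MulAut.conj (y * m) • T =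
        MulAut.conj (y * m) • MulAut.conj z • T := by
      rw [← mul_smul, ← mul_smul, ← map_mul, ← map_mul]
      congr 2
      rw [MulAut.conj_apply, MulAut.conj_apply]; group
    rw [e4, hz1]

/-- **`S` permutes the groups `T D`** -/
theorem exists_T (h2 : ∀ v : V, v + v = 0) (hf : ∀ x : X, (∀ v : V, x • v = v) → x = 1) (hno : NO X V)
    (hS2 : IsPGroup 2 S) (hS : ¬ 2 ∣ S.index) (hT : Tor S FF N C) :
    ∃ T : Subgroup X → Subgroup X, (∀ D ∈ FF, NBT D (T D) (N D) (C D)) ∧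
      ∀ s ∈ S, ∀ D ∈ FF, MulAut.conj s • T D = T (MulAut.conj s • D) := by
  classical
  have hex := fun D (hD : D ∈ FF) => good_exists H hsup hS2 hS hT hD
  refine ⟨fun D => if h : D ∈ FF then Classical.choose (hex D h) else D, fun D hD => ?_, fun s hs D hD => ?_⟩
  · beta_reduce
    rw [dif_pos hD]
    exact (Classical.choose_spec (hex D hD)).1
  · have hD' := H.sinv s hs D hD
    beta_reduce
    rw [dif_pos hD, dif_pos hD']
    refine good_uniq H hsup h2 hf hno hS hD' ?_ (Classical.choose_spec (hex _ hD'))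
    obtain ⟨g1, g2⟩ := Classical.choose_spec (hex D hD)
    refine ⟨nbt_cj H hsup hD g1 hD', fun h4 x hx => ?_⟩
    obtain ⟨hxS, hxf⟩ := Subgroup.mem_inf.1 hx
    have hx1 : s⁻¹ * x * s ∈ S ⊓ fx X (C D) := by
      refine Subgroup.mem_inf.2 ⟨mul_mem (mul_mem (inv_mem hs) hxS) hs, ?_⟩
      rw [← fx_cj H hsup hD hD', Types.mem_cj] at hxf
      exact hxf
    have h6 := g2 (by rwa [Types.card_cj] at h4) _ hx1
    have e : MulAut.conj x • MulAut.conj s • Classical.choose (hex D hD) =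
        MulAut.conj s • MulAut.conj (s⁻¹ * x * s) • Classical.choose (hex D hD) := by
      rw [← mul_smul, ← mul_smul, ← map_mul, ← map_mul]
      congr 2
      group
    rw [e, h6]

end fam

end Cfsg.Agent.Omega.NOThreeL.RRed.Blk.AsmT

end
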