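import Cfsg.Agent.Mrg.Omega.NOThreeL.RRed.Blk.AsmInp
import Cfsg.Agent.Mrg.Omega.NOThreeL.RRed.Blk.UniOf
import Cfsg.Agent.Mrg.Omega.NOThreeL.RRed.Blk.AsmTX
import Cfsg.Agent.Mrg.Omega.NOThreeL.RRed.Blk.AsmLn
import Cfsg.Agent.Mrg.Omega.NOThreeL.RRed.FourNl
import Cfsg.Agent.Mrg.Omega.NOThreeL.RRed.Blk.AsmNBs

-- merged: Cfsg.Agent.Mrg.Omega.NOThreeL.RRed.Blk.MvNat
section

/-!
# NO-3L, box R: every `z ∈ Z` with a component in a natural block is moved by an active `P` ((M3n) of #27316)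

`U = zl S L`, `FF` : the family of `AsmG.Inp.main` for `RR = RRs S L Q` (all natural blocks with `|D| ≥ 4`), `SPL` known,
`MvAct` is NOT used.

* `HOut` : the group `H = ⟨T_(D^s) : s ∈ S⟩ S` (module level, helper208), `T_D ≅ SL₂(F)`;
* **`mv_big`** : `z ∈ Z`, `z ∉ C D`, `D ∈ FF`: some active `R ∈ P*(S)`, `R ≤ L`, moves `z`.
-/

set_option autoImplicit false
set_option linter.unusedSectionVars false

namespace Cfsg.Agent.Omega.NOThreeL.RRed.Blk.MvNat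

open Subgroup Cfsg Cfsg.Agent.ZN Cfsg.Agent.Omega.MinPar
open Cfsg.Agent.Omega.FFThm
open Cfsg.Agent.Omega.FrameFF (cv)
open Cfsg.Agent.Omega.NO3S.ThmB Cfsg.Agent.Omega.NO3S.KeyRad
open Cfsg.Agent.Omega.NOThreeL.RSplit (Nrm)
open Cfsg.Agent.Omega.NOThreeL.RRed.NS (fxd brk mem_fxd smul_eq_iff conj_eq_cj)
open Cfsg.Agent.Omega.NOThreeL.RRed.Blk.TypesNat (XH ph ph_smul XH_faith ph_eq ph_surj)
open Cfsg.Agent.Omega.NOThreeL.RRed.Blk.TypesGam (Bk rt)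
open Cfsg.Agent.Omega.NOThreeL.RRed.Blk.Asm
open Cfsg.Agent.Omega.NOThreeL.RRed.Blk.AsmG
open Cfsg.Agent.Omega.NOThreeL.RRed.Blk.AsmInp
open Cfsg.Agent.Omega.NOThreeL.RRed.Blk.AsmCore (EE im EP KP im_cj ph_mem_im im_mono le_KP_sup KP_le)
open scoped Pointwise

universe u v

/-- the group `H`, module level -/
structure HOut {X : Type u} {V : Type v} [Group X] [AddCommGroup V] [DistribMulAction X V] (S : Subgroup X)
    (FF : Set (Subgroup X)) (C : Subgroup X → AddSubgroup V) (D : Subgroup X) (H : Subgroup X) : Prop where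
  SH : S ≤ H
  mv : ∃ x ∈ H, MulAut.conj x • D ∉ FF
  stab : ∀ x ∈ H, ∀ z : V, (∀ s ∈ S, s • z = z) → (∀ s ∈ S, s • (x • z) = x • z) → z ∉ C D →
    ∀ B ∈ FF, MulAut.conj x • B ∈ FF

section main

variable {G : Type u} [Group G] [Finite G] {S : Sylow 2 G} {L : Subgroup G}
  {Q : Nrm L (zl (S : Subgroup G) L)}

local notation "EEi" => im Q '' AsmCore.EE (S : Subgroup G) (zl (S : Subgroup G) L)

theorem St_le : St EEi ≤ St (FFs EEi (RRs S L Q)) := by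
  intro g hg A
  refine ⟨conj_FFs hg, fun hA => ?_⟩
  have h1 := conj_FFs (inv_mem hg) hA
  rwa [← mul_smul, ← map_mul, inv_mul_cancel, map_one, one_smul] at h1

/-- the preimage in `G` -/
def pre (Q : Nrm L (zl (S : Subgroup G) L)) (H : Subgroup (XH Q)) : Subgroup G := (H.comap (ph Q)).map L.subtype

theorem mem_pre {H : Subgroup (XH Q)} {x : G} : x ∈ pre Q H ↔ ∃ hx : x ∈ L, ph Q ⟨x, hx⟩ ∈ H := by
  constructor
  · rintro ⟨y, hy, rfl⟩
    exact ⟨y.2, hy⟩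
  · rintro ⟨hx, h⟩
    exact ⟨⟨x, hx⟩, h, rfl⟩

theorem le_pre {H : Subgroup (XH Q)} {R : Subgroup G} (hR : R ≤ L) (h : im Q R ≤ H) : R ≤ pre Q H := fun x hx =>
  mem_pre.2 ⟨hR hx, h (ph_mem_im Q (a := ⟨x, hR hx⟩) hx)⟩

theorem im_le_of_pre {H : Subgroup (XH Q)} {R : Subgroup G} (h : R ≤ pre Q H) : im Q R ≤ H := by
  rintro _ ⟨x, hx, rfl⟩
  obtain ⟨_, h1⟩ := mem_pre.1 (h hx)
  exact h1

/-- elements of `L` which normalise `S` -/
theorem norm_St {n : L} (hn : (n : G) ∈ normalizer ((S : Subgroup G) : Set G)) : ph Q n ∈ St EEi := by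
  have key : ∀ n : L, (n : G) ∈ normalizer ((S : Subgroup G) : Set G) → ∀ A ∈ EEi, MulAut.conj (ph Q n) • A ∈ EEi := by
    rintro n hn _ ⟨A, hA, rfl⟩
    refine ⟨MulAut.conj (n : G) • A, ⟨?_, ?_⟩, im_cj Q n⟩
    · intro x hx
      have h4 := hA.1 (NS.mem_conj.1 hx)
      have h6 := (mem_normalizer_iff.1 hn _).1 h4
      have e : (n : G) * ((n : G)⁻¹ * x * n) * (n : G)⁻¹ = x := by group
      rwa [e] at h6
    · rw [conj_eq_cj]
      exact CI.mx_conj hA.2 (Q.nrm n.2)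
  intro A
  refine ⟨key n hn A, fun hA => ?_⟩
  have h1 := key n⁻¹ (inv_mem hn) _ hA
  rwa [map_inv, ← mul_smul, ← map_mul, inv_mul_cancel, map_one, one_smul] at h1

/-- **(M3n)**: `z ∈ Z` with a component in the block of `D` is moved by an active `R`. -/
theorem mv_big (hL : IsLoc (S : Subgroup G) L) (h : Inp S L Q) {D : Subgroup (XH Q)}
    (hD : D ∈ FFs EEi (RRs S L Q)) {H : Subgroup (XH Q)}
    (HO : HOut (im Q (S : Subgroup G)) (FFs EEi (RRs S L Q)) (CC EEi Q.Mod) D H) {z : G}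
    (hz : z ∈ zc (S : Subgroup G)) (hzU : z ∈ zl (S : Subgroup G) L) (hzD : Q.of z hzU ∉ CC EEi Q.Mod D) :
    ∃ R, IsParS (S : Subgroup G) R ∧ R ≤ L ∧ (EP (S : Subgroup G) R (zl (S : Subgroup G) L)).Nonempty ∧
      ¬ R ≤ centralizer ({z} : Set G) := by
  have hSL := hL.le
  obtain ⟨hFE, h4, hGB, hFam⟩ := h.main (RR := RRs S L Q) le_rfl
  -- `z` is fixed by `S`
  have hzS : ∀ s ∈ im Q (S : Subgroup G), s • Q.of z hzU = Q.of z hzU := by
    rintro _ ⟨s, hs, rfl⟩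
    rw [ph_smul, smul_eq_iff, Nrm.val_of]
    have h5 := (ChoiceBase.mem_zc.1 hz).2.2 (s : G) hs
    rw [h5]; group
  -- `R`
  have hH : IsLoc (S : Subgroup G) (pre Q H) := hL.of_le S (le_pre hSL HO.SH) fun x hx => (mem_pre.1 hx).1
  obtain ⟨R, hR, hRH, hRM⟩ := hH.exists_not_le S (M := pre Q (St (FFs EEi (RRs S L Q))))
    (by
      rintro n ⟨hn, hnS⟩
      obtain ⟨hnL, -⟩ := mem_pre.1 hn
      exact mem_pre.2 ⟨hnL, St_le (norm_St (n := ⟨n, hnL⟩) hnS)⟩)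
    (by
      intro hcon
      obtain ⟨x, hx, hxD⟩ := HO.mv
      obtain ⟨g, rfl⟩ := ph_surj Q x
      obtain ⟨_, h5⟩ := mem_pre.1 (hcon (mem_pre.2 ⟨g.2, hx⟩ : (g : G) ∈ pre Q H))
      exact hxD ((h5 D).1 hD))
  have hRL : R ≤ L := fun x hx => (mem_pre.1 (hRH hx)).1
  have hRHi : im Q R ≤ H := im_le_of_pre hRH
  have hRSt : ¬ im Q R ≤ St (FFs EEi (RRs S L Q)) := fun h5 => hRM (le_pre hRL h5)
  -- `R` moves `z` out of `Z`
  have hmv : ¬ ∀ r ∈ R, r * z * r⁻¹ ∈ zc (S : Subgroup G) := by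
    intro hcon
    refine hRSt (le_St ?_)
    rintro _ ⟨r, hr, rfl⟩ B hB
    refine HO.stab _ (hRHi (ph_mem_im Q hr)) (Q.of z hzU) hzS ?_ hzD B hB
    rintro _ ⟨s, hs, rfl⟩
    have h6 := (ChoiceBase.mem_zc.1 (hcon r hr)).2.2 (s : G) hs
    rw [ph_smul, ph_smul, smul_eq_iff, Nrm.val_smul, Nrm.val_of, h6]
    group
  have hRS : IsParS (S : Subgroup G) R :=
    ⟨hR, fun hn => hmv fun r hr => (mem_normalizer_iff.1 (hn hr) z).1 hz⟩
  refine ⟨R, hRS, hRL, ?_, fun hRz => hmv fun r hr => ?_⟩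
  · by_contra hcon
    exact hRSt ((le_St (inact h.hc Q hRS hcon)).trans St_le)
  · have h6 := mem_centralizer_singleton_iff.1 (hRz hr)
    have e1 : r * z * r⁻¹ = z := by rw [h6]; group
    rw [e1]; exact hz

end main

end Cfsg.Agent.Omega.NOThreeL.RRed.Blk.MvNat

end

-- merged: Cfsg.Agent.Mrg.Omega.NOThreeL.RRed.Blk.MvNatH
section

section


/-!
# NO-3L, box R: (M3n) without hypotheses

* **`hout_of`** : the group `H` of `MvNat.HOut` (877's `exists_T'`, 208's `HO`);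
* **`mvBig`** : `MvEnd.MvBig S`.
-/

set_option autoImplicit false
set_option linter.unusedSectionVars false

namespace Cfsg.Agent.Omega.NOThreeL.RRed.Blk.MvNatH

open Subgroup Cfsg Cfsg.Agent.ZN Cfsg.Agent.Omega.MinPar
open Cfsg.Agent.Omega.NOThreeL.RSplit (Nrm)
open Cfsg.Agent.Omega.NOThreeL.RTree (RB)
open Cfsg.Agent.Omega.NOThreeL.Merge (MZ isLoc_MZ)
open Cfsg.Agent.Omega.NOThreeL.RRed.Blk.TypesNat (XH XH_faith)
open Cfsg.Agent.Omega.NOThreeL.RRed.Blk.Asm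
open Cfsg.Agent.Omega.NOThreeL.RRed.Blk.AsmG
open Cfsg.Agent.Omega.NOThreeL.RRed.Blk.AsmInp
open Cfsg.Agent.Omega.NOThreeL.RRed.Blk.AsmCore (im EP)
open Cfsg.Agent.Omega.NOThreeL.RRed.Blk.MvNat
open scoped Pointwise

universe u

variable {G : Type u} [Group G] [Finite G] {S : Sylow 2 G} {L : Subgroup G}
  {Q : Nrm L (zl (S : Subgroup G) L)}

local notation "EEi" => im Q '' AsmCore.EE (S : Subgroup G) (zl (S : Subgroup G) L)

/-- **The group `H`.** -/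
theorem hout_of (hL : IsLoc (S : Subgroup G) L) (h : Inp S L Q) (spl : Spl S L) {D : Subgroup (XH Q)}
    (hD : D ∈ FFs EEi (RRs S L Q)) :
    ∃ H : Subgroup (XH Q), HOut (im Q (S : Subgroup G)) (FFs EEi (RRs S L Q)) (CC EEi Q.Mod) D H := by
  have hSL := hL.le
  obtain ⟨hFE, h4, hGB, hFam⟩ := h.main (RR := RRs S L Q) le_rfl
  have : Fact (Nat.Prime 2) := ⟨Nat.prime_two⟩
  have hS2 : IsPGroup 2 (im Q (S : Subgroup G)) := (TypesNat.imS Q S hSL).isPGroup'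
  have hSi : ¬ 2 ∣ (im Q (S : Subgroup G)).index := by
    have h3 := (TypesNat.imS Q S hSL).not_dvd_index' Subgroup.index_ne_zero_of_finite
    exact h3
  obtain ⟨T, hT1, hT2⟩ := AsmTX.exists_T' hFam h.two h.hf h.hno h4 hS2 hSi
    (tor_main h.hc hL h.no spl le_rfl hFam)
  have hT : MvH.TSys (im Q (S : Subgroup G)) (FFs EEi (RRs S L Q)) (NN EEi Q.Mod) (CC EEi Q.Mod) T :=
    ⟨hFam, hT1, hT2, fun s hs D hD m => AsmTX.cj_C hFam h.two h.hf h.hno h4 hD (hFam.sinv s hs D hD) m⟩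
  exact ⟨MvH.HO (im Q (S : Subgroup G)) T D, MvH.S_le_HO, MvH.exists_mv hT hD, fun x hx z h1 h3 h5 B hB =>
    MvH.stab_FF hT hD h.hf hx h1 h3 h5 hB⟩

/-- **(M3n)** -/
theorem mv_big' (hL : IsLoc (S : Subgroup G) L) (h : Inp S L Q) (spl : Spl S L) {D : Subgroup (XH Q)}
    (hD : D ∈ FFs EEi (RRs S L Q)) {z : G}
    (hz : z ∈ zc (S : Subgroup G)) (hzU : z ∈ zl (S : Subgroup G) L) (hzD : Q.of z hzU ∉ CC EEi Q.Mod D) :
    ∃ R, IsParS (S : Subgroup G) R ∧ R ≤ L ∧ (EP (S : Subgroup G) R (zl (S : Subgroup G) L)).Nonempty ∧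
      ¬ R ≤ centralizer ({z} : Set G) := by
  obtain ⟨H, HO⟩ := hout_of hL h spl hD
  exact mv_big hL h hD HO hz hzU hzD

/-- **`MvBig`** -/
theorem mvBig (B : RB S) : MvEnd.MvBig S := fun _ h spl _ hD _ hz hU hzD =>
  mv_big' (isLoc_MZ B.ctx B.full B.data.noff) h spl hD hz hU hzD

end Cfsg.Agent.Omega.NOThreeL.RRed.Blk.MvNatH

end

section


/-!
# NO-3L, box R: the row `noMv` is void, over the inputs `FamOf.InN` of the nonsplit family

* `famOf_of` : `MvSpl.FamOf S` from `Blk.FamOf.InN` (the families of the nonsplit blocks, `Blk/FamOf.lean`);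
* `mvAct_of_inN` : `RB S`, `E1S S` ⟹ `MvAct S`;
* **`wNoMv_of_inN`** : `WideTree.WNoMv K (FBR E1Fr)`.
-/

set_option autoImplicit false

namespace Cfsg.Agent.Omega.NOThreeL.RRed.MvFam

open Subgroup Cfsg Cfsg.Agent.ZN Cfsg.Agent.Omega.MinPar
open Cfsg.Agent.Omega.Frame
open Cfsg.Agent.Omega.FFThm (NoOverM)
open Cfsg.Agent.Omega.NOThreeL.RSplit (Nrm)
open Cfsg.Agent.Omega.NOThreeL.RTree (RB)
open Cfsg.Agent.Omega.NOThreeL.Merge (MZ isLoc_MZ)
open Cfsg.Agent.Omega.NOThreeL.RRed.EOne (E1S)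
open Cfsg.Agent.Omega.NOThreeL.RRed.WideTree (MvAct)
open Cfsg.Agent.Omega.NOThreeL.RRed.GlueSig (FBR)
open Cfsg.Agent.Omega.NOThreeL.RRed.Blk

universe u

/-- the inputs of the nonsplit family, for every `Q` -/
def InAll {G : Type u} [Group G] [Finite G] (S : Sylow 2 G) : Prop :=
  NoOverM (zl (S : Subgroup G) (MZ (S : Subgroup G))) (normalizer (MZ (S : Subgroup G) : Set G)) →
    ∀ Q : Nrm (normalizer (MZ (S : Subgroup G) : Set G)) (zl (S : Subgroup G) (MZ (S : Subgroup G))), FamOf.InN S Q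

/-- **(M1), first half** -/
theorem famOf_of {G : Type u} [Group G] [Finite G] {S : Sylow 2 G} (B : RB S) (hI : InAll S) : MvSpl.FamOf S := by
  intro hn
  have hc := B.ctx.char2
  have hL := isLoc_MZ B.ctx B.full B.data.noff
  unfold AsmInp.Spl at hn
  push Not at hn
  obtain ⟨P, hP, hPL, ne, F, i1, i2, i3, k, M, hF, hns⟩ := hn
  have no := AsmInp.no_of_act B ((AsmInp.act_iff hc hP).2 ne)
  have hU2 := FFThm.elem_zl hc S hL
  let Q := FamOf.nrm_norm hL.le hU2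
  have I := hI (FamOf.no_norm hL.le no) Q
  obtain ⟨N, C, L, Z, Fa, -, hZ⟩ := FamOf.famN_of hc hL no Q I
  obtain ⟨D, hD⟩ := FamOf.exists_RRN hc hL no Q I hP ne M hF hns
  exact ⟨_, le_normalizer, Q, _, N, C, L, Z, D, Fa, Asm.le_FFs hD, hZ D (Asm.le_FFs hD)⟩

/-- `E1S` implies `MvAct` -/
theorem mvAct_of_inN {G : Type u} [Group G] [Finite G] {S : Sylow 2 G} (B : RB S) (he : E1S (S : Subgroup G))
    (hI : InAll S) : MvAct (S : Subgroup G) :=
  NoMvPlug.mvAct_of_e1s' B he (famOf_of B hI) (MvNatH.mvBig B)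

/-- **The row `noMv`.** -/
theorem wNoMv_of_inN (hI : ∀ (G : Type u) [Group G] [Finite G] (S : Sylow 2 G), RB S → InAll S) (K : Cls.{u}) :
    WideTree.WNoMv K (FBR EOne.E1Fr.{u}) :=
  NoMvPlug.wNoMv_of (fun G _ _ S B _ => famOf_of B (hI G S B)) (fun _ _ _ _ B _ => MvNatH.mvBig B) K

/-- the same, with the input of `RZ/TwoE/NsEnd` (`NsEnd.InB`) -/
theorem wNoMv_of_inB (inp : ∀ (G : Type u) [Group G] [Finite G] (S : Sylow 2 G), RB S →
      NoOverM (zl (S : Subgroup G) (MZ (S : Subgroup G))) (MZ (S : Subgroup G)) →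
      ∀ Q : Nrm (normalizer (MZ (S : Subgroup G) : Set G)) (zl (S : Subgroup G) (MZ (S : Subgroup G))), FamOf.InN S Q)
    (K : Cls.{u}) : WideTree.WNoMv K (FBR EOne.E1Fr.{u}) :=
  wNoMv_of_inN (fun G _ _ S B no => inp G S B fun A hA hE => no A (hA.trans le_normalizer) hE) K

end Cfsg.Agent.Omega.NOThreeL.RRed.MvFam

end

section


/-!
# NO-3L, box R: the group `T = clo up lo` of a natural block is transitive on `N \ {1}` (for 329's / 283's `MixDec`)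

* **`exists_tr`** : `T ≤ H`, `T` centralises `C`, normalises `N` and is transitive on `N \ {1}` (in `G`).
-/

set_option autoImplicit false
set_option linter.unusedSectionVars false

namespace Cfsg.Agent.Omega.NOThreeL.RRed.Blk.AsmTr

open Subgroup Cfsg
open Cfsg.Agent.Omega.NOThreeL.RSplit (Nrm)
open Cfsg.Agent.Omega.NOThreeL.RRed.NS (un val_mem_un)
open Cfsg.Agent.Omega.NOThreeL.RRed.Blk.TypesNat (XH ph ph_smul ph_surj XH_faith)
open Cfsg.Agent.Omega.NOThreeL.RRed.Blk.Asm (NB)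
open Cfsg.Agent.Omega.NOThreeL.RRed.Blk.AsmT
open Cfsg.Agent.Omega.NOThreeL.RRed.Blk.AsmSL
open Cfsg.Agent.Omega.NOThreeL.RRed.Blk.AsmNBs (ov mem_ov mem_cent_un)
open scoped Pointwise

universe u v w

/-! ### `SL₂(F)` -/

/-- a matrix with the given first column -/
theorem exists_col {F : Type w} [Field F] (a : Fin 2 → F) (ha : a ≠ 0) :
    ∃ B : Matrix.SpecialLinearGroup (Fin 2) F, B.1.mulVec ![1, 0] = a := by
  by_cases h0 : a 0 = 0
  · have h1 : a 1 ≠ 0 := fun h1 => ha (by funext i; fin_cases i; exacts [h0, h1])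
    refine ⟨⟨!![0, -(a 1)⁻¹; a 1, 0], by rw [Matrix.det_fin_two_of]; field_simp; ring⟩, ?_⟩
    funext i
    fin_cases i <;> simp [Matrix.mulVec, dotProduct, Fin.sum_univ_two, h0]
  · refine ⟨⟨!![a 0, 0; a 1, (a 0)⁻¹], by rw [Matrix.det_fin_two_of]; field_simp; ring⟩, ?_⟩
    funext i
    fin_cases i <;> simp [Matrix.mulVec, dotProduct, Fin.sum_univ_two]

theorem exists_mat {F : Type w} [Field F] {a b : Fin 2 → F} (ha : a ≠ 0) (hb : b ≠ 0) :
    ∃ B : Matrix.SpecialLinearGroup (Fin 2) F, B.1.mulVec a = b := by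
  obtain ⟨A, hA⟩ := exists_col a ha
  obtain ⟨B, hB⟩ := exists_col b hb
  refine ⟨B * A⁻¹, ?_⟩
  rw [Matrix.SpecialLinearGroup.coe_mul, ← Matrix.mulVec_mulVec]
  have h1 : (A⁻¹).1.mulVec a = ![1, 0] := by
    rw [← hA, Matrix.mulVec_mulVec, ← Matrix.SpecialLinearGroup.coe_mul, inv_mul_cancel,
      Matrix.SpecialLinearGroup.coe_one, Matrix.one_mulVec]
  rw [h1, hB]

/-! ### module level -/

section mod

variable {X : Type u} {V : Type v} [Group X] [AddCommGroup V] [DistribMulAction X V]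

/-- `T` is transitive on the nonzero vectors of `N` -/
theorem NBT.tr {D T : Subgroup X} {N C : AddSubgroup V} (h : NBT D T N C) {x y : V} (hx : x ∈ N) (hx0 : x ≠ 0)
    (hy : y ∈ N) (hy0 : y ≠ 0) : ∃ t ∈ T, t • x = y := by
  obtain ⟨F, i1, i2, e, f, up, lo, h1, h2, h3, h4⟩ := h.ex
  rw [← h4] at hx hy
  obtain ⟨_, ⟨a, rfl⟩, _, ⟨b, rfl⟩, rfl⟩ := AddSubgroup.mem_sup.1 hx
  obtain ⟨_, ⟨c, rfl⟩, _, ⟨d, rfl⟩, rfl⟩ := AddSubgroup.mem_sup.1 hy
  have ha : (![a, b] : Fin 2 → F) ≠ 0 := fun e0 => hx0 (by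
    have e1 := congrFun e0 0
    have e2 := congrFun e0 1
    simp only [Matrix.cons_val_zero, Matrix.cons_val_one, Pi.zero_apply] at e1 e2
    rw [e1, e2, map_zero, map_zero, add_zero])
  have hb : (![c, d] : Fin 2 → F) ≠ 0 := fun e0 => hy0 (by
    have e1 := congrFun e0 0
    have e2 := congrFun e0 1
    simp only [Matrix.cons_val_zero, Matrix.cons_val_one, Pi.zero_apply] at e1 e2
    rw [e1, e2, map_zero, map_zero, add_zero])
  obtain ⟨B, hB⟩ := exists_mat ha hb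
  obtain ⟨t, ht, hBt⟩ := exists_sla h1 B
  refine ⟨t, h3 ▸ ht, ?_⟩
  have h5 := hBt.act ![a, b]
  rw [hB] at h5
  simpa using h5

end mod

/-! ### in `G` -/

variable {G : Type u} [Group G] {H U : Subgroup G} (Q : Nrm H U)

/-- **`T` in `G`** -/
theorem exists_tr_of {D T : Subgroup (XH Q)} {N C : AddSubgroup Q.Mod} (h : NBT D T N C) :
    ov Q T ≤ H ∧ ov Q T ≤ centralizer (un Q C : Set G) ∧ ov Q T ≤ normalizer (un Q N : Set G) ∧
      ∀ x ∈ un Q N, x ≠ 1 → ∀ y ∈ un Q N, y ≠ 1 → ∃ t ∈ ov Q T, t * x * t⁻¹ = y := by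
  refine ⟨?_, ?_, ?_, ?_⟩
  · intro g hg
    obtain ⟨x, rfl, -⟩ := (mem_ov Q).1 hg
    exact x.2
  · intro g hg
    obtain ⟨x, rfl, hx⟩ := (mem_ov Q).1 hg
    refine (mem_cent_un Q).2 fun m hm => ?_
    rw [← ph_smul]
    exact h.cent hx hm
  · have key : ∀ g ∈ ov Q T, ∀ v ∈ un Q N, g * v * g⁻¹ ∈ un Q N := by
      rintro g hg _ ⟨m, hm, rfl⟩
      obtain ⟨x, rfl, hx⟩ := (mem_ov Q).1 hg
      rw [← Nrm.val_smul]
      refine ⟨x • m, ?_, rfl⟩
      rw [← ph_smul]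
      exact h.norm hx hm
    intro g hg
    refine mem_normalizer_iff.2 fun v => ⟨key g hg v, fun hv => ?_⟩
    have h1 := key g⁻¹ (inv_mem hg) _ hv
    have e : g⁻¹ * (g * v * g⁻¹) * g⁻¹⁻¹ = v := by group
    rwa [e] at h1
  · rintro _ ⟨m, hm, rfl⟩ hm1 _ ⟨n, hn, rfl⟩ hn1
    have hm0 : m ≠ 0 := fun e0 => hm1 (by rw [e0, Nrm.val_zero])
    have hn0 : n ≠ 0 := fun e0 => hn1 (by rw [e0, Nrm.val_zero])
    obtain ⟨t, ht, htm⟩ := NBT.tr h hm hm0 hn hn0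
    obtain ⟨x, rfl⟩ := ph_surj Q t
    refine ⟨x, (mem_ov Q).2 ⟨x, rfl, ht⟩, ?_⟩
    rw [ph_smul] at htm
    rw [← Nrm.val_smul, htm]

/-- **A group which centralises `C` and is transitive on `N \ {1}`.** -/
theorem exists_tr {D : Subgroup (XH Q)} {N C : AddSubgroup Q.Mod} (h : NB D N C) :
    ∃ T : Subgroup G, T ≤ H ∧ T ≤ centralizer (un Q C : Set G) ∧ T ≤ normalizer (un Q N : Set G) ∧
      ∀ x ∈ un Q N, x ≠ 1 → ∀ y ∈ un Q N, y ≠ 1 → ∃ t ∈ T, t * x * t⁻¹ = y := by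
  obtain ⟨T, hT⟩ := AsmT.NB.exists_nbt h
  exact ⟨ov Q T, exists_tr_of Q hT⟩

end Cfsg.Agent.Omega.NOThreeL.RRed.Blk.AsmTr

end

end
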